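import Cfsg.Agent.Leech.Stab.OrbitCert

/-!
Fast comparison of words as automorphisms of the lattice: all coordinate keys are moved at once, with one packed
number for each position.
-/

set_option autoImplicit false

namespace Cfsg.Lib.Leech.Mult

open Cfsg Cfsg.Lib.Golay Stab Finset

/-- Pack a list in fields of eight bits. -/
def pk : List ℕ → ℕ
  | [] => 0
  | a :: l => a + 256 * pk l

/-- The keys of the coordinate vectors. -/
def ks : List ℕ := (List.range 24).map fun i => packK (fun j => if i == j then 24 else 16) 24

/-- The constant thirty-two in each field. -/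
def c32 : ℕ := pk (ks.map fun _ => 32)

/-- The packed column. -/
def col (Ks : List ℕ) (i : ℕ) : ℕ := pk (Ks.map fun K => cv K i)

/-- The state of a list of keys. -/
def st (Ks : List ℕ) : List ℕ := (List.range 24).map (col Ks)

/-- One atom on a state. -/
def step (o : ℕ) : Atom → List ℕ → List ℕ
  | .perm g, S => (List.range 24).map fun i => S.getD (PermCert.ap g.2 i) 0
  | .flip m, S => (List.range 24).map fun i => if m.testBit i then o - S.getD i 0 else S.getD i 0
  | .xi, S => (List.range 24).map fun i =>
      let k := tetN.getD i 0
      let h := ((tetMem.getD k []).map fun j => S.getD j 0).sum / 2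
      if k = 0 then h - S.getD i 0 else S.getD i 0 + o - h

/-- The state of the coordinate keys. -/
def st0 : List ℕ := [393857363788968204789696591260088873167206616123233538072, 393857363788968204789696591260088873167206616123233540112, 393857363788968204789696591260088873167206616123234062352, 393857363788968204789696591260088873167206616123367755792, 393857363788968204789696591260088873167206616157593276432, 393857363788968204789696591260088873167206624919326560272, 393857363788968204789696591260088873167208867923047223312, 393857363788968204789696591260088873167783076875536961552, 393857363788968204789696591260088873314780568712909950992, 393857363788968204789696591260088910946138479080395247632, 393857363788968204789696591260098544573763533156631187472, 393857363788968204789696591262564753245777376673031786512, 393857363788968204789696591893914173281321316871585140752, 393857363788968204789696753519365702380570007701243826192, 393857363788968204789738129634957151788234860093867298832, 393857363788968204800330415226368200150437072605476294672, 393857363788968207511955526627596580874203475577379229712,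 393857363788968901687984045342062046158402636384530599952, 393857363789146610751284836245221158913387803015281381392, 393857363834640130956287307453954024189590460487481430032, 393857375480981303436919936889567534897470773370693881872, 393860356944321458478873072406626276114830871473081552912, 394623611559401149218875764773664027759015985684325339152, 590016793019801978659565010735328448670405223762734616592]

/-- The constant thirty-two in each field, evaluated. -/
def o32 : ℕ := 787714727577936409579393182520177746334413232246467076128

/-- A word on the state of the coordinate keys. -/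
def run (w : List Atom) : List ℕ := w.foldr (step o32) st0

/-- The comparison. -/
def eqW (w w' : List Atom) : Bool := run w == run w'

/-- The automorphism of a word. -/
noncomputable def el (w : List Atom) : Co0 := (w.map atomHom).prod

theorem el_append (a b : List Atom) : el (a ++ b) = el a * el b := by
  simp [el]

theorem pk_add {ι : Type} (f g : ι → ℕ) : ∀ l : List ι,
    pk (l.map fun x => f x + g x) = pk (l.map f) + pk (l.map g)
  | [] => rfl
  | a :: l => by simp only [List.map_cons, pk, pk_add f g l]; ring

theorem pk_two {ι : Type} (f : ι → ℕ) : ∀ l : List ι, pk (l.map fun x => 2 * f x) = 2 * pk (l.map f)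
  | [] => rfl
  | a :: l => by simp only [List.map_cons, pk, pk_two f l]; ring

theorem pk_inj {ι : Type} (f g : ι → ℕ) : ∀ l : List ι, (∀ x ∈ l, f x < 256 ∧ g x < 256) →
    pk (l.map f) = pk (l.map g) → ∀ x ∈ l, f x = g x
  | [], _, _ => by simp
  | a :: l, h, e => by
    simp only [List.map_cons, pk] at e
    have ha := h a List.mem_cons_self
    have e1 : f a = g a := by omega
    intro x hx
    rcases List.mem_cons.mp hx with rfl | hx
    · exact e1
    · exact pk_inj f g l (fun y hy => h y (List.mem_cons_of_mem _ hy)) (by omega) x hx

theorem pk_zero {ι : Type} : ∀ l : List ι, pk (l.map fun _ => 0) = 0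
  | [] => rfl
  | a :: l => by simp only [List.map_cons, pk, pk_zero l]

theorem pk_congr {ι : Type} {f g : ι → ℕ} {l : List ι} (h : ∀ x ∈ l, f x = g x) : pk (l.map f) = pk (l.map g) :=
  congrArg pk (List.map_congr_left h)

theorem getD_st (Ks : List ℕ) {i : ℕ} (hi : i < 24) : (st Ks).getD i 0 = col Ks i := by
  simp [st, hi]

theorem cv_perm {g : PermCert.PP} {K i : ℕ} (hi : i < 24) :
    cv ((Atom.perm g).act K) i = cv K (PermCert.ap g.2 i) :=
  cv_packK _ 24 (fun _ _ => Nat.mod_lt _ (by norm_num)) i hi

theorem cv_flip {m K i : ℕ} (hK : Short K) (hi : i < 24) :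
    cv ((Atom.flip m).act K) i = if m.testBit i then 32 - cv K i else cv K i :=
  cv_packK _ 24 (fun j hj => by have := hK.bound' hj; split <;> omega) i hi

theorem cv_xi {K i : ℕ} (hK : Short K) (hi : i < 24) :
    ((tetMem.getD (tetN.getD i 0) []).map (cv K)).sum = 2 * (((tetMem.getD (tetN.getD i 0) []).map (cv K)).sum / 2) ∧
      (tetN.getD i 0 = 0 → cv (Atom.xi.act K) i + cv K i = ((tetMem.getD (tetN.getD i 0) []).map (cv K)).sum / 2) ∧
      (tetN.getD i 0 ≠ 0 →
        cv (Atom.xi.act K) i + ((tetMem.getD (tetN.getD i 0) []).map (cv K)).sum / 2 = cv K i + 32) := by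
  obtain ⟨h, e⟩ := act_spec (a := Atom.xi) rfl hK
  have e1 : xi (dec K) = dec (Atom.xi.act K) := by
    have := congrArg Subtype.val e
    rwa [show atomHom Atom.xi = extra from rfl, extra_apply] at this
  have e2 := congrFun e1 (ptAt i)
  have hev := evenSums_of_mem hK.1 (tet (ptAt i))
  have hb := h.bound' hi
  have hp : pidx (ptAt i) = i := pidx_ptAt ⟨i, hi⟩
  simp only [xi, tsum'_dec, sgT] at e2 hev
  rw [tet_facts ⟨i, hi⟩] at e2 hev
  simp only [dec, co, hp] at e2
  have h0 : tet (ptAt i) = 0 ↔ tetN.getD i 0 = 0 := by
    rw [← tet_facts ⟨i, hi⟩]; exact ⟨fun e => by simp [e], fun e => Fin.ext e⟩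
  refine ⟨?_, fun h1 => ?_, fun h1 => ?_⟩
  · have : (2 : ℤ) ∣ ((((tetMem.getD (tetN.getD i 0) []).map (cv K)).sum : ℕ) : ℤ) - 64 := hev
    omega
  · simp only [if_pos (h0.mpr h1)] at e2
    omega
  · simp only [if_neg (fun e => h1 (h0.mp e))] at e2
    omega

theorem tet_lt : ∀ i : Fin 24, ∀ j ∈ tetMem.getD (tetN.getD i 0) [], j < 24 := by decide +kernel

theorem step_spec {Ks : List ℕ} (hlen : Ks.length = ks.length) (hKs : ∀ K ∈ Ks, Short K) {a : Atom}
    (ha : a.ok = true) : step c32 a (st Ks) = st (Ks.map a.act) := by
  have h32 : c32 = pk (Ks.map fun _ => 32) := by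
    simp [c32, List.map_const', hlen]
  cases a with
  | perm g =>
    have hv : PermCert.valid 24 g = true := by
      simp only [Atom.ok, preserves, Bool.and_eq_true] at ha; exact ha.1
    refine List.map_congr_left fun i hi => ?_
    have hi := List.mem_range.mp hi
    have hap : PermCert.ap g.2 i < 24 := by
      have := List.all_eq_true.mp hv i (List.mem_range.mpr hi)
      simp only [Bool.and_eq_true, beq_iff_eq, decide_eq_true_eq] at this
      omega
    rw [getD_st Ks hap, col, col, List.map_map]
    exact pk_congr fun K _ => (cv_perm hi).symm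
  | flip m =>
    refine List.map_congr_left fun i hi => ?_
    have hi := List.mem_range.mp hi
    rw [getD_st Ks hi, col, col, List.map_map]
    by_cases hm : m.testBit i
    · rw [if_pos hm, h32]
      refine Nat.sub_eq_of_eq_add ?_
      rw [← pk_add]
      refine pk_congr fun K hK => ?_
      simp only [Function.comp_apply, cv_flip (hKs K hK) hi, if_pos hm]
      have := (hKs K hK).bound' hi
      omega
    · rw [if_neg hm]
      exact pk_congr fun K hK => by simp only [Function.comp_apply, cv_flip (hKs K hK) hi, if_neg hm]
  | xi =>
    refine List.map_congr_left fun i hi => ?_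
    have hi := List.mem_range.mp hi
    simp only []
    set L := tetMem.getD (tetN.getD i 0) [] with hL
    have hsum : (L.map fun j => (st Ks).getD j 0).sum = pk (Ks.map fun K => (L.map (cv K)).sum) := by
      have hlt : ∀ j ∈ L, j < 24 := tet_lt ⟨i, hi⟩
      clear_value L
      clear hL
      induction L with
      | nil =>
        simp only [List.map_nil, List.sum_nil]
        exact (pk_zero Ks).symm
      | cons j L ih =>
        simp only [List.map_cons, List.sum_cons]
        rw [ih fun q hq => hlt q (List.mem_cons_of_mem _ hq), getD_st Ks (hlt j List.mem_cons_self), col, ← pk_add]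
    have hhalf : pk (Ks.map fun K => (L.map (cv K)).sum) = 2 * pk (Ks.map fun K => (L.map (cv K)).sum / 2) := by
      rw [← pk_two]
      exact pk_congr fun K hK => (cv_xi (hKs K hK) hi).1
    rw [hsum, hhalf, Nat.mul_div_cancel_left _ (by norm_num : 0 < 2), getD_st Ks hi, h32, col, col, List.map_map]
    by_cases h0 : tetN.getD i 0 = 0
    · rw [if_pos h0]
      refine Nat.sub_eq_of_eq_add ?_
      rw [← pk_add]
      exact pk_congr fun K hK => ((cv_xi (hKs K hK) hi).2.1 h0).symm
    · rw [if_neg h0]
      refine Nat.sub_eq_of_eq_add ?_
      rw [← pk_add, ← pk_add]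
      exact pk_congr fun K hK => ((cv_xi (hKs K hK) hi).2.2 h0).symm

theorem ks_ok : ks.all (fun K => inL (dec K) && decide (Cfsg.sqNorm (dec K) ≤ 64)) = true ∧
    ∀ i : Fin 24, dec (ks.getD i 0) = Pi.single (ptAt i) 8 := by decide +kernel

theorem short_of_check {K : ℕ} (h : (inL (dec K) && decide (Cfsg.sqNorm (dec K) ≤ 64)) = true) : Short K := by
  simp only [Bool.and_eq_true, decide_eq_true_eq] at h
  exact ⟨mem_of_inL h.1, h.2⟩

theorem ks_short : ∀ K ∈ ks, Short K := fun _ hK => short_of_check (List.all_eq_true.mp ks_ok.1 _ hK)

theorem st0_eq : st0 = st ks ∧ o32 = c32 := by decide +kernel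

theorem run_spec : ∀ w : List Atom, w.all (·.ok) = true → run w = st (ks.map (evalW w))
  | [], _ => by
    rw [show evalW [] = id from rfl, List.map_id]
    exact st0_eq.1
  | a :: w, h => by
    simp only [List.all_cons, Bool.and_eq_true] at h
    rw [show run (a :: w) = step o32 a (run w) from rfl, st0_eq.2, run_spec w h.2, step_spec (by simp) ?_ h.1, List.map_map]
    · rfl
    · intro K hK
      obtain ⟨K', hK', rfl⟩ := List.mem_map.mp hK
      exact (evalW_spec h.2 (ks_short K' hK')).1

theorem el_smul {w : List Atom} (hw : w.all (·.ok) = true) {K : ℕ} (hK : Short K) :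
    ∃ h : Short (evalW w K), el w • (⟨dec K, hK.1⟩ : leechLattice) = ⟨dec (evalW w K), h.1⟩ :=
  evalW_spec hw hK

theorem co0_ext_e8 {g h : Co0} (he : ∀ i, g • e8 i = h • e8 i) : g = h := by
  refine co0_ext fun v => ?_
  have h8 : (8 : ℤ) • (g • v) = (8 : ℤ) • (h • v) := by
    rw [← smul_zsmul', ← smul_zsmul', eight_smul, smul_sum', smul_sum']
    exact Finset.sum_congr rfl fun i _ => by rw [smul_zsmul', smul_zsmul', he]
  refine Subtype.ext (funext fun j => ?_)
  have := congrFun (congrArg Subtype.val h8) j
  simpa using this

theorem el_eq {w w' : List Atom} (hw : w.all (·.ok) = true) (hw' : w'.all (·.ok) = true)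
    (h : eqW w w' = true) : el w = el w' := by
  have hr : run w = run w' := beq_iff_eq.mp h
  rw [run_spec w hw, run_spec w' hw'] at hr
  refine co0_ext_e8 fun p => ?_
  obtain ⟨i, rfl⟩ : ∃ i : Fin 24, ptAt i = p := ⟨ptEquiv p, ptEquiv.symm_apply_apply p⟩
  have hmem : ks.getD i 0 ∈ ks := by
    rw [List.getD_eq_getElem _ _ (by simp [ks, i.2])]; exact List.getElem_mem _
  obtain ⟨s1, e1⟩ := el_smul hw (ks_short _ hmem)
  obtain ⟨s2, e2⟩ := el_smul hw' (ks_short _ hmem)
  have he : (e8 (ptAt i) : leechLattice) = ⟨dec (ks.getD i 0), (ks_short _ hmem).1⟩ := Subtype.ext (ks_ok.2 i).symm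
  rw [he, e1, e2]
  refine Subtype.ext (funext fun q => ?_)
  have hc : col (ks.map (evalW w)) (pidx q) = col (ks.map (evalW w')) (pidx q) :=
    List.map_inj_left.mp hr _ (List.mem_range.mpr (pidx_lt q))
  change pk ((ks.map (evalW w)).map fun K => cv K (pidx q)) = pk ((ks.map (evalW w')).map fun K => cv K (pidx q)) at hc
  simp only [List.map_map] at hc
  have h5 : cv (evalW w (ks.getD i 0)) (pidx q) = cv (evalW w' (ks.getD i 0)) (pidx q) :=
    pk_inj _ _ ks (fun K _ => ⟨lt_trans (Nat.mod_lt _ (by norm_num : 0 < 32)) (by norm_num),
      lt_trans (Nat.mod_lt _ (by norm_num : 0 < 32)) (by norm_num)⟩) hc _ hmem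
  show co _ (pidx q) = co _ (pidx q)
  rw [co, co, h5]

end Cfsg.Lib.Leech.Mult
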