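import Cfsg.Agent.Leech.Mult.Co0P2
import Cfsg.Agent.Leech.Mult.Co0P3
import Cfsg.Agent.Leech.Mult.Co0P5
import Cfsg.Agent.Leech.Mult.Co0P7
import Cfsg.Agent.Leech.Co1Simple
import Cfsg.Agent.Schur.Criteria
import Cfsg.Agent.Schur.UniversalCover
import Cfsg.Prelude.Def_Spor_Conway
import Cfsg.Prelude.Def_KGroupFacts

/-!
The automorphism group of the lattice is the full covering group of its simple quotient.
-/

set_option autoImplicit false

namespace Cfsg.Lib.Leech.Mult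

open Cfsg Cfsg.Lib.Golay Stab

theorem factorization_co0 {p k : ℕ} (hp : p.Prime) (h1 : p ^ k ∣ 8315553613086720000)
    (h2 : ¬ p ^ (k + 1) ∣ 8315553613086720000) : (Nat.card Co0).factorization p = k := by
  rw [card_co0]
  refine le_antisymm ?_ ((hp.pow_dvd_iff_le_factorization (by norm_num)).mp h1)
  by_contra h
  exact h2 ((hp.pow_dvd_iff_le_factorization (by norm_num)).mpr (by omega))

theorem prime_sq_co0 {p : ℕ} (hp : p.Prime) (h2 : p ^ 2 ∣ 8315553613086720000) :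
    p = 2 ∨ p = 3 ∨ p = 5 ∨ p = 7 := by
  have h1 : p ∣ 2 ^ 22 * 3 ^ 9 * 5 ^ 4 * 7 ^ 2 * (11 * 13 * 23) :=
    (dvd_pow_self p two_ne_zero).trans (by norm_num; exact h2)
  rcases hp.dvd_mul.mp h1 with h1 | h1
  · rcases hp.dvd_mul.mp h1 with h1 | h1
    · rcases hp.dvd_mul.mp h1 with h1 | h1
      · rcases hp.dvd_mul.mp h1 with h1 | h1
        · exact Or.inl ((Nat.prime_dvd_prime_iff_eq hp Nat.prime_two).mp (hp.dvd_of_dvd_pow h1))
        · exact Or.inr (Or.inl ((Nat.prime_dvd_prime_iff_eq hp Nat.prime_three).mp (hp.dvd_of_dvd_pow h1)))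
      · exact Or.inr (Or.inr (Or.inl ((Nat.prime_dvd_prime_iff_eq hp Nat.prime_five).mp (hp.dvd_of_dvd_pow h1))))
    · exact Or.inr (Or.inr (Or.inr ((Nat.prime_dvd_prime_iff_eq hp (by norm_num)).mp (hp.dvd_of_dvd_pow h1))))
  · rcases hp.dvd_mul.mp h1 with h1 | h1
    · rcases hp.dvd_mul.mp h1 with h1 | h1
      · rw [(Nat.prime_dvd_prime_iff_eq hp (by norm_num)).mp h1] at h2; norm_num at h2
      · rw [(Nat.prime_dvd_prime_iff_eq hp (by norm_num)).mp h1] at h2; norm_num at h2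
    · rw [(Nat.prime_dvd_prime_iff_eq hp (by norm_num)).mp h1] at h2; norm_num at h2

theorem co0_ker {Γ : Type} [Group Γ] [Finite Γ] {σ : Γ →* Co0} (hσ : Cfsg.IsStemExtension σ) : σ.ker = ⊥ := by
  haveI : Finite Co0 := Nat.finite_of_card_ne_zero (by rw [card_co0]; norm_num)
  have hi : Function.Injective (MonoidHom.id Co0) := Function.injective_id
  have hl : ∀ w : List Atom, wordsOK [] [w] = true → ∃ q : Co0, MonoidHom.id Co0 q = el w :=
    fun w _ => ⟨el w, rfl⟩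
  refine Cfsg.Lib.Schur.ker_eq_bot_of_sylow hσ fun p hp => ?_
  haveI := hp
  by_cases h2 : p ^ 2 ∣ 8315553613086720000
  · rcases prime_sq_co0 hp.out h2 with rfl | rfl | rfl | rfl
    · exact Co0P2.cert.exists_sylow (not_dvd_ker _ hi [] hl Co0P2.cert (show Nat.Prime 2 by norm_num)
        Co0P2.cert_ok Co0P2.pcw Co0P2.fw Co0P2.pcw_ok.1 Co0P2.pcw_ok.2 Co0P2.rows_ok Co0P2.fus_ok Co0P2.orbs
        (fun k hk => List.all_eq_true.mp Co0P2.orbs_ok k (List.mem_range.mpr hk))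
        (factorization_co0 (p := 2) (k := 22) (by norm_num) (by norm_num) (by norm_num)) hσ)
    · exact Co0P3.cert.exists_sylow (not_dvd_ker _ hi [] hl Co0P3.cert (show Nat.Prime 3 by norm_num)
        Co0P3.cert_ok Co0P3.pcw Co0P3.fw Co0P3.pcw_ok.1 Co0P3.pcw_ok.2 Co0P3.rows_ok Co0P3.fus_ok Co0P3.orbs
        (fun k hk => List.all_eq_true.mp Co0P3.orbs_ok k (List.mem_range.mpr hk))
        (factorization_co0 (p := 3) (k := 9) (by norm_num) (by norm_num) (by norm_num)) hσ)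
    · exact Co0P5.cert.exists_sylow (not_dvd_ker _ hi [] hl Co0P5.cert (show Nat.Prime 5 by norm_num)
        Co0P5.cert_ok Co0P5.pcw Co0P5.fw Co0P5.pcw_ok.1 Co0P5.pcw_ok.2 Co0P5.rows_ok Co0P5.fus_ok Co0P5.orbs
        (fun k hk => List.all_eq_true.mp Co0P5.orbs_ok k (List.mem_range.mpr hk))
        (factorization_co0 (p := 5) (k := 4) (by norm_num) (by norm_num) (by norm_num)) hσ)
    · exact Co0P7.cert.exists_sylow (not_dvd_ker _ hi [] hl Co0P7.cert (show Nat.Prime 7 by norm_num)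
        Co0P7.cert_ok Co0P7.pcw Co0P7.fw Co0P7.pcw_ok.1 Co0P7.pcw_ok.2 Co0P7.rows_ok Co0P7.fus_ok Co0P7.orbs
        (fun k hk => List.all_eq_true.mp Co0P7.orbs_ok k (List.mem_range.mpr hk))
        (factorization_co0 (p := 7) (k := 2) (by norm_num) (by norm_num) (by norm_num)) hσ)
  · exact Cfsg.Lib.Schur.exists_sylow_cyclic hσ (by rwa [card_co0])

theorem co1_multiplier : Cfsg.HasCyclicSchurMultiplier Cfsg.Spor.Co1 2 := by
  haveI : Finite Co0 := Nat.finite_of_card_ne_zero (by rw [card_co0]; norm_num)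
  refine Cfsg.Lib.Schur.hasCyclicSchurMultiplier_of_cover (QuotientGroup.mk' (Subgroup.center Co0))
    ⟨QuotientGroup.mk'_surjective _, ?_, ?_⟩ commutator_co0 (fun Δ _ _ τ hτ => co0_ker hτ) ?_ ?_
  · rw [QuotientGroup.ker_mk']
  · rw [commutator_co0]; exact le_top
  · rw [QuotientGroup.ker_mk']
    haveI : Fact (Nat.Prime 2) := ⟨Nat.prime_two⟩
    exact isCyclic_of_prime_card card_center
  · rw [QuotientGroup.ker_mk', card_center]

end Cfsg.Lib.Leech.Mult
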