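import Cfsg.Agent.Leech.Mult.Group
import Cfsg.Agent.Schur.PrimeCertLit

/-!
Certificate data for the prime 2 in the automorphism group of the lattice.
-/

set_option autoImplicit false
set_option maxRecDepth 20000
set_option maxHeartbeats 4000000

namespace Cfsg.Lib.Leech.Mult.Co0P2

open Cfsg.Lib.Leech.Stab
open Cfsg.Lib.Schur.Prime (Cert)

/-- Keys of the fixed vectors. -/
def fixed : List ℕ := []

/-- The certificate. -/
def cert : Cert where
  p := 2
  n := 22
  tails := [
    [[]],
    [[0, 1, 2], []],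
    [[0, 2], [1, 2], []],
    [[0, 3], [1, 3, 4], [2, 3, 5], []],
    [[0, 4, 5], [1, 4], [2, 4], [3, 4], []],
    [[0, 5], [1, 5], [2, 5], [3, 5], [4, 5], []],
    [[0, 6, 9], [1, 6, 9], [2, 6], [3, 6, 7, 9], [4, 6, 8, 9], [5, 6, 9], []],
    [[0, 7], [1, 7, 8], [2, 7, 9], [3, 7], [4, 7, 9], [5, 7], [6, 7], []],
    [[0, 8, 9], [1, 8], [2, 8], [3, 8, 9], [4, 8], [5, 8], [6, 8], [7, 8], []],
    [[0, 9], [1, 9], [2, 9], [3, 9], [4, 9], [5, 9], [6, 9], [7, 9], [8, 9], []],
    [[0, 10, 21], [1, 10, 11, 13, 14, 16, 20], [2, 10, 14, 16], [3, 10], [4, 10, 12, 15, 16, 21], [5, 10, 15, 17, 18, 19, 20, 21], [6, 10, 13, 18], [7, 10], [8, 10, 13, 16, 19], [9, 10, 16, 18, 19, 20], []],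
    [[0, 11, 14], [1, 11, 19, 20], [2, 11], [3, 11, 12, 19, 20], [4, 11, 19, 20], [5, 11, 17, 18, 19, 20], [6, 11, 16, 19], [7, 11, 13, 18, 19, 20], [8, 11, 18], [9, 11, 18, 19, 20], [10, 11], []],
    [[0, 12, 15, 17, 18], [1, 12, 19, 20], [2, 12, 17, 18], [3, 12], [4, 12], [5, 12, 19, 20], [6, 12, 13, 16, 18, 19, 20], [7, 12, 16, 18, 19], [8, 12, 18, 19, 20], [9, 12, 19, 20], [10, 12], [11, 12], []],
    [[0, 13, 16, 18, 19], [1, 13, 18, 20], [2, 13, 18, 19], [3, 13, 16, 18, 20], [4, 13, 18, 19], [5, 13, 19, 20], [6, 13, 20], [7, 13, 20], [8, 13, 20], [9, 13, 20], [10, 13], [11, 13], [12, 13], []],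
    [[0, 14], [1, 14], [2, 14], [3, 14, 15, 17, 18], [4, 14, 17, 18, 19, 20, 21], [5, 14, 21], [6, 14, 18, 19, 20], [7, 14, 16, 18, 19], [8, 14, 18, 19, 20], [9, 14], [10, 14], [11, 14], [12, 14], [13, 14], []],
    [[0, 15, 21], [1, 15, 17, 18, 21], [2, 15, 21], [3, 15, 19, 20], [4, 15, 19, 20], [5, 15], [6, 15, 16, 19], [7, 15, 19, 20], [8, 15, 19, 20], [9, 15], [10, 15], [11, 15], [12, 15], [13, 15], [14, 15], []],
    [[0, 16], [1, 16, 18, 19], [2, 16], [3, 16, 19, 20], [4, 16, 19, 20], [5, 16], [6, 16, 20], [7, 16, 20], [8, 16, 20], [9, 16], [10, 16], [11, 16], [12, 16], [13, 16], [14, 16], [15, 16], []],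
    [[0, 17, 21], [1, 17], [2, 17], [3, 17], [4, 17], [5, 17], [6, 17, 18, 19, 20], [7, 17, 19], [8, 17], [9, 17], [10, 17], [11, 17], [12, 17], [13, 17], [14, 17], [15, 17], [16, 17], []],
    [[0, 18], [1, 18], [2, 18], [3, 18, 19, 20], [4, 18], [5, 18], [6, 18, 20], [7, 18, 20], [8, 18], [9, 18], [10, 18], [11, 18], [12, 18], [13, 18], [14, 18], [15, 18], [16, 18], [17, 18], []],
    [[0, 19], [1, 19], [2, 19], [3, 19], [4, 19], [5, 19], [6, 19, 20], [7, 19], [8, 19], [9, 19], [10, 19], [11, 19], [12, 19], [13, 19], [14, 19], [15, 19], [16, 19], [17, 19], [18, 19], []],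
    [[0, 20], [1, 20], [2, 20], [3, 20], [4, 20], [5, 20], [6, 20], [7, 20], [8, 20], [9, 20], [10, 20], [11, 20], [12, 20], [13, 20], [14, 20], [15, 20], [16, 20], [17, 20], [18, 20], [19, 20], []],
    [[0, 21], [1, 21], [2, 21], [3, 21], [4, 21], [5, 21], [6, 21], [7, 21], [8, 21], [9, 21], [10, 21], [11, 21], [12, 21], [13, 21], [14, 21], [15, 21], [16, 21], [17, 21], [18, 21], [19, 21], [20, 21], []]]
  overlaps := [([1, 0, 0], 1), ([1, 1, 0], 1), ([3, 1, 1], 1), ([3, 3, 1], 1), ([3, 1, 0], 1), ([3, 2, 2], 1), ([3, 3, 2], 1), ([3, 2, 0], 1), ([3, 2, 1], 1), ([4, 0, 0], 1), ([4, 4, 0], 1), ([6, 0, 0], 1), ([6, 6, 0], 1), ([6, 1, 1], 1), ([6, 1, 0], 1), ([6, 2, 0], 1), ([6, 3, 3], 1), ([6, 6, 3], 1), ([6, 3, 0], 1), ([6, 3, 1], 1), ([6, 3, 2], 1), ([6, 4, 4], 1), ([6, 6, 4], 1), ([6, 4, 0], 1), ([6, 4, 1], 1), ([6, 4, 2], 1), ([6, 4, 3], 1), ([6, 5, 5], 1), ([6, 5, 3], 1), ([6, 5, 4], 1), ([7, 1, 1], 1), ([7, 7, 1], 1), ([7, 1, 0], 1), ([7, 2, 2], 1), ([7, 7, 2], 1), ([7,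 2, 1], 1), ([7, 3, 1], 1), ([10, 0, 0], 1), ([10, 10, 0], 1), ([10, 1, 1], 1), ([10, 10, 1], 1), ([10, 1, 0], 1), ([10, 2, 2], 1), ([10, 10, 2], 1), ([10, 2, 0], 1), ([10, 2, 1], 1), ([10, 3, 0], 1), ([10, 3, 1], 1), ([10, 3, 2], 1), ([10, 4, 4], 1), ([10, 10, 4], 1), ([10, 4, 0], 1), ([10, 4, 1], 1), ([10, 4, 2], 1), ([10, 4, 3], 1), ([10, 5, 5], 1), ([10, 10, 5], 1), ([10, 5, 0], 1), ([10, 5, 1], 1), ([10, 5, 2], 1), ([10, 5, 3], 1), ([10, 5, 4], 1), ([10, 6, 6], 1), ([10, 10, 6], 1), ([10, 6, 0], 1), ([10, 6, 1], 1), ([10, 6, 2], 1), ([10, 6, 3], 1), ([10, 6, 4], 1), ([10, 6, 5], 1), ([10, 7, 0], 1), ([10, 7, 1], 1), ([10, 7, 2], 1), ([10, 7, 4], 1), ([10, 7, 5], 1), ([10, 7, 6], 1), ([10, 8, 8], 1), ([10, 10, 8], 1), ([10, 8, 0], 1), ([10, 8, 1], 1), ([10, 8, 2], 1), ([10, 8, 3], 1), ([10, 8, 4], 1), ([10, 8, 5], 1), ([10, 8, 6], 1), ([10, 8, 7], 1), ([10, 9, 9], 1), ([10, 10, 9], 1), ([10, 9, 0], 1), ([10, 9, 1], 1), ([10, 9, 2], 1), ([10, 9, 3], 1), ([10, 9, 4], 1), ([10,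 9, 5], 1), ([10, 9, 6], 1), ([10, 9, 7], 1), ([10, 9, 8], 1), ([11, 0, 0], 1), ([11, 11, 0], 1), ([11, 1, 1], 1), ([11, 11, 1], 1), ([11, 1, 0], 1), ([11, 2, 0], 1), ([11, 2, 1], 1), ([11, 3, 3], 1), ([11, 11, 3], 1), ([11, 3, 0], 1), ([11, 3, 1], 1), ([11, 3, 2], 1), ([11, 4, 4], 1), ([11, 4, 0], 1), ([11, 4, 3], 1), ([11, 5, 5], 1), ([11, 11, 5], 1), ([11, 5, 0], 1), ([11, 5, 1], 1), ([11, 5, 2], 1), ([11, 5, 3], 1), ([11, 5, 4], 1), ([11, 6, 6], 1), ([11, 11, 6], 1), ([11, 6, 0], 1), ([11, 6, 1], 1), ([11, 6, 2], 1), ([11, 6, 3], 1), ([11, 6, 4], 1), ([11, 6, 5], 1), ([11, 7, 7], 1), ([11, 11, 7], 1), ([11, 7, 0], 1), ([11, 7, 1], 1), ([11, 7, 2], 1), ([11, 7, 3], 1), ([11, 7, 4], 1), ([11, 7, 5], 1), ([11, 7, 6], 1), ([11, 8, 8], 1), ([11, 11, 8], 1), ([11, 8, 0], 1), ([11, 8, 1], 1), ([11, 8, 2], 1), ([11, 8, 3], 1), ([11, 8, 4], 1), ([11, 8, 5], 1), ([11, 8, 7], 1), ([11, 9, 9], 1), ([11, 11, 9], 1), ([11, 9, 0], 1), ([11, 9, 1], 1), ([11, 9, 3], 1), ([11, 9, 5], 1), ([11,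 9, 6], 1), ([11, 9, 7], 1), ([11, 10, 0], 1), ([11, 10, 1], 1), ([11, 10, 2], 1), ([11, 10, 3], 1), ([11, 10, 4], 1), ([11, 10, 5], 1), ([11, 10, 6], 1), ([11, 10, 7], 1), ([11, 10, 9], 1), ([12, 0, 0], 1), ([12, 12, 0], 1), ([12, 12, 1], 1), ([12, 1, 0], 1), ([12, 2, 2], 1), ([12, 12, 2], 1), ([12, 2, 0], 1), ([12, 2, 1], 1), ([12, 3, 0], 1), ([12, 3, 1], 1), ([12, 3, 2], 1), ([12, 4, 0], 1), ([12, 6, 6], 1), ([12, 12, 6], 1), ([12, 6, 0], 1), ([12, 6, 1], 1), ([12, 6, 2], 1), ([12, 6, 3], 1), ([12, 6, 4], 1), ([12, 6, 5], 1), ([12, 7, 7], 1), ([12, 12, 7], 1), ([12, 7, 0], 1), ([12, 7, 1], 1), ([12, 7, 2], 1), ([12, 7, 3], 1), ([12, 7, 4], 1), ([12, 7, 5], 1), ([12, 7, 6], 1), ([12, 8, 8], 1), ([12, 12, 8], 1), ([12, 8, 0], 1), ([12, 8, 2], 1), ([12, 8, 6], 1), ([12, 8, 7], 1), ([12, 9, 0], 1), ([12, 9, 2], 1), ([12, 9, 6], 1), ([12, 9, 7], 1), ([12, 9, 8], 1), ([12, 10, 0], 1), ([12, 10, 1], 1), ([12, 10, 2], 1), ([12, 10, 6], 1), ([12, 10, 7], 1), ([12, 10, 9], 1), ([12,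 11, 0], 1), ([13, 1, 0], 1), ([13, 2, 0], 1), ([13, 5, 1], 1), ([13, 10, 0], 1), ([14, 3, 3], 1), ([14, 3, 1], 1), ([14, 3, 2], 1)]
  fuse := [
    ([[0, 3, 5, 7, 9], [3, 5, 7, 9], [5, 7], [7], [10, 11, 13, 14, 15, 17, 20], [11, 13, 14, 16, 17, 18, 20, 21], [12, 13, 15, 16, 18, 19, 21], [13, 16, 19], [14, 15, 17, 18], [15, 16, 17, 19, 21], [16, 18], [17, 18, 19, 20, 21], [18, 19], [19, 20], [20], [21]],
      [[3, 7, 12, 13, 18], [5, 9, 17, 19], [0, 3, 9, 12, 14, 15, 17, 19], [0, 5, 14, 16, 17, 19, 21], [10, 11, 13, 14, 15, 16, 19], [11, 13, 17, 18, 20], [17, 19], [14, 16, 17, 19], [12, 13, 17, 18], [19], [21], [12, 15, 16, 21], [10, 12, 13, 14, 15, 16, 17, 18, 20], [15, 17, 18, 19, 20, 21], [16, 18, 20, 21], [16, 18]],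
      [([0, 0], []), ([1, 0], [0, 1]), ([1, 1], []), ([2, 1], [1, 2]), ([4, 0], [0, 4, 6, 8, 9, 13, 14]), ([4, 1], [1, 4, 6, 9, 13, 14]), ([4, 2], [2, 4, 7, 9, 10, 11, 13, 14]), ([4, 4], []), ([5, 0], [0, 5, 6, 8]), ([5, 1], [1, 5, 6]), ([5, 2], [2, 5, 7, 11]), ([6, 2], [2, 6, 10]), ([12, 4], [4, 12]), ([12, 12], [])]),
    ([[1, 5, 6, 9], [2, 4, 9], [4, 6, 8, 9], [5, 6, 9], [6, 8], [8, 9], [9], [10, 11, 13, 14, 15, 17, 20], [11, 13, 14, 16, 17, 18, 20, 21], [12, 13, 15, 17, 18, 19, 20], [13, 18, 19, 20], [14, 16, 17, 20], [15, 16, 19], [16, 20], [17, 20, 21], [18, 19, 20], [19, 20], [20], [21]],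
      [[0, 3, 5, 9, 12, 14, 17, 19, 20], [1, 2, 4, 8, 9, 17, 18], [0, 1, 2, 3, 12, 14, 18, 19, 21], [0, 1, 2, 3, 4, 9, 12, 14, 17, 18, 19], [0, 2, 3, 4, 5, 12, 14, 17, 18], [2, 4, 5], [2, 4, 17, 18], [10, 15, 19, 20, 21], [11, 12, 13, 14, 15, 18, 21], [11, 13, 14, 15, 16, 17, 18, 19, 21], [12, 14, 17, 18, 21], [13, 17, 18, 20, 21], [11, 13, 16, 17, 19], [12, 14, 15, 17, 18, 19, 20, 21], [17, 20, 21], [21], [17, 18, 19, 20, 21], [19, 20, 21], [19]],
      [([0, 0], []), ([1, 0], [0, 1, 5]), ([1, 1], []), ([2, 0], [0, 2, 5]), ([2, 1], [1, 2, 5]), ([3, 1], [1, 3, 5]), ([4, 0], [0, 4]), ([4, 1], [1, 4, 5]), ([7, 4], [4, 7, 13, 15, 17]), ([7, 5], [5, 7, 10, 15, 16]), ([7, 6], [6, 7, 13]), ([8, 0], [0, 8, 13, 14, 15]), ([8, 2], [2, 8, 13, 14, 17]), ([8, 5], [5, 8, 15, 16, 17]), ([8, 6], [6, 8, 15, 17]), ([9, 3], [3, 9, 10, 15])]),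
    ([[0, 1, 3, 4, 7], [1, 5, 8], [2, 4, 5, 8], [3, 5, 8], [4, 5, 8, 9], [5, 9], [8, 9], [9], [11, 13, 14, 16, 17, 18, 20, 21], [12, 15, 16, 18, 19, 21], [13, 14, 15, 18, 19, 20], [14, 15, 16, 17, 18, 19, 21], [15, 16, 18, 19, 21], [16, 17, 18, 19, 20], [17, 18, 19, 20, 21], [18, 19], [19, 20], [20], [21]],
      [[6, 12, 14, 19], [12, 16, 17, 20], [13, 16, 20], [0, 5, 11, 15], [11, 16, 17, 19], [16, 18, 20], [11, 15, 21], [14, 17, 18, 19, 20], [1, 2, 4, 8, 17], [2, 5, 9, 17], [2, 5, 8, 9, 17, 18, 19, 20, 21], [1, 2, 9, 17, 19, 20, 21], [9, 17, 18, 20, 21], [2, 9, 18, 20, 21], [17, 18], [17, 21], [21], [18, 19, 20, 21], [18, 19]],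
      [([3, 0], [0, 3, 4, 5, 6]), ([3, 1], [1, 3, 4, 5, 6])])]
  delta := [
    [],
    [],
    [(22, 1)],
    [],
    [(67, 1)],
    [(68, 1)],
    [],
    [(132, 1), (135, 1)],
    [(132, 1), (136, 1)],
    [(132, 1)],
    [],
    [(221, 1), (228, 1), (242, 1), (243, 1)],
    [(243, 1), (245, 1)],
    [(222, 1), (226, 1), (229, 1), (242, 1), (243, 1)],
    [(242, 1)],
    [(220, 1), (222, 1), (224, 1), (242, 1), (243, 1), (245, 1)],
    [(222, 1), (242, 1)],
    [(224, 1), (225, 1), (229, 1), (243, 1), (245, 1)],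
    [(222, 1), (229, 1), (242, 1), (243, 1)],
    [(226, 1), (228, 1), (229, 1), (243, 1)],
    [(226, 1), (228, 1), (229, 1)],
    [(220, 1)]]
  sels := [
    [[(7, 1), (9, 1), (27, 1), (38, 1), (46, 1), (49, 1), (50, 1), (54, 1), (55, 1), (61, 1), (62, 1), (63, 1), (64, 1), (68, 1), (70, 1), (71, 1), (74, 1), (75, 1), (77, 1), (78, 1), (80, 1), (81, 1), (82, 1), (83, 1), (85, 1), (86, 1), (88, 1), (89, 1), (90, 1), (91, 1), (92, 1), (93, 1), (96, 1), (99, 1), (105, 1), (111, 1), (112, 1), (113, 1), (115, 1), (116, 1), (118, 1), (122, 1), (124, 1), (128, 1), (129, 1), (130, 1), (131, 1), (132, 1), (139, 1), (142, 1), (144, 1), (145, 1), (148, 1), (150, 1), (152, 1), (154, 1), (155, 1), (156, 1), (157, 1), (158, 1), (159, 1), (160, 1), (161, 1), (163, 1), (164, 1), (166, 1), (167, 1), (169, 1), (170, 1), (174, 1), (175, 1), (176, 1), (177, 1), (178, 1), (179, 1), (183, 1), (184, 1), (186, 1), (187, 1), (188, 1), (189, 1), (191, 1), (193, 1), (197, 1), (202, 1), (205, 1), (206,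 1), (207, 1), (209, 1), (210, 1), (212, 1), (216, 1), (217, 1)]],
    [[], [(1, 1), (2, 1), (7, 1), (9, 1), (10, 1), (11, 1), (13, 1), (20, 1), (23, 1), (26, 1), (27, 1), (28, 1), (29, 1), (30, 1), (31, 1), (32, 1), (34, 1), (36, 1), (42, 1), (46, 1), (50, 1), (52, 1), (53, 1), (54, 1), (56, 1), (58, 1), (59, 1), (61, 1), (70, 1), (73, 1), (76, 1), (77, 1), (81, 1), (86, 1), (88, 1), (89, 1), (91, 1), (92, 1), (96, 1), (98, 1), (99, 1), (100, 1), (102, 1), (104, 1), (107, 1), (110, 1), (111, 1), (112, 1), (115, 1), (119, 1), (120, 1), (127, 1), (132, 1), (133, 1), (136, 1), (139, 1), (140, 1), (142, 1), (146, 1), (147, 1), (148, 1), (149, 1), (150, 1), (152, 1), (154, 1), (156, 1), (157, 1), (158, 1), (159, 1), (161, 1), (164, 1), (165, 1), (167, 1), (169, 1), (170, 1), (172, 1), (175, 1), (181, 1), (183, 1), (184, 1), (186, 1), (187, 1), (188, 1), (190, 1), (191, 1), (194, 1), (195, 1), (196, 1), (205, 1), (207, 1), (210, 1), (211, 1), (214, 1), (215, 1), (231, 1), (232, 1),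 (237, 1)]],
    [[(0, 1), (2, 1), (5, 1), (7, 1), (9, 1), (15, 1), (21, 1), (24, 1), (25, 1), (29, 1), (38, 1), (42, 1), (45, 1), (49, 1), (52, 1), (53, 1), (54, 1), (56, 1), (60, 1), (64, 1), (68, 1), (71, 1), (72, 1), (73, 1), (74, 1), (75, 1), (76, 1), (80, 1), (82, 1), (84, 1), (87, 1), (88, 1), (92, 1), (93, 1), (98, 1), (99, 1), (100, 1), (101, 1), (102, 1), (103, 1), (104, 1), (107, 1), (108, 1), (110, 1), (112, 1), (114, 1), (115, 1), (116, 1), (120, 1), (122, 1), (124, 1), (126, 1), (127, 1), (128, 1), (130, 1), (131, 1), (132, 1), (134, 1), (137, 1), (140, 1), (142, 1), (144, 1), (146, 1), (147, 1), (148, 1), (149, 1), (151, 1), (157, 1), (160, 1), (161, 1), (163, 1), (166, 1), (168, 1), (169, 1), (170, 1), (172, 1), (174, 1), (175, 1), (176, 1), (177, 1), (179, 1), (180, 1), (181, 1), (182, 1), (185, 1), (187, 1), (189, 1), (190, 1), (195, 1), (196, 1), (197, 1), (202, 1), (205, 1), (209, 1), (210, 1), (211, 1), (213, 1), (214, 1), (231, 1), (235, 1)], [(1, 1), (2,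 1), (5, 1), (7, 1), (9, 1), (15, 1), (21, 1), (24, 1), (25, 1), (29, 1), (38, 1), (42, 1), (45, 1), (49, 1), (52, 1), (53, 1), (54, 1), (56, 1), (60, 1), (64, 1), (68, 1), (71, 1), (72, 1), (73, 1), (74, 1), (75, 1), (76, 1), (80, 1), (82, 1), (84, 1), (87, 1), (88, 1), (92, 1), (93, 1), (98, 1), (99, 1), (100, 1), (101, 1), (102, 1), (103, 1), (104, 1), (107, 1), (108, 1), (110, 1), (112, 1), (114, 1), (115, 1), (116, 1), (120, 1), (122, 1), (124, 1), (126, 1), (127, 1), (128, 1), (130, 1), (131, 1), (132, 1), (134, 1), (137, 1), (140, 1), (142, 1), (144, 1), (146, 1), (147, 1), (148, 1), (149, 1), (151, 1), (157, 1), (160, 1), (161, 1), (163, 1), (166, 1), (168, 1), (169, 1), (170, 1), (172, 1), (174, 1), (175, 1), (176, 1), (177, 1), (179, 1), (180, 1), (181, 1), (182, 1), (185, 1), (187, 1), (189, 1), (190, 1), (195, 1), (196, 1), (197, 1), (202, 1), (205, 1), (209, 1), (210, 1), (211, 1), (213, 1), (214, 1), (231, 1), (235, 1)], [(2, 1), (5, 1), (7, 1), (9, 1), (15, 1),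 (21, 1), (24, 1), (25, 1), (29, 1), (38, 1), (42, 1), (45, 1), (49, 1), (52, 1), (53, 1), (54, 1), (56, 1), (60, 1), (64, 1), (68, 1), (71, 1), (72, 1), (73, 1), (74, 1), (75, 1), (76, 1), (80, 1), (82, 1), (84, 1), (87, 1), (88, 1), (92, 1), (93, 1), (98, 1), (99, 1), (100, 1), (101, 1), (102, 1), (103, 1), (104, 1), (107, 1), (108, 1), (110, 1), (112, 1), (114, 1), (115, 1), (116, 1), (120, 1), (122, 1), (124, 1), (126, 1), (127, 1), (128, 1), (130, 1), (131, 1), (132, 1), (134, 1), (137, 1), (140, 1), (142, 1), (144, 1), (146, 1), (147, 1), (148, 1), (149, 1), (151, 1), (157, 1), (160, 1), (161, 1), (163, 1), (166, 1), (168, 1), (169, 1), (170, 1), (172, 1), (174, 1), (175, 1), (176, 1), (177, 1), (179, 1), (180, 1), (181, 1), (182, 1), (185, 1), (187, 1), (189, 1), (190, 1), (195, 1), (196, 1), (197, 1), (202, 1), (205, 1), (209, 1), (210, 1), (211, 1), (213, 1), (214, 1), (231, 1), (235, 1)]],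
    [[(6, 1), (9, 1), (11, 1), (18, 1), (20, 1), (23, 1), (25, 1), (29, 1), (32, 1), (34, 1), (38, 1), (46, 1), (49, 1), (50, 1), (54, 1), (55, 1), (61, 1), (62, 1), (64, 1), (68, 1), (70, 1), (71, 1), (74, 1), (78, 1), (80, 1), (81, 1), (82, 1), (83, 1), (86, 1), (88, 1), (89, 1), (90, 1), (91, 1), (92, 1), (93, 1), (96, 1), (99, 1), (104, 1), (105, 1), (111, 1), (112, 1), (113, 1), (115, 1), (116, 1), (118, 1), (122, 1), (124, 1), (127, 1), (128, 1), (129, 1), (130, 1), (131, 1), (139, 1), (142, 1), (144, 1), (145, 1), (148, 1), (150, 1), (152, 1), (154, 1), (155, 1), (156, 1), (157, 1), (158, 1), (159, 1), (160, 1), (161, 1), (163, 1), (164, 1), (166, 1), (167, 1), (169, 1), (170, 1), (174, 1), (175, 1), (176, 1), (177, 1), (178, 1), (179, 1), (183, 1), (184, 1), (186, 1), (187, 1), (188, 1), (189, 1), (191, 1), (193, 1), (197, 1), (202, 1), (205, 1), (207, 1), (209, 1), (210, 1), (212, 1), (217, 1)], [], [], [(6, 1), (7, 1), (9, 1), (11, 1), (15, 1), (16, 1), (20, 1), (23,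 1), (25, 1), (29, 1), (32, 1), (33, 1), (34, 1), (38, 1), (46, 1), (49, 1), (50, 1), (52, 1), (53, 1), (55, 1), (58, 1), (59, 1), (60, 1), (61, 1), (62, 1), (63, 1), (64, 1), (68, 1), (70, 1), (71, 1), (74, 1), (75, 1), (77, 1), (78, 1), (79, 1), (81, 1), (82, 1), (83, 1), (84, 1), (85, 1), (87, 1), (88, 1), (89, 1), (90, 1), (91, 1), (94, 1), (95, 1), (96, 1), (99, 1), (103, 1), (107, 1), (108, 1), (111, 1), (113, 1), (115, 1), (118, 1), (119, 1), (124, 1), (125, 1), (126, 1), (127, 1), (128, 1), (129, 1), (130, 1), (131, 1), (133, 1), (136, 1), (140, 1), (142, 1), (143, 1), (144, 1), (145, 1), (146, 1), (148, 1), (152, 1), (156, 1), (159, 1), (163, 1), (164, 1), (166, 1), (167, 1), (170, 1), (171, 1), (176, 1), (179, 1), (183, 1), (184, 1), (188, 1), (189, 1), (193, 1), (194, 1), (196, 1), (197, 1), (198, 1), (200, 1), (202, 1), (203, 1), (204, 1), (206, 1), (207, 1), (209, 1), (210, 1), (211, 1), (212, 1), (218, 1)]],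
    [[(4, 1), (11, 1), (15, 1), (20, 1), (23, 1), (25, 1), (26, 1), (27, 1), (28, 1), (30, 1), (31, 1), (32, 1), (34, 1), (36, 1), (38, 1), (43, 1), (45, 1), (49, 1), (52, 1), (53, 1), (55, 1), (56, 1), (58, 1), (63, 1), (64, 1), (66, 1), (68, 1), (71, 1), (72, 1), (73, 1), (74, 1), (76, 1), (77, 1), (79, 1), (80, 1), (85, 1), (87, 1), (89, 1), (90, 1), (91, 1), (96, 1), (98, 1), (99, 1), (101, 1), (105, 1), (107, 1), (110, 1), (113, 1), (114, 1), (115, 1), (117, 1), (119, 1), (121, 1), (122, 1), (123, 1), (124, 1), (125, 1), (126, 1), (127, 1), (130, 1), (132, 1), (134, 1), (136, 1), (138, 1), (139, 1), (141, 1), (142, 1), (143, 1), (147, 1), (148, 1), (149, 1), (152, 1), (153, 1), (158, 1), (161, 1), (163, 1), (165, 1), (168, 1), (172, 1), (175, 1), (176, 1), (179, 1), (183, 1), (187, 1), (190, 1), (192, 1), (193, 1), (194, 1), (195, 1), (196, 1), (199, 1), (200, 1), (201, 1), (202, 1), (204, 1), (206, 1), (208, 1), (209, 1), (211, 1), (214, 1), (215, 1), (234, 1), (237, 1)],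 [(5, 1), (10, 1), (11, 1), (15, 1), (20, 1), (23, 1), (25, 1), (26, 1), (27, 1), (28, 1), (30, 1), (31, 1), (32, 1), (34, 1), (35, 1), (36, 1), (38, 1), (45, 1), (49, 1), (50, 1), (58, 1), (59, 1), (61, 1), (64, 1), (68, 1), (70, 1), (71, 1), (72, 1), (74, 1), (75, 1), (77, 1), (80, 1), (81, 1), (82, 1), (84, 1), (86, 1), (87, 1), (89, 1), (91, 1), (93, 1), (96, 1), (101, 1), (103, 1), (108, 1), (109, 1), (111, 1), (112, 1), (114, 1), (115, 1), (116, 1), (117, 1), (118, 1), (119, 1), (122, 1), (124, 1), (126, 1), (128, 1), (130, 1), (131, 1), (133, 1), (134, 1), (136, 1), (137, 1), (143, 1), (144, 1), (148, 1), (151, 1), (152, 1), (154, 1), (156, 1), (158, 1), (159, 1), (160, 1), (163, 1), (165, 1), (168, 1), (170, 1), (172, 1), (174, 1), (176, 1), (177, 1), (179, 1), (180, 1), (182, 1), (183, 1), (184, 1), (185, 1), (186, 1), (188, 1), (189, 1), (191, 1), (194, 1), (197, 1), (202, 1), (207, 1), (209, 1), (213, 1), (215, 1), (235, 1), (237, 1)], [(7, 1), (9, 1), (10, 1), (11,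 1), (15, 1), (20, 1), (23, 1), (25, 1), (26, 1), (27, 1), (28, 1), (30, 1), (31, 1), (32, 1), (34, 1), (36, 1), (38, 1), (43, 1), (45, 1), (49, 1), (52, 1), (53, 1), (55, 1), (56, 1), (58, 1), (63, 1), (64, 1), (66, 1), (68, 1), (71, 1), (72, 1), (73, 1), (74, 1), (76, 1), (77, 1), (79, 1), (80, 1), (85, 1), (87, 1), (89, 1), (90, 1), (91, 1), (96, 1), (98, 1), (99, 1), (101, 1), (105, 1), (107, 1), (110, 1), (113, 1), (114, 1), (115, 1), (117, 1), (119, 1), (121, 1), (122, 1), (123, 1), (124, 1), (125, 1), (126, 1), (127, 1), (130, 1), (132, 1), (134, 1), (136, 1), (138, 1), (139, 1), (141, 1), (142, 1), (143, 1), (147, 1), (148, 1), (149, 1), (152, 1), (153, 1), (158, 1), (161, 1), (163, 1), (165, 1), (168, 1), (172, 1), (175, 1), (176, 1), (179, 1), (183, 1), (187, 1), (190, 1), (192, 1), (193, 1), (194, 1), (195, 1), (196, 1), (199, 1), (200, 1), (201, 1), (202, 1), (204, 1), (206, 1), (208, 1), (209, 1), (211, 1), (214, 1), (215, 1), (234, 1), (237, 1)], [(2, 1), (3, 1),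 (5, 1), (10, 1), (11, 1), (15, 1), (20, 1), (23, 1), (25, 1), (26, 1), (27, 1), (28, 1), (30, 1), (31, 1), (32, 1), (34, 1), (35, 1), (36, 1), (38, 1), (45, 1), (49, 1), (50, 1), (58, 1), (59, 1), (61, 1), (64, 1), (68, 1), (70, 1), (71, 1), (72, 1), (74, 1), (75, 1), (77, 1), (80, 1), (81, 1), (82, 1), (84, 1), (86, 1), (87, 1), (89, 1), (91, 1), (93, 1), (96, 1), (101, 1), (103, 1), (108, 1), (109, 1), (111, 1), (112, 1), (114, 1), (115, 1), (116, 1), (117, 1), (118, 1), (119, 1), (122, 1), (124, 1), (126, 1), (128, 1), (130, 1), (131, 1), (133, 1), (134, 1), (136, 1), (137, 1), (143, 1), (144, 1), (148, 1), (151, 1), (152, 1), (154, 1), (156, 1), (158, 1), (159, 1), (160, 1), (163, 1), (165, 1), (168, 1), (170, 1), (172, 1), (174, 1), (176, 1), (177, 1), (179, 1), (180, 1), (182, 1), (183, 1), (184, 1), (185, 1), (186, 1), (188, 1), (189, 1), (191, 1), (194, 1), (197, 1), (202, 1), (207, 1), (209, 1), (213, 1), (215, 1), (235, 1), (237, 1)], [(2, 1), (5, 1), (10, 1), (11,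 1), (15, 1), (20, 1), (23, 1), (25, 1), (26, 1), (27, 1), (28, 1), (30, 1), (31, 1), (32, 1), (34, 1), (35, 1), (36, 1), (38, 1), (45, 1), (49, 1), (50, 1), (58, 1), (59, 1), (61, 1), (64, 1), (68, 1), (70, 1), (71, 1), (72, 1), (74, 1), (75, 1), (77, 1), (80, 1), (81, 1), (82, 1), (84, 1), (86, 1), (87, 1), (89, 1), (91, 1), (93, 1), (96, 1), (101, 1), (103, 1), (108, 1), (109, 1), (111, 1), (112, 1), (114, 1), (115, 1), (116, 1), (117, 1), (118, 1), (119, 1), (122, 1), (124, 1), (126, 1), (128, 1), (130, 1), (131, 1), (133, 1), (134, 1), (136, 1), (137, 1), (143, 1), (144, 1), (148, 1), (151, 1), (152, 1), (154, 1), (156, 1), (158, 1), (159, 1), (160, 1), (163, 1), (165, 1), (168, 1), (170, 1), (172, 1), (174, 1), (176, 1), (177, 1), (179, 1), (180, 1), (182, 1), (183, 1), (184, 1), (185, 1), (186, 1), (188, 1), (189, 1), (191, 1), (194, 1), (197, 1), (202, 1), (207, 1), (209, 1), (213, 1), (215, 1), (235, 1), (237, 1)]],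
    [[(7, 1)], [(8, 1), (11, 1), (15, 1), (20, 1), (23, 1), (25, 1), (26, 1), (27, 1), (28, 1), (30, 1), (31, 1), (32, 1), (34, 1), (36, 1), (38, 1), (43, 1), (45, 1), (49, 1), (52, 1), (53, 1), (55, 1), (56, 1), (58, 1), (63, 1), (64, 1), (66, 1), (68, 1), (71, 1), (72, 1), (73, 1), (74, 1), (76, 1), (77, 1), (79, 1), (80, 1), (85, 1), (87, 1), (89, 1), (90, 1), (91, 1), (96, 1), (98, 1), (99, 1), (101, 1), (105, 1), (107, 1), (110, 1), (113, 1), (114, 1), (115, 1), (117, 1), (119, 1), (121, 1), (122, 1), (123, 1), (124, 1), (125, 1), (126, 1), (127, 1), (130, 1), (132, 1), (134, 1), (136, 1), (138, 1), (139, 1), (141, 1), (142, 1), (143, 1), (147, 1), (148, 1), (149, 1), (152, 1), (153, 1), (158, 1), (161, 1), (163, 1), (165, 1), (168, 1), (172, 1), (175, 1), (176, 1), (179, 1), (183, 1), (187, 1), (190, 1), (192, 1), (193, 1), (194, 1), (195, 1), (196, 1), (199, 1), (200, 1), (201, 1), (202, 1), (204, 1), (206, 1), (208, 1), (209, 1), (211, 1), (214, 1), (215, 1), (234, 1),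 (237, 1)], [(5, 1), (7, 1), (9, 1)], [(6, 1), (7, 1), (9, 1)], [(7, 1), (9, 1), (10, 1)], [(7, 1), (9, 1)]],
    [[], [(1, 1), (2, 1), (4, 1), (14, 1), (15, 1), (18, 1), (24, 1), (26, 1), (30, 1), (33, 1), (37, 1), (42, 1), (44, 1), (50, 1), (52, 1), (53, 1), (54, 1), (56, 1), (58, 1), (59, 1), (60, 1), (64, 1), (65, 1), (68, 1), (71, 1), (72, 1), (73, 1), (74, 1), (77, 1), (78, 1), (80, 1), (82, 1), (89, 1), (91, 1), (92, 1), (93, 1), (94, 1), (95, 1), (98, 1), (104, 1), (107, 1), (108, 1), (111, 1), (114, 1), (116, 1), (117, 1), (118, 1), (120, 1), (121, 1), (122, 1), (124, 1), (125, 1), (126, 1), (131, 1), (132, 1), (135, 1), (137, 1), (138, 1), (140, 1), (141, 1), (142, 1), (143, 1), (144, 1), (146, 1), (151, 1), (152, 1), (156, 1), (163, 1), (165, 1), (167, 1), (168, 1), (170, 1), (177, 1), (178, 1), (179, 1), (180, 1), (182, 1), (183, 1), (185, 1), (189, 1), (190, 1), (191, 1), (192, 1), (197, 1), (198, 1), (199, 1), (201, 1), (203, 1), (204, 1), (205, 1), (206, 1), (209,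 1), (210, 1), (211, 1), (213, 1), (215, 1), (217, 1), (219, 1), (233, 1), (235, 1), (246, 1), (247, 1)], [(11, 1), (13, 1), (14, 1)], [], [], [(0, 1), (1, 1), (2, 1), (3, 1), (5, 1), (10, 1), (13, 1), (14, 1), (15, 1), (18, 1), (20, 1), (21, 1), (22, 1), (23, 1), (25, 1), (26, 1), (28, 1), (29, 1), (32, 1), (37, 1), (38, 1), (43, 1), (44, 1), (45, 1), (49, 1), (54, 1), (55, 1), (56, 1), (59, 1), (61, 1), (62, 1), (63, 1), (65, 1), (66, 1), (70, 1), (73, 1), (78, 1), (79, 1), (81, 1), (82, 1), (84, 1), (86, 1), (87, 1), (88, 1), (91, 1), (93, 1), (94, 1), (96, 1), (98, 1), (99, 1), (101, 1), (103, 1), (104, 1), (109, 1), (111, 1), (112, 1), (113, 1), (114, 1), (116, 1), (119, 1), (123, 1), (128, 1), (130, 1), (131, 1), (133, 1), (134, 1), (135, 1), (137, 1), (139, 1), (140, 1), (141, 1), (144, 1), (147, 1), (153, 1), (154, 1), (158, 1), (160, 1), (161, 1), (164, 1), (167, 1), (168, 1), (169, 1), (171, 1), (173, 1), (175, 1), (176, 1), (177, 1), (178, 1), (179, 1), (183, 1), (184,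 1), (185, 1), (186, 1), (190, 1), (191, 1), (193, 1), (194, 1), (197, 1), (202, 1), (204, 1), (208, 1), (211, 1), (213, 1), (214, 1), (217, 1), (219, 1), (231, 1), (233, 1), (234, 1), (235, 1), (236, 1), (246, 1), (247, 1)], [(0, 1), (1, 1), (2, 1), (3, 1), (4, 1), (5, 1), (6, 1), (7, 1), (8, 1), (9, 1), (12, 1), (13, 1), (15, 1), (16, 1), (18, 1), (21, 1), (22, 1), (24, 1), (25, 1), (27, 1), (29, 1), (30, 1), (33, 1), (42, 1), (43, 1), (44, 1), (48, 1), (50, 1), (51, 1), (52, 1), (53, 1), (55, 1), (56, 1), (57, 1), (58, 1), (61, 1), (62, 1), (63, 1), (66, 1), (68, 1), (69, 1), (70, 1), (71, 1), (74, 1), (75, 1), (78, 1), (79, 1), (80, 1), (81, 1), (84, 1), (86, 1), (88, 1), (89, 1), (90, 1), (91, 1), (92, 1), (93, 1), (98, 1), (100, 1), (103, 1), (105, 1), (107, 1), (108, 1), (113, 1), (114, 1), (118, 1), (119, 1), (120, 1), (121, 1), (122, 1), (124, 1), (125, 1), (128, 1), (129, 1), (130, 1), (137, 1), (138, 1), (139, 1), (142, 1), (143, 1), (145, 1), (146, 1), (148, 1), (153,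 1), (154, 1), (156, 1), (158, 1), (160, 1), (163, 1), (165, 1), (167, 1), (168, 1), (170, 1), (175, 1), (178, 1), (183, 1), (184, 1), (185, 1), (189, 1), (192, 1), (193, 1), (194, 1), (195, 1), (197, 1), (199, 1), (206, 1), (207, 1), (208, 1), (209, 1), (211, 1), (212, 1), (214, 1), (216, 1), (218, 1), (230, 1), (232, 1), (236, 1)]],
    [[(18, 1), (20, 1), (23, 1), (25, 1), (27, 1), (28, 1), (29, 1), (32, 1), (34, 1)], [(6, 1), (9, 1), (13, 1), (18, 1), (19, 1), (21, 1), (23, 1), (25, 1), (26, 1), (27, 1), (29, 1), (31, 1), (33, 1), (35, 1), (36, 1), (38, 1), (43, 1), (44, 1), (48, 1), (49, 1), (50, 1), (51, 1), (55, 1), (57, 1), (60, 1), (62, 1), (65, 1), (68, 1), (69, 1), (70, 1), (71, 1), (74, 1), (76, 1), (77, 1), (79, 1), (80, 1), (81, 1), (82, 1), (85, 1), (87, 1), (89, 1), (91, 1), (92, 1), (93, 1), (94, 1), (95, 1), (98, 1), (103, 1), (106, 1), (108, 1), (109, 1), (110, 1), (116, 1), (117, 1), (118, 1), (119, 1), (120, 1), (121, 1), (124, 1), (125, 1), (127, 1), (129,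 1), (130, 1), (131, 1), (132, 1), (134, 1), (136, 1), (138, 1), (141, 1), (144, 1), (146, 1), (147, 1), (148, 1), (149, 1), (152, 1), (153, 1), (154, 1), (155, 1), (156, 1), (157, 1), (161, 1), (163, 1), (164, 1), (165, 1), (168, 1), (171, 1), (172, 1), (175, 1), (176, 1), (177, 1), (181, 1), (182, 1), (183, 1), (184, 1), (185, 1), (189, 1), (191, 1), (192, 1), (196, 1), (198, 1), (199, 1), (201, 1), (202, 1), (203, 1), (204, 1), (205, 1), (207, 1), (208, 1), (210, 1), (212, 1), (213, 1), (214, 1), (217, 1), (219, 1), (246, 1), (247, 1)], [(0, 1), (1, 1), (2, 1), (3, 1), (5, 1), (10, 1), (11, 1), (13, 1), (14, 1), (18, 1), (20, 1), (21, 1), (22, 1), (26, 1), (27, 1), (28, 1), (37, 1), (38, 1), (43, 1), (44, 1), (45, 1), (49, 1), (54, 1), (55, 1), (56, 1), (59, 1), (61, 1), (62, 1), (63, 1), (65, 1), (66, 1), (70, 1), (73, 1), (78, 1), (79, 1), (81, 1), (82, 1), (84, 1), (86, 1), (87, 1), (88, 1), (91, 1), (93, 1), (94, 1), (96, 1), (98, 1), (99, 1), (101, 1), (103, 1), (104,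 1), (109, 1), (111, 1), (112, 1), (113, 1), (114, 1), (116, 1), (119, 1), (123, 1), (128, 1), (130, 1), (131, 1), (133, 1), (134, 1), (135, 1), (137, 1), (139, 1), (140, 1), (141, 1), (144, 1), (147, 1), (153, 1), (154, 1), (158, 1), (160, 1), (161, 1), (164, 1), (167, 1), (168, 1), (169, 1), (171, 1), (173, 1), (175, 1), (176, 1), (177, 1), (178, 1), (179, 1), (183, 1), (184, 1), (185, 1), (186, 1), (190, 1), (191, 1), (193, 1), (194, 1), (197, 1), (202, 1), (204, 1), (208, 1), (211, 1), (213, 1), (214, 1), (217, 1), (219, 1), (231, 1), (233, 1), (234, 1), (235, 1), (236, 1), (246, 1), (247, 1)], [(7, 1), (20, 1), (23, 1), (25, 1), (27, 1), (28, 1), (29, 1), (32, 1), (34, 1), (37, 1), (43, 1), (44, 1), (45, 1), (46, 1), (49, 1), (50, 1), (53, 1), (55, 1), (56, 1), (57, 1), (61, 1), (63, 1), (64, 1), (68, 1), (71, 1), (75, 1), (77, 1), (78, 1), (81, 1), (82, 1), (83, 1), (86, 1), (88, 1), (89, 1), (91, 1), (94, 1), (95, 1), (97, 1), (99, 1), (100, 1), (101, 1), (103, 1), (108,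 1), (109, 1), (110, 1), (111, 1), (112, 1), (114, 1), (115, 1), (116, 1), (118, 1), (119, 1), (124, 1), (125, 1), (129, 1), (131, 1), (132, 1), (134, 1), (136, 1), (138, 1), (141, 1), (142, 1), (143, 1), (144, 1), (146, 1), (147, 1), (148, 1), (149, 1), (150, 1), (151, 1), (152, 1), (153, 1), (154, 1), (156, 1), (158, 1), (162, 1), (163, 1), (169, 1), (172, 1), (175, 1), (176, 1), (178, 1), (182, 1), (185, 1), (186, 1), (187, 1), (190, 1), (191, 1), (193, 1), (194, 1), (195, 1), (196, 1), (199, 1), (200, 1), (208, 1), (209, 1), (210, 1), (212, 1), (215, 1), (219, 1)], [(6, 1), (9, 1), (18, 1), (23, 1), (24, 1), (27, 1), (29, 1), (30, 1), (31, 1), (34, 1), (38, 1), (43, 1), (44, 1), (48, 1), (49, 1), (50, 1), (51, 1), (55, 1), (57, 1), (60, 1), (62, 1), (65, 1), (68, 1), (69, 1), (70, 1), (71, 1), (74, 1), (76, 1), (77, 1), (79, 1), (80, 1), (81, 1), (82, 1), (85, 1), (87, 1), (89, 1), (91, 1), (92, 1), (93, 1), (94, 1), (95, 1), (98, 1), (103, 1), (106, 1), (108, 1), (109, 1),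 (110, 1), (116, 1), (117, 1), (118, 1), (119, 1), (120, 1), (121, 1), (124, 1), (125, 1), (127, 1), (129, 1), (130, 1), (131, 1), (132, 1), (134, 1), (136, 1), (138, 1), (141, 1), (144, 1), (146, 1), (147, 1), (148, 1), (149, 1), (152, 1), (153, 1), (154, 1), (155, 1), (156, 1), (157, 1), (161, 1), (163, 1), (164, 1), (165, 1), (168, 1), (171, 1), (172, 1), (175, 1), (176, 1), (177, 1), (181, 1), (182, 1), (183, 1), (184, 1), (185, 1), (189, 1), (191, 1), (192, 1), (196, 1), (198, 1), (199, 1), (201, 1), (202, 1), (203, 1), (204, 1), (205, 1), (207, 1), (208, 1), (210, 1), (212, 1), (213, 1), (214, 1), (217, 1), (219, 1), (246, 1), (247, 1)], [(11, 1), (20, 1), (23, 1), (25, 1), (29, 1), (32, 1), (34, 1)], [(7, 1), (11, 1), (12, 1), (15, 1), (16, 1), (17, 1), (33, 1), (34, 1), (37, 1), (43, 1), (44, 1), (45, 1), (46, 1), (49, 1), (50, 1), (53, 1), (55, 1), (56, 1), (57, 1), (61, 1), (63, 1), (64, 1), (68, 1), (71, 1), (75, 1), (77, 1), (78, 1), (81, 1), (82, 1), (83, 1), (86,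 1), (88, 1), (89, 1), (91, 1), (94, 1), (95, 1), (97, 1), (99, 1), (100, 1), (101, 1), (103, 1), (108, 1), (109, 1), (110, 1), (111, 1), (112, 1), (114, 1), (115, 1), (116, 1), (118, 1), (119, 1), (124, 1), (125, 1), (129, 1), (131, 1), (132, 1), (134, 1), (136, 1), (138, 1), (141, 1), (142, 1), (143, 1), (144, 1), (146, 1), (147, 1), (148, 1), (149, 1), (150, 1), (151, 1), (152, 1), (153, 1), (154, 1), (156, 1), (158, 1), (162, 1), (163, 1), (169, 1), (172, 1), (175, 1), (176, 1), (178, 1), (182, 1), (185, 1), (186, 1), (187, 1), (190, 1), (191, 1), (193, 1), (194, 1), (195, 1), (196, 1), (199, 1), (200, 1), (208, 1), (209, 1), (210, 1), (212, 1), (215, 1), (219, 1)], [(7, 1), (11, 1), (16, 1), (37, 1), (43, 1), (44, 1), (45, 1), (46, 1), (49, 1), (50, 1), (53, 1), (55, 1), (56, 1), (57, 1), (61, 1), (63, 1), (64, 1), (68, 1), (71, 1), (75, 1), (77, 1), (78, 1), (81, 1), (82, 1), (83, 1), (86, 1), (88, 1), (89, 1), (91, 1), (94, 1), (95, 1), (97, 1), (99, 1), (100, 1), (101,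 1), (103, 1), (108, 1), (109, 1), (110, 1), (111, 1), (112, 1), (114, 1), (115, 1), (116, 1), (118, 1), (119, 1), (124, 1), (125, 1), (129, 1), (131, 1), (132, 1), (134, 1), (136, 1), (138, 1), (141, 1), (142, 1), (143, 1), (144, 1), (146, 1), (147, 1), (148, 1), (149, 1), (150, 1), (151, 1), (152, 1), (153, 1), (154, 1), (156, 1), (158, 1), (162, 1), (163, 1), (169, 1), (172, 1), (175, 1), (176, 1), (178, 1), (182, 1), (185, 1), (186, 1), (187, 1), (190, 1), (191, 1), (193, 1), (194, 1), (195, 1), (196, 1), (199, 1), (200, 1), (208, 1), (209, 1), (210, 1), (212, 1), (215, 1), (219, 1)]],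
    [[(0, 1), (1, 1), (2, 1), (3, 1), (5, 1), (10, 1), (11, 1), (14, 1), (15, 1), (18, 1), (20, 1), (21, 1), (22, 1), (26, 1), (27, 1), (28, 1), (32, 1), (33, 1), (35, 1), (37, 1), (38, 1), (43, 1), (44, 1), (45, 1), (49, 1), (54, 1), (55, 1), (56, 1), (59, 1), (61, 1), (62, 1), (63, 1), (65, 1), (66, 1), (70, 1), (73, 1), (78, 1), (79, 1), (81, 1), (82, 1), (84, 1), (86, 1), (87, 1), (88, 1), (91, 1), (93, 1), (94, 1), (96, 1), (98, 1), (99, 1), (101, 1), (103, 1), (104, 1), (109, 1), (111, 1), (112, 1), (113, 1), (114, 1), (116, 1), (119, 1), (123, 1), (128, 1), (130, 1), (131, 1), (133, 1), (134, 1), (135, 1), (137, 1), (139, 1), (140, 1), (141, 1), (144, 1), (147, 1), (153, 1), (154, 1), (158, 1), (160, 1), (161, 1), (164, 1), (167, 1), (168, 1), (169, 1), (171, 1), (173, 1), (175, 1), (176, 1), (177, 1), (178, 1), (179, 1), (183, 1), (184, 1), (185, 1), (186, 1), (190, 1), (191, 1), (193, 1), (194, 1), (197, 1), (202, 1), (204, 1), (208, 1), (211, 1), (213, 1), (214, 1),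 (217, 1), (219, 1), (231, 1), (233, 1), (234, 1), (235, 1), (236, 1), (246, 1), (247, 1)], [(11, 1), (13, 1), (20, 1), (21, 1), (23, 1), (24, 1), (25, 1), (26, 1), (27, 1), (28, 1), (29, 1), (31, 1), (32, 1), (34, 1), (36, 1)], [(15, 1), (25, 1)], [(6, 1), (9, 1), (11, 1), (13, 1), (18, 1), (20, 1), (25, 1), (26, 1), (28, 1), (32, 1), (38, 1), (43, 1), (44, 1), (48, 1), (49, 1), (50, 1), (51, 1), (55, 1), (57, 1), (60, 1), (62, 1), (65, 1), (68, 1), (69, 1), (70, 1), (71, 1), (74, 1), (76, 1), (77, 1), (79, 1), (80, 1), (81, 1), (82, 1), (85, 1), (87, 1), (89, 1), (91, 1), (92, 1), (93, 1), (94, 1), (95, 1), (98, 1), (103, 1), (106, 1), (108, 1), (109, 1), (110, 1), (116, 1), (117, 1), (118, 1), (119, 1), (120, 1), (121, 1), (124, 1), (125, 1), (127, 1), (129, 1), (130, 1), (131, 1), (132, 1), (134, 1), (136, 1), (138, 1), (141, 1), (144, 1), (146, 1), (147, 1), (148, 1), (149, 1), (152, 1), (153, 1), (154, 1), (155, 1), (156, 1), (157, 1), (161, 1), (163, 1), (164, 1), (165,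 1), (168, 1), (171, 1), (172, 1), (175, 1), (176, 1), (177, 1), (181, 1), (182, 1), (183, 1), (184, 1), (185, 1), (189, 1), (191, 1), (192, 1), (196, 1), (198, 1), (199, 1), (201, 1), (202, 1), (203, 1), (204, 1), (205, 1), (207, 1), (208, 1), (210, 1), (212, 1), (213, 1), (214, 1), (217, 1), (219, 1), (246, 1), (247, 1)], [(13, 1), (21, 1), (24, 1), (30, 1)], [(11, 1), (20, 1), (21, 1), (23, 1), (25, 1), (26, 1), (28, 1), (31, 1), (32, 1), (34, 1), (36, 1)], [(11, 1), (12, 1), (20, 1), (21, 1), (22, 1), (23, 1), (24, 1), (26, 1), (27, 1), (28, 1), (29, 1), (30, 1), (31, 1), (32, 1), (33, 1), (34, 1), (35, 1), (36, 1)], [(11, 1), (13, 1), (20, 1), (21, 1), (23, 1), (24, 1), (25, 1), (26, 1), (27, 1), (28, 1), (29, 1), (30, 1), (32, 1), (34, 1), (36, 1)], [(11, 1), (13, 1), (20, 1), (21, 1), (23, 1), (24, 1), (25, 1), (26, 1), (27, 1), (28, 1), (29, 1), (30, 1), (31, 1), (32, 1), (34, 1), (36, 1)]],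
    [[(11, 1), (15, 1), (33, 1)], [(13, 1), (15, 1), (33, 1)], [(15, 1)], [(11, 1), (20, 1), (23, 1), (25, 1), (27, 1), (28, 1), (29, 1), (32, 1)], [(11, 1), (13, 1), (15, 1), (20, 1), (21, 1), (23, 1), (26, 1), (27, 1), (28, 1), (29, 1), (31, 1), (32, 1), (34, 1), (35, 1), (36, 1)], [(15, 1), (27, 1), (33, 1)], [(12, 1), (15, 1), (33, 1)], [(15, 1), (33, 1), (34, 1)], [(13, 1), (25, 1), (33, 1), (35, 1)], [(15, 1), (33, 1)]],
    [[], [], [], [(38, 1), (42, 1), (43, 1), (46, 1), (48, 1), (49, 1), (51, 1), (52, 1), (53, 1), (56, 1), (58, 1), (63, 1), (67, 1), (70, 1), (73, 1), (74, 1), (75, 1), (76, 1), (78, 1), (79, 1), (81, 1), (83, 1), (85, 1), (86, 1), (88, 1), (89, 1), (90, 1), (93, 1), (94, 1), (97, 1), (98, 1), (100, 1), (102, 1), (103, 1), (105, 1), (106, 1), (107, 1), (109, 1), (110, 1), (115, 1), (117, 1), (118, 1), (119, 1), (120, 1), (123, 1), (126, 1), (129, 1), (130, 1), (131, 1), (132, 1), (133, 1), (135, 1), (136, 1), (138, 1), (141, 1), (144, 1), (146, 1), (148,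 1), (150, 1), (155, 1), (159, 1), (160, 1), (162, 1), (165, 1), (168, 1), (172, 1), (174, 1), (175, 1), (178, 1), (179, 1), (181, 1), (182, 1), (183, 1), (184, 1), (185, 1), (188, 1), (190, 1), (191, 1), (192, 1), (193, 1), (196, 1), (197, 1), (198, 1), (199, 1), (200, 1), (204, 1), (205, 1), (210, 1), (213, 1), (214, 1), (215, 1), (220, 1), (222, 1), (223, 1), (224, 1), (226, 1), (227, 1)], [], [], [], [(52, 1), (53, 1), (54, 1), (58, 1), (59, 1), (60, 1), (63, 1), (67, 1), (77, 1), (79, 1), (80, 1), (81, 1), (85, 1), (87, 1), (91, 1), (92, 1), (93, 1), (94, 1), (99, 1), (104, 1), (105, 1), (107, 1), (108, 1), (112, 1), (116, 1), (122, 1), (125, 1), (126, 1), (133, 1), (134, 1), (135, 1), (136, 1), (139, 1), (144, 1), (146, 1), (149, 1), (151, 1), (152, 1), (154, 1), (155, 1), (157, 1), (158, 1), (160, 1), (161, 1), (164, 1), (167, 1), (169, 1), (171, 1), (172, 1), (174, 1), (175, 1), (177, 1), (178, 1), (186, 1), (187, 1), (191, 1), (196, 1), (198, 1), (203, 1), (204, 1), (205,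 1), (206, 1)], [], [], [(37, 1), (43, 1), (44, 1), (46, 1), (50, 1), (52, 1), (53, 1), (54, 1), (55, 1), (56, 1), (57, 1), (58, 1), (63, 1), (64, 1), (66, 1), (69, 1), (70, 1), (72, 1), (73, 1), (76, 1), (77, 1), (78, 1), (79, 1), (81, 1), (83, 1), (84, 1), (88, 1), (89, 1), (91, 1), (92, 1), (94, 1), (95, 1), (96, 1), (97, 1), (98, 1), (99, 1), (103, 1), (104, 1), (105, 1), (107, 1), (108, 1), (113, 1), (117, 1), (121, 1), (123, 1), (126, 1), (127, 1), (129, 1), (130, 1), (132, 1), (133, 1), (134, 1), (135, 1), (136, 1), (137, 1), (138, 1), (140, 1), (141, 1), (142, 1), (144, 1), (148, 1), (150, 1), (154, 1), (160, 1), (162, 1), (164, 1), (166, 1), (167, 1), (169, 1), (171, 1), (175, 1), (176, 1), (178, 1), (182, 1), (184, 1), (185, 1), (187, 1), (188, 1), (189, 1), (190, 1), (193, 1), (195, 1), (196, 1), (197, 1), (199, 1), (202, 1), (204, 1), (210, 1), (213, 1), (215, 1), (229, 1)]],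
    [[], [], [(39, 1), (40, 1), (41, 1), (45, 1), (47, 1), (48, 1), (52, 1), (55, 1), (57, 1), (58, 1), (60, 1), (61, 1), (62, 1), (63, 1), (66, 1), (68, 1), (69, 1), (70, 1), (72, 1), (74, 1), (75, 1), (76, 1), (77, 1), (84, 1), (85, 1), (86, 1), (88, 1), (90, 1), (91, 1), (95, 1), (99, 1), (100, 1), (105, 1), (107, 1), (113, 1), (115, 1), (116, 1), (119, 1), (121, 1), (123, 1), (126, 1), (129, 1), (131, 1), (133, 1), (135, 1), (139, 1), (140, 1), (145, 1), (148, 1), (149, 1), (151, 1), (152, 1), (153, 1), (156, 1), (157, 1), (163, 1), (164, 1), (166, 1), (167, 1), (170, 1), (171, 1), (172, 1), (173, 1), (175, 1), (176, 1), (180, 1), (184, 1), (187, 1), (191, 1), (192, 1), (195, 1), (196, 1), (198, 1), (200, 1), (204, 1), (205, 1), (206, 1), (207, 1), (208, 1), (209, 1), (210, 1), (213, 1), (214, 1), (228, 1), (239, 1), (243, 1), (244, 1), (245, 1)], [], [(38, 1), (39, 1), (40, 1), (45, 1), (48, 1), (50, 1), (51, 1), (53, 1), (54, 1), (57, 1), (58, 1), (60, 1), (62, 1), (63,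 1), (64, 1), (69, 1), (72, 1), (73, 1), (74, 1), (76, 1), (78, 1), (81, 1), (82, 1), (84, 1), (87, 1), (88, 1), (95, 1), (99, 1), (100, 1), (101, 1), (102, 1), (104, 1), (106, 1), (107, 1), (108, 1), (109, 1), (111, 1), (112, 1), (114, 1), (115, 1), (118, 1), (120, 1), (125, 1), (126, 1), (127, 1), (128, 1), (129, 1), (131, 1), (133, 1), (135, 1), (137, 1), (138, 1), (139, 1), (141, 1), (142, 1), (144, 1), (145, 1), (147, 1), (148, 1), (149, 1), (150, 1), (153, 1), (158, 1), (160, 1), (161, 1), (163, 1), (164, 1), (166, 1), (169, 1), (170, 1), (171, 1), (174, 1), (176, 1), (177, 1), (178, 1), (179, 1), (182, 1), (183, 1), (186, 1), (189, 1), (191, 1), (193, 1), (194, 1), (196, 1), (198, 1), (199, 1), (200, 1), (201, 1), (202, 1), (203, 1), (204, 1), (205, 1), (208, 1), (209, 1), (213, 1), (214, 1), (228, 1), (241, 1), (242, 1), (244, 1)], [(38, 1), (42, 1), (43, 1), (44, 1), (45, 1), (46, 1), (49, 1), (50, 1), (53, 1), (54, 1), (55, 1), (57, 1), (60, 1), (61, 1), (62, 1), (64,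 1), (66, 1), (68, 1), (70, 1), (72, 1), (74, 1), (75, 1), (76, 1), (77, 1), (78, 1), (81, 1), (82, 1), (86, 1), (87, 1), (88, 1), (89, 1), (102, 1), (103, 1), (104, 1), (105, 1), (107, 1), (108, 1), (110, 1), (112, 1), (113, 1), (116, 1), (121, 1), (123, 1), (129, 1), (130, 1), (133, 1), (135, 1), (136, 1), (137, 1), (138, 1), (140, 1), (143, 1), (148, 1), (153, 1), (154, 1), (155, 1), (156, 1), (157, 1), (158, 1), (161, 1), (163, 1), (164, 1), (167, 1), (172, 1), (174, 1), (175, 1), (178, 1), (182, 1), (184, 1), (190, 1), (191, 1), (192, 1), (193, 1), (195, 1), (196, 1), (197, 1), (198, 1), (199, 1), (200, 1), (201, 1), (202, 1), (203, 1), (205, 1), (211, 1), (212, 1), (213, 1), (214, 1), (239, 1), (241, 1), (242, 1), (243, 1), (245, 1)], [(39, 1), (40, 1), (41, 1), (42, 1), (43, 1), (45, 1), (48, 1), (50, 1), (51, 1), (52, 1), (53, 1), (54, 1), (56, 1), (57, 1), (58, 1), (59, 1), (60, 1), (62, 1), (63, 1), (66, 1), (67, 1), (68, 1), (69, 1), (71, 1), (73, 1), (74, 1), (76,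 1), (77, 1), (81, 1), (83, 1), (84, 1), (85, 1), (87, 1), (89, 1), (90, 1), (92, 1), (94, 1), (96, 1), (97, 1), (98, 1), (99, 1), (101, 1), (104, 1), (106, 1), (108, 1), (109, 1), (115, 1), (116, 1), (117, 1), (118, 1), (120, 1), (122, 1), (123, 1), (124, 1), (125, 1), (131, 1), (132, 1), (133, 1), (137, 1), (138, 1), (141, 1), (143, 1), (145, 1), (146, 1), (147, 1), (150, 1), (151, 1), (152, 1), (153, 1), (157, 1), (163, 1), (164, 1), (165, 1), (167, 1), (168, 1), (170, 1), (174, 1), (175, 1), (176, 1), (177, 1), (178, 1), (179, 1), (181, 1), (183, 1), (186, 1), (187, 1), (188, 1), (190, 1), (192, 1), (193, 1), (195, 1), (196, 1), (197, 1), (198, 1), (200, 1), (201, 1), (203, 1), (206, 1), (207, 1), (208, 1), (210, 1), (211, 1), (212, 1), (213, 1), (214, 1), (220, 1), (221, 1), (223, 1), (224, 1), (225, 1), (228, 1), (238, 1), (240, 1), (241, 1), (242, 1)], [(41, 1), (43, 1), (44, 1), (46, 1), (47, 1), (49, 1), (50, 1), (51, 1), (56, 1), (58, 1), (62, 1), (65, 1), (66, 1), (67,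 1), (70, 1), (73, 1), (77, 1), (78, 1), (79, 1), (80, 1), (81, 1), (82, 1), (83, 1), (84, 1), (86, 1), (90, 1), (91, 1), (92, 1), (95, 1), (96, 1), (97, 1), (99, 1), (101, 1), (105, 1), (106, 1), (107, 1), (109, 1), (112, 1), (114, 1), (116, 1), (119, 1), (121, 1), (123, 1), (124, 1), (127, 1), (129, 1), (130, 1), (133, 1), (134, 1), (137, 1), (140, 1), (142, 1), (146, 1), (150, 1), (154, 1), (155, 1), (156, 1), (157, 1), (158, 1), (161, 1), (165, 1), (166, 1), (167, 1), (170, 1), (172, 1), (174, 1), (180, 1), (181, 1), (183, 1), (184, 1), (188, 1), (190, 1), (191, 1), (195, 1), (196, 1), (201, 1), (206, 1), (207, 1), (208, 1), (209, 1), (211, 1), (212, 1), (214, 1), (215, 1), (220, 1), (221, 1), (223, 1), (224, 1), (225, 1), (238, 1), (239, 1), (240, 1), (241, 1), (242, 1), (243, 1), (244, 1), (245, 1)], [(39, 1), (40, 1), (41, 1), (48, 1), (49, 1), (50, 1), (51, 1), (54, 1), (56, 1), (57, 1), (58, 1), (59, 1), (60, 1), (63, 1), (64, 1), (69, 1), (70, 1), (74, 1), (75, 1), (78,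 1), (83, 1), (87, 1), (88, 1), (92, 1), (93, 1), (95, 1), (97, 1), (98, 1), (99, 1), (100, 1), (101, 1), (104, 1), (105, 1), (106, 1), (109, 1), (110, 1), (111, 1), (112, 1), (115, 1), (116, 1), (118, 1), (119, 1), (122, 1), (128, 1), (130, 1), (136, 1), (139, 1), (140, 1), (141, 1), (142, 1), (144, 1), (145, 1), (146, 1), (149, 1), (150, 1), (151, 1), (152, 1), (153, 1), (155, 1), (158, 1), (160, 1), (161, 1), (164, 1), (166, 1), (167, 1), (168, 1), (169, 1), (172, 1), (176, 1), (181, 1), (183, 1), (184, 1), (185, 1), (189, 1), (190, 1), (191, 1), (193, 1), (196, 1), (197, 1), (201, 1), (204, 1), (205, 1), (208, 1), (209, 1), (211, 1), (214, 1), (228, 1)], [(39, 1), (40, 1), (42, 1), (44, 1), (45, 1), (46, 1), (47, 1), (48, 1), (49, 1), (57, 1), (58, 1), (63, 1), (66, 1), (68, 1), (69, 1), (70, 1), (72, 1), (74, 1), (78, 1), (82, 1), (85, 1), (86, 1), (87, 1), (89, 1), (91, 1), (92, 1), (93, 1), (96, 1), (98, 1), (103, 1), (111, 1), (114, 1), (115, 1), (116, 1), (117, 1), (118,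 1), (119, 1), (121, 1), (122, 1), (126, 1), (129, 1), (131, 1), (133, 1), (135, 1), (137, 1), (141, 1), (142, 1), (143, 1), (146, 1), (151, 1), (152, 1), (153, 1), (156, 1), (157, 1), (161, 1), (163, 1), (166, 1), (167, 1), (168, 1), (169, 1), (176, 1), (180, 1), (184, 1), (187, 1), (190, 1), (193, 1), (195, 1), (197, 1), (199, 1), (204, 1), (213, 1), (215, 1), (228, 1), (239, 1), (243, 1), (244, 1), (245, 1)], [(43, 1), (44, 1), (48, 1), (50, 1), (51, 1), (52, 1), (54, 1), (55, 1), (56, 1), (57, 1), (58, 1), (59, 1), (60, 1), (61, 1), (62, 1), (64, 1), (69, 1), (70, 1), (74, 1), (82, 1), (83, 1), (85, 1), (94, 1), (95, 1), (97, 1), (99, 1), (103, 1), (104, 1), (106, 1), (107, 1), (109, 1), (110, 1), (111, 1), (112, 1), (113, 1), (114, 1), (115, 1), (116, 1), (117, 1), (119, 1), (120, 1), (122, 1), (123, 1), (125, 1), (130, 1), (131, 1), (136, 1), (137, 1), (141, 1), (142, 1), (143, 1), (144, 1), (145, 1), (148, 1), (149, 1), (150, 1), (153, 1), (154, 1), (158, 1), (160, 1),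 (164, 1), (166, 1), (167, 1), (173, 1), (174, 1), (176, 1), (177, 1), (181, 1), (182, 1), (183, 1), (184, 1), (188, 1), (189, 1), (190, 1), (191, 1), (192, 1), (198, 1), (199, 1), (200, 1), (204, 1), (205, 1), (206, 1), (209, 1), (211, 1), (215, 1), (228, 1)], [(40, 1), (44, 1), (45, 1), (46, 1), (48, 1), (50, 1), (51, 1), (52, 1), (54, 1), (55, 1), (56, 1), (57, 1), (58, 1), (59, 1), (61, 1), (63, 1), (64, 1), (69, 1), (70, 1), (74, 1), (76, 1), (79, 1), (80, 1), (82, 1), (83, 1), (84, 1), (91, 1), (94, 1), (95, 1), (96, 1), (97, 1), (100, 1), (101, 1), (103, 1), (104, 1), (106, 1), (107, 1), (109, 1), (110, 1), (112, 1), (113, 1), (114, 1), (115, 1), (116, 1), (117, 1), (119, 1), (120, 1), (123, 1), (127, 1), (128, 1), (130, 1), (132, 1), (136, 1), (139, 1), (140, 1), (143, 1), (144, 1), (148, 1), (149, 1), (150, 1), (151, 1), (152, 1), (153, 1), (154, 1), (158, 1), (159, 1), (161, 1), (166, 1), (167, 1), (170, 1), (171, 1), (173, 1), (174, 1), (176, 1), (179, 1), (181, 1),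 (183, 1), (184, 1), (185, 1), (189, 1), (192, 1), (195, 1), (196, 1), (198, 1), (204, 1), (206, 1), (210, 1), (211, 1), (215, 1), (228, 1)]],
    [[(41, 1), (42, 1), (45, 1), (46, 1), (47, 1), (48, 1), (53, 1), (55, 1), (57, 1), (60, 1), (61, 1), (63, 1), (64, 1), (66, 1), (68, 1), (73, 1), (75, 1), (76, 1), (77, 1), (78, 1), (80, 1), (82, 1), (84, 1), (85, 1), (88, 1), (89, 1), (94, 1), (96, 1), (97, 1), (100, 1), (101, 1), (105, 1), (106, 1), (110, 1), (116, 1), (121, 1), (122, 1), (125, 1), (130, 1), (131, 1), (134, 1), (135, 1), (138, 1), (139, 1), (140, 1), (142, 1), (143, 1), (144, 1), (146, 1), (148, 1), (149, 1), (150, 1), (153, 1), (155, 1), (156, 1), (157, 1), (159, 1), (161, 1), (162, 1), (163, 1), (165, 1), (166, 1), (168, 1), (170, 1), (172, 1), (174, 1), (175, 1), (178, 1), (182, 1), (183, 1), (186, 1), (188, 1), (190, 1), (192, 1), (193, 1), (196, 1), (198, 1), (200, 1), (201, 1), (202, 1), (204, 1), (207, 1), (208, 1), (209, 1), (211, 1), (213, 1), (215, 1), (221,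 1), (222, 1), (225, 1), (226, 1), (227, 1), (239, 1), (243, 1), (244, 1), (245, 1)], [(38, 1), (39, 1), (40, 1), (45, 1), (48, 1), (50, 1), (51, 1), (53, 1), (54, 1), (57, 1), (58, 1), (60, 1), (62, 1), (63, 1), (64, 1), (69, 1), (72, 1), (73, 1), (74, 1), (76, 1), (78, 1), (81, 1), (82, 1), (84, 1), (87, 1), (88, 1), (95, 1), (100, 1), (101, 1), (102, 1), (104, 1), (106, 1), (108, 1), (111, 1), (112, 1), (114, 1), (115, 1), (118, 1), (120, 1), (125, 1), (126, 1), (127, 1), (128, 1), (129, 1), (131, 1), (133, 1), (135, 1), (137, 1), (138, 1), (139, 1), (141, 1), (142, 1), (144, 1), (145, 1), (147, 1), (148, 1), (149, 1), (150, 1), (153, 1), (158, 1), (160, 1), (161, 1), (163, 1), (164, 1), (166, 1), (169, 1), (170, 1), (174, 1), (176, 1), (177, 1), (178, 1), (179, 1), (182, 1), (183, 1), (186, 1), (189, 1), (191, 1), (193, 1), (194, 1), (196, 1), (198, 1), (199, 1), (200, 1), (201, 1), (202, 1), (203, 1), (204, 1), (205, 1), (208, 1), (209, 1), (213, 1), (214, 1), (228, 1), (241,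 1), (242, 1), (244, 1)], [(38, 1), (41, 1), (43, 1), (45, 1), (46, 1), (47, 1), (51, 1), (52, 1), (53, 1), (55, 1), (56, 1), (57, 1), (58, 1), (59, 1), (60, 1), (63, 1), (64, 1), (69, 1), (70, 1), (74, 1), (75, 1), (76, 1), (77, 1), (78, 1), (79, 1), (81, 1), (82, 1), (84, 1), (85, 1), (88, 1), (89, 1), (91, 1), (93, 1), (97, 1), (102, 1), (105, 1), (106, 1), (110, 1), (112, 1), (113, 1), (118, 1), (126, 1), (128, 1), (133, 1), (137, 1), (141, 1), (144, 1), (145, 1), (146, 1), (148, 1), (151, 1), (152, 1), (153, 1), (161, 1), (166, 1), (168, 1), (169, 1), (172, 1), (174, 1), (175, 1), (176, 1), (177, 1), (178, 1), (182, 1), (183, 1), (184, 1), (187, 1), (191, 1), (193, 1), (194, 1), (195, 1), (199, 1), (200, 1), (201, 1), (202, 1), (203, 1), (204, 1), (208, 1), (209, 1), (211, 1), (212, 1), (213, 1), (223, 1), (241, 1), (242, 1), (244, 1)], [(45, 1), (46, 1), (49, 1), (52, 1), (54, 1), (58, 1), (61, 1), (62, 1), (64, 1), (69, 1), (75, 1), (77, 1), (79, 1), (82, 1), (83, 1), (88,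 1), (89, 1), (91, 1), (93, 1), (94, 1), (96, 1), (101, 1), (103, 1), (105, 1), (107, 1), (109, 1), (110, 1), (112, 1), (114, 1), (116, 1), (118, 1), (123, 1), (125, 1), (127, 1), (128, 1), (131, 1), (133, 1), (137, 1), (138, 1), (141, 1), (142, 1), (145, 1), (146, 1), (148, 1), (150, 1), (151, 1), (154, 1), (159, 1), (164, 1), (166, 1), (167, 1), (168, 1), (169, 1), (172, 1), (174, 1), (175, 1), (176, 1), (177, 1), (180, 1), (181, 1), (185, 1), (188, 1), (189, 1), (191, 1), (192, 1), (194, 1), (197, 1), (198, 1), (199, 1), (204, 1), (205, 1), (207, 1), (211, 1), (213, 1), (215, 1), (223, 1)], [(46, 1), (60, 1), (109, 1), (111, 1), (164, 1), (170, 1)], [(41, 1), (42, 1), (44, 1), (47, 1), (49, 1), (50, 1), (51, 1), (52, 1), (54, 1), (56, 1), (58, 1), (59, 1), (61, 1), (62, 1), (63, 1), (66, 1), (68, 1), (69, 1), (72, 1), (79, 1), (84, 1), (85, 1), (86, 1), (87, 1), (91, 1), (93, 1), (97, 1), (99, 1), (104, 1), (106, 1), (107, 1), (111, 1), (115, 1), (118, 1), (121, 1), (123, 1),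 (126, 1), (128, 1), (129, 1), (130, 1), (135, 1), (136, 1), (138, 1), (140, 1), (141, 1), (143, 1), (144, 1), (145, 1), (146, 1), (151, 1), (152, 1), (154, 1), (155, 1), (156, 1), (157, 1), (158, 1), (163, 1), (164, 1), (168, 1), (171, 1), (176, 1), (177, 1), (183, 1), (187, 1), (190, 1), (192, 1), (194, 1), (196, 1), (197, 1), (198, 1), (204, 1), (205, 1), (208, 1), (209, 1), (214, 1), (223, 1), (239, 1), (243, 1), (244, 1), (245, 1)], [(39, 1), (40, 1), (41, 1), (42, 1), (43, 1), (45, 1), (46, 1), (48, 1), (50, 1), (51, 1), (52, 1), (53, 1), (54, 1), (56, 1), (57, 1), (58, 1), (59, 1), (65, 1), (67, 1), (68, 1), (69, 1), (72, 1), (73, 1), (74, 1), (75, 1), (83, 1), (85, 1), (86, 1), (87, 1), (89, 1), (90, 1), (91, 1), (92, 1), (96, 1), (97, 1), (98, 1), (99, 1), (100, 1), (101, 1), (103, 1), (104, 1), (106, 1), (108, 1), (109, 1), (111, 1), (115, 1), (116, 1), (117, 1), (118, 1), (122, 1), (123, 1), (125, 1), (128, 1), (130, 1), (131, 1), (132, 1), (133, 1), (135, 1), (139,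 1), (140, 1), (143, 1), (144, 1), (145, 1), (146, 1), (148, 1), (149, 1), (150, 1), (152, 1), (153, 1), (157, 1), (159, 1), (161, 1), (163, 1), (165, 1), (167, 1), (168, 1), (171, 1), (174, 1), (176, 1), (177, 1), (178, 1), (181, 1), (185, 1), (186, 1), (187, 1), (188, 1), (190, 1), (192, 1), (193, 1), (195, 1), (196, 1), (197, 1), (198, 1), (199, 1), (201, 1), (203, 1), (206, 1), (208, 1), (209, 1), (211, 1), (212, 1), (213, 1), (214, 1), (220, 1), (221, 1), (223, 1), (224, 1), (225, 1), (228, 1), (238, 1), (240, 1), (241, 1), (242, 1)], [(42, 1), (43, 1), (46, 1), (49, 1), (52, 1), (53, 1), (60, 1), (62, 1), (63, 1), (64, 1), (65, 1), (67, 1), (68, 1), (70, 1), (71, 1), (73, 1), (75, 1), (76, 1), (78, 1), (80, 1), (84, 1), (86, 1), (88, 1), (90, 1), (91, 1), (93, 1), (94, 1), (96, 1), (99, 1), (100, 1), (101, 1), (103, 1), (105, 1), (108, 1), (110, 1), (112, 1), (117, 1), (120, 1), (123, 1), (124, 1), (125, 1), (132, 1), (133, 1), (139, 1), (140, 1), (142, 1), (143, 1), (144,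 1), (146, 1), (148, 1), (152, 1), (157, 1), (158, 1), (160, 1), (161, 1), (163, 1), (164, 1), (165, 1), (166, 1), (169, 1), (171, 1), (172, 1), (175, 1), (177, 1), (178, 1), (182, 1), (184, 1), (185, 1), (186, 1), (188, 1), (189, 1), (198, 1), (199, 1), (200, 1), (203, 1), (204, 1), (205, 1), (207, 1), (209, 1), (210, 1), (212, 1), (213, 1), (220, 1), (221, 1), (223, 1), (224, 1), (225, 1), (238, 1), (240, 1), (241, 1), (242, 1)], [(39, 1), (40, 1), (42, 1), (44, 1), (45, 1), (47, 1), (48, 1), (49, 1), (57, 1), (58, 1), (60, 1), (63, 1), (66, 1), (68, 1), (69, 1), (70, 1), (72, 1), (74, 1), (78, 1), (82, 1), (85, 1), (86, 1), (87, 1), (89, 1), (91, 1), (92, 1), (93, 1), (96, 1), (98, 1), (99, 1), (100, 1), (103, 1), (111, 1), (114, 1), (115, 1), (116, 1), (117, 1), (118, 1), (119, 1), (121, 1), (122, 1), (126, 1), (129, 1), (131, 1), (133, 1), (135, 1), (139, 1), (142, 1), (143, 1), (148, 1), (149, 1), (151, 1), (152, 1), (153, 1), (156, 1), (157, 1), (161, 1), (163, 1), (164,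 1), (166, 1), (167, 1), (168, 1), (169, 1), (170, 1), (176, 1), (180, 1), (184, 1), (187, 1), (190, 1), (192, 1), (193, 1), (195, 1), (197, 1), (199, 1), (204, 1), (213, 1), (215, 1), (228, 1), (239, 1), (243, 1), (244, 1), (245, 1)], [(41, 1), (42, 1), (44, 1), (45, 1), (47, 1), (50, 1), (51, 1), (52, 1), (53, 1), (56, 1), (58, 1), (60, 1), (62, 1), (63, 1), (64, 1), (66, 1), (68, 1), (72, 1), (75, 1), (76, 1), (79, 1), (80, 1), (82, 1), (83, 1), (87, 1), (88, 1), (89, 1), (91, 1), (92, 1), (93, 1), (95, 1), (97, 1), (99, 1), (100, 1), (101, 1), (103, 1), (106, 1), (107, 1), (108, 1), (109, 1), (110, 1), (114, 1), (116, 1), (117, 1), (119, 1), (121, 1), (127, 1), (128, 1), (129, 1), (130, 1), (131, 1), (132, 1), (134, 1), (136, 1), (137, 1), (140, 1), (141, 1), (142, 1), (143, 1), (144, 1), (146, 1), (148, 1), (150, 1), (151, 1), (154, 1), (156, 1), (160, 1), (161, 1), (163, 1), (164, 1), (167, 1), (169, 1), (170, 1), (171, 1), (177, 1), (178, 1), (179, 1), (180, 1), (181, 1),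 (183, 1), (186, 1), (187, 1), (188, 1), (189, 1), (190, 1), (192, 1), (195, 1), (198, 1), (199, 1), (203, 1), (204, 1), (207, 1), (208, 1), (209, 1), (211, 1), (213, 1), (214, 1), (215, 1), (239, 1), (243, 1), (244, 1), (245, 1)], [(46, 1), (52, 1), (53, 1), (54, 1), (58, 1), (59, 1), (62, 1), (77, 1), (79, 1), (80, 1), (84, 1), (85, 1), (87, 1), (91, 1), (92, 1), (93, 1), (94, 1), (95, 1), (104, 1), (105, 1), (107, 1), (108, 1), (112, 1), (116, 1), (125, 1), (126, 1), (133, 1), (134, 1), (135, 1), (139, 1), (141, 1), (146, 1), (148, 1), (151, 1), (154, 1), (155, 1), (156, 1), (157, 1), (158, 1), (161, 1), (167, 1), (169, 1), (170, 1), (171, 1), (172, 1), (174, 1), (175, 1), (177, 1), (178, 1), (185, 1), (186, 1), (190, 1), (192, 1), (198, 1), (199, 1), (200, 1), (203, 1), (204, 1), (205, 1), (206, 1)], [(45, 1), (49, 1), (52, 1), (54, 1), (58, 1), (60, 1), (61, 1), (62, 1), (64, 1), (69, 1), (75, 1), (77, 1), (79, 1), (82, 1), (83, 1), (88, 1), (89, 1), (91, 1), (93, 1), (94,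 1), (96, 1), (100, 1), (101, 1), (103, 1), (104, 1), (107, 1), (109, 1), (110, 1), (111, 1), (112, 1), (114, 1), (116, 1), (118, 1), (123, 1), (125, 1), (127, 1), (128, 1), (131, 1), (133, 1), (137, 1), (138, 1), (141, 1), (142, 1), (145, 1), (146, 1), (148, 1), (150, 1), (151, 1), (154, 1), (159, 1), (166, 1), (167, 1), (168, 1), (169, 1), (170, 1), (171, 1), (172, 1), (174, 1), (175, 1), (176, 1), (177, 1), (180, 1), (181, 1), (185, 1), (188, 1), (189, 1), (191, 1), (192, 1), (194, 1), (197, 1), (198, 1), (199, 1), (204, 1), (205, 1), (207, 1), (211, 1), (213, 1), (215, 1), (223, 1)], [(45, 1), (49, 1), (52, 1), (54, 1), (58, 1), (60, 1), (61, 1), (62, 1), (64, 1), (69, 1), (75, 1), (77, 1), (79, 1), (82, 1), (83, 1), (88, 1), (89, 1), (91, 1), (93, 1), (94, 1), (96, 1), (101, 1), (103, 1), (104, 1), (105, 1), (107, 1), (109, 1), (110, 1), (112, 1), (114, 1), (116, 1), (118, 1), (123, 1), (125, 1), (127, 1), (128, 1), (131, 1), (133, 1), (137, 1), (138, 1), (141, 1), (142,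 1), (145, 1), (146, 1), (148, 1), (150, 1), (151, 1), (154, 1), (159, 1), (166, 1), (167, 1), (168, 1), (169, 1), (170, 1), (172, 1), (174, 1), (175, 1), (176, 1), (177, 1), (180, 1), (181, 1), (185, 1), (188, 1), (189, 1), (191, 1), (192, 1), (194, 1), (197, 1), (198, 1), (199, 1), (204, 1), (205, 1), (207, 1), (211, 1), (213, 1), (215, 1), (223, 1)]],
    [[(43, 1), (45, 1), (46, 1), (49, 1), (54, 1), (58, 1), (59, 1), (64, 1), (65, 1), (67, 1), (68, 1), (70, 1), (71, 1), (72, 1), (73, 1), (78, 1), (80, 1), (81, 1), (88, 1), (89, 1), (92, 1), (94, 1), (98, 1), (99, 1), (100, 1), (102, 1), (104, 1), (107, 1), (110, 1), (116, 1), (117, 1), (123, 1), (124, 1), (126, 1), (129, 1), (130, 1), (131, 1), (134, 1), (136, 1), (137, 1), (139, 1), (140, 1), (141, 1), (142, 1), (143, 1), (145, 1), (146, 1), (147, 1), (154, 1), (155, 1), (159, 1), (163, 1), (165, 1), (166, 1), (167, 1), (182, 1), (184, 1), (187, 1), (188, 1), (189, 1), (190, 1), (192, 1), (205, 1), (206, 1), (207, 1), (212,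 1), (213, 1), (220, 1), (221, 1), (223, 1), (224, 1), (225, 1), (238, 1), (240, 1), (241, 1), (242, 1)], [(39, 1), (40, 1), (41, 1), (42, 1), (43, 1), (46, 1), (48, 1), (50, 1), (51, 1), (52, 1), (53, 1), (54, 1), (56, 1), (57, 1), (58, 1), (59, 1), (65, 1), (67, 1), (68, 1), (69, 1), (71, 1), (73, 1), (74, 1), (75, 1), (76, 1), (80, 1), (81, 1), (83, 1), (90, 1), (92, 1), (97, 1), (98, 1), (99, 1), (100, 1), (103, 1), (104, 1), (106, 1), (108, 1), (109, 1), (115, 1), (116, 1), (117, 1), (118, 1), (120, 1), (123, 1), (124, 1), (125, 1), (132, 1), (133, 1), (135, 1), (143, 1), (144, 1), (145, 1), (148, 1), (149, 1), (150, 1), (153, 1), (155, 1), (157, 1), (159, 1), (160, 1), (163, 1), (164, 1), (165, 1), (167, 1), (168, 1), (174, 1), (176, 1), (177, 1), (178, 1), (179, 1), (181, 1), (183, 1), (185, 1), (186, 1), (187, 1), (188, 1), (190, 1), (191, 1), (192, 1), (193, 1), (195, 1), (197, 1), (198, 1), (199, 1), (203, 1), (205, 1), (206, 1), (208, 1), (210, 1), (211, 1), (212, 1),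 (213, 1), (214, 1), (220, 1), (221, 1), (223, 1), (224, 1), (225, 1), (228, 1), (238, 1), (240, 1), (241, 1), (242, 1)], [(39, 1), (40, 1), (43, 1), (44, 1), (45, 1), (47, 1), (48, 1), (52, 1), (53, 1), (57, 1), (58, 1), (60, 1), (64, 1), (65, 1), (66, 1), (67, 1), (69, 1), (71, 1), (72, 1), (73, 1), (74, 1), (75, 1), (76, 1), (80, 1), (81, 1), (82, 1), (85, 1), (87, 1), (88, 1), (89, 1), (90, 1), (91, 1), (92, 1), (96, 1), (98, 1), (101, 1), (103, 1), (105, 1), (108, 1), (110, 1), (111, 1), (112, 1), (114, 1), (115, 1), (116, 1), (118, 1), (119, 1), (120, 1), (121, 1), (123, 1), (124, 1), (125, 1), (126, 1), (129, 1), (132, 1), (136, 1), (139, 1), (144, 1), (145, 1), (146, 1), (151, 1), (153, 1), (156, 1), (158, 1), (160, 1), (165, 1), (167, 1), (168, 1), (171, 1), (172, 1), (174, 1), (175, 1), (176, 1), (177, 1), (178, 1), (179, 1), (180, 1), (186, 1), (188, 1), (189, 1), (193, 1), (196, 1), (197, 1), (198, 1), (199, 1), (200, 1), (203, 1), (205, 1), (207, 1), (209, 1), (210,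 1), (212, 1), (215, 1), (220, 1), (221, 1), (223, 1), (224, 1), (225, 1), (228, 1), (238, 1), (239, 1), (240, 1), (241, 1), (242, 1), (243, 1), (244, 1), (245, 1)], [(41, 1), (43, 1), (44, 1), (45, 1), (46, 1), (47, 1), (49, 1), (50, 1), (51, 1), (52, 1), (53, 1), (54, 1), (56, 1), (59, 1), (60, 1), (62, 1), (65, 1), (66, 1), (67, 1), (70, 1), (71, 1), (72, 1), (73, 1), (78, 1), (80, 1), (82, 1), (83, 1), (84, 1), (87, 1), (89, 1), (90, 1), (93, 1), (96, 1), (97, 1), (99, 1), (104, 1), (106, 1), (108, 1), (109, 1), (111, 1), (114, 1), (119, 1), (120, 1), (121, 1), (122, 1), (123, 1), (124, 1), (126, 1), (129, 1), (130, 1), (131, 1), (141, 1), (144, 1), (149, 1), (150, 1), (155, 1), (156, 1), (159, 1), (161, 1), (164, 1), (165, 1), (166, 1), (169, 1), (170, 1), (174, 1), (175, 1), (177, 1), (178, 1), (180, 1), (181, 1), (182, 1), (183, 1), (184, 1), (185, 1), (186, 1), (187, 1), (190, 1), (191, 1), (195, 1), (196, 1), (198, 1), (199, 1), (203, 1), (204, 1), (205, 1), (206, 1),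 (207, 1), (208, 1), (210, 1), (211, 1), (212, 1), (214, 1), (215, 1), (220, 1), (221, 1), (223, 1), (224, 1), (225, 1), (238, 1), (239, 1), (240, 1), (241, 1), (242, 1), (243, 1), (244, 1), (245, 1)], [(39, 1), (40, 1), (43, 1), (44, 1), (45, 1), (46, 1), (47, 1), (48, 1), (54, 1), (57, 1), (59, 1), (60, 1), (63, 1), (64, 1), (65, 1), (66, 1), (67, 1), (69, 1), (71, 1), (72, 1), (73, 1), (74, 1), (75, 1), (79, 1), (81, 1), (82, 1), (85, 1), (87, 1), (88, 1), (89, 1), (90, 1), (91, 1), (93, 1), (94, 1), (95, 1), (98, 1), (101, 1), (104, 1), (107, 1), (109, 1), (110, 1), (114, 1), (115, 1), (118, 1), (119, 1), (120, 1), (121, 1), (123, 1), (124, 1), (127, 1), (128, 1), (129, 1), (131, 1), (134, 1), (135, 1), (137, 1), (140, 1), (141, 1), (142, 1), (145, 1), (146, 1), (148, 1), (149, 1), (151, 1), (153, 1), (154, 1), (155, 1), (156, 1), (157, 1), (159, 1), (161, 1), (165, 1), (168, 1), (169, 1), (170, 1), (171, 1), (176, 1), (180, 1), (182, 1), (185, 1), (188, 1), (189, 1), (193,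 1), (195, 1), (197, 1), (204, 1), (205, 1), (206, 1), (207, 1), (209, 1), (210, 1), (212, 1), (215, 1), (220, 1), (221, 1), (223, 1), (224, 1), (225, 1), (228, 1), (238, 1), (239, 1), (240, 1), (241, 1), (242, 1), (243, 1), (244, 1), (245, 1)], [(41, 1), (42, 1), (44, 1), (45, 1), (46, 1), (47, 1), (50, 1), (51, 1), (52, 1), (53, 1), (56, 1), (58, 1), (63, 1), (64, 1), (66, 1), (68, 1), (72, 1), (76, 1), (77, 1), (79, 1), (80, 1), (82, 1), (83, 1), (84, 1), (85, 1), (88, 1), (89, 1), (92, 1), (93, 1), (96, 1), (97, 1), (100, 1), (101, 1), (103, 1), (106, 1), (107, 1), (108, 1), (109, 1), (110, 1), (112, 1), (114, 1), (115, 1), (116, 1), (121, 1), (129, 1), (130, 1), (131, 1), (134, 1), (136, 1), (139, 1), (141, 1), (142, 1), (144, 1), (145, 1), (149, 1), (150, 1), (151, 1), (152, 1), (154, 1), (156, 1), (159, 1), (160, 1), (161, 1), (163, 1), (164, 1), (171, 1), (172, 1), (177, 1), (178, 1), (180, 1), (182, 1), (183, 1), (186, 1), (187, 1), (188, 1), (190, 1), (191, 1), (194,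 1), (198, 1), (199, 1), (201, 1), (203, 1), (204, 1), (205, 1), (207, 1), (208, 1), (209, 1), (213, 1), (214, 1), (215, 1), (239, 1), (243, 1), (244, 1), (245, 1)], [(42, 1), (43, 1), (46, 1), (49, 1), (52, 1), (53, 1), (60, 1), (64, 1), (65, 1), (67, 1), (68, 1), (70, 1), (71, 1), (73, 1), (75, 1), (78, 1), (80, 1), (81, 1), (84, 1), (85, 1), (88, 1), (90, 1), (91, 1), (93, 1), (96, 1), (101, 1), (103, 1), (105, 1), (108, 1), (110, 1), (111, 1), (112, 1), (117, 1), (120, 1), (122, 1), (123, 1), (124, 1), (125, 1), (127, 1), (133, 1), (135, 1), (136, 1), (137, 1), (139, 1), (140, 1), (141, 1), (142, 1), (143, 1), (145, 1), (149, 1), (152, 1), (157, 1), (158, 1), (161, 1), (163, 1), (164, 1), (165, 1), (166, 1), (169, 1), (172, 1), (174, 1), (177, 1), (178, 1), (182, 1), (184, 1), (186, 1), (187, 1), (188, 1), (189, 1), (191, 1), (198, 1), (199, 1), (203, 1), (204, 1), (205, 1), (209, 1), (210, 1), (212, 1), (213, 1), (220, 1), (221, 1), (223, 1), (224, 1), (225, 1), (238, 1),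 (240, 1), (241, 1), (242, 1)], [(42, 1), (43, 1), (46, 1), (49, 1), (54, 1), (58, 1), (59, 1), (62, 1), (64, 1), (65, 1), (67, 1), (68, 1), (70, 1), (71, 1), (73, 1), (78, 1), (79, 1), (81, 1), (84, 1), (86, 1), (88, 1), (90, 1), (92, 1), (94, 1), (96, 1), (100, 1), (101, 1), (103, 1), (104, 1), (107, 1), (110, 1), (111, 1), (116, 1), (117, 1), (120, 1), (123, 1), (124, 1), (126, 1), (128, 1), (134, 1), (136, 1), (137, 1), (139, 1), (140, 1), (141, 1), (142, 1), (143, 1), (144, 1), (145, 1), (146, 1), (148, 1), (152, 1), (154, 1), (155, 1), (159, 1), (163, 1), (164, 1), (165, 1), (166, 1), (167, 1), (171, 1), (182, 1), (184, 1), (187, 1), (188, 1), (189, 1), (191, 1), (192, 1), (196, 1), (205, 1), (206, 1), (207, 1), (209, 1), (210, 1), (212, 1), (213, 1), (220, 1), (221, 1), (223, 1), (224, 1), (225, 1), (238, 1), (240, 1), (241, 1), (242, 1)], [(42, 1), (43, 1), (46, 1), (49, 1), (54, 1), (58, 1), (59, 1), (63, 1), (64, 1), (65, 1), (67, 1), (68, 1), (70, 1), (71, 1), (73,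 1), (78, 1), (79, 1), (81, 1), (84, 1), (85, 1), (86, 1), (88, 1), (90, 1), (91, 1), (92, 1), (101, 1), (103, 1), (104, 1), (107, 1), (110, 1), (116, 1), (117, 1), (119, 1), (120, 1), (123, 1), (124, 1), (126, 1), (128, 1), (132, 1), (134, 1), (139, 1), (140, 1), (141, 1), (142, 1), (143, 1), (144, 1), (148, 1), (149, 1), (151, 1), (154, 1), (155, 1), (159, 1), (160, 1), (163, 1), (165, 1), (166, 1), (167, 1), (174, 1), (175, 1), (179, 1), (184, 1), (187, 1), (188, 1), (189, 1), (190, 1), (192, 1), (195, 1), (196, 1), (201, 1), (205, 1), (206, 1), (209, 1), (210, 1), (212, 1), (213, 1), (220, 1), (221, 1), (223, 1), (224, 1), (225, 1), (238, 1), (240, 1), (241, 1), (242, 1)], [(42, 1), (43, 1), (49, 1), (52, 1), (53, 1), (64, 1), (65, 1), (67, 1), (68, 1), (70, 1), (71, 1), (73, 1), (76, 1), (78, 1), (80, 1), (81, 1), (84, 1), (85, 1), (86, 1), (88, 1), (90, 1), (91, 1), (93, 1), (94, 1), (95, 1), (96, 1), (99, 1), (101, 1), (103, 1), (105, 1), (108, 1), (110, 1), (111, 1), (112,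 1), (117, 1), (119, 1), (120, 1), (123, 1), (124, 1), (125, 1), (127, 1), (133, 1), (135, 1), (136, 1), (137, 1), (139, 1), (140, 1), (142, 1), (143, 1), (144, 1), (145, 1), (148, 1), (151, 1), (152, 1), (157, 1), (158, 1), (161, 1), (163, 1), (165, 1), (166, 1), (169, 1), (170, 1), (172, 1), (177, 1), (178, 1), (182, 1), (184, 1), (185, 1), (186, 1), (187, 1), (188, 1), (189, 1), (190, 1), (191, 1), (192, 1), (198, 1), (199, 1), (200, 1), (201, 1), (203, 1), (204, 1), (205, 1), (209, 1), (210, 1), (212, 1), (213, 1), (220, 1), (221, 1), (223, 1), (224, 1), (225, 1), (238, 1), (240, 1), (241, 1), (242, 1)], [(46, 1), (60, 1), (62, 1), (75, 1), (84, 1), (85, 1), (87, 1), (91, 1), (94, 1), (96, 1), (122, 1), (132, 1), (135, 1), (139, 1), (141, 1), (145, 1), (170, 1), (174, 1), (179, 1), (185, 1), (190, 1), (191, 1), (195, 1), (196, 1), (199, 1), (200, 1), (205, 1)], [(52, 1), (53, 1), (54, 1), (58, 1), (59, 1), (60, 1), (62, 1), (63, 1), (75, 1), (76, 1), (79, 1), (80, 1), (84,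 1), (92, 1), (93, 1), (94, 1), (96, 1), (100, 1), (104, 1), (105, 1), (107, 1), (108, 1), (112, 1), (116, 1), (122, 1), (125, 1), (126, 1), (127, 1), (132, 1), (133, 1), (134, 1), (135, 1), (136, 1), (145, 1), (148, 1), (152, 1), (154, 1), (155, 1), (157, 1), (158, 1), (159, 1), (160, 1), (161, 1), (167, 1), (169, 1), (171, 1), (172, 1), (174, 1), (175, 1), (177, 1), (178, 1), (179, 1), (182, 1), (186, 1), (190, 1), (192, 1), (195, 1), (198, 1), (200, 1), (201, 1), (203, 1), (204, 1), (206, 1)], [(52, 1), (53, 1), (54, 1), (58, 1), (59, 1), (60, 1), (62, 1), (75, 1), (79, 1), (80, 1), (86, 1), (87, 1), (92, 1), (93, 1), (95, 1), (100, 1), (104, 1), (105, 1), (107, 1), (108, 1), (111, 1), (112, 1), (116, 1), (122, 1), (125, 1), (126, 1), (132, 1), (133, 1), (134, 1), (135, 1), (137, 1), (144, 1), (145, 1), (148, 1), (154, 1), (155, 1), (157, 1), (158, 1), (160, 1), (161, 1), (167, 1), (169, 1), (172, 1), (175, 1), (177, 1), (178, 1), (179, 1), (182, 1), (186, 1), (196, 1), (198,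 1), (199, 1), (203, 1), (204, 1), (205, 1)], [(52, 1), (53, 1), (54, 1), (58, 1), (59, 1), (60, 1), (62, 1), (77, 1), (79, 1), (80, 1), (86, 1), (92, 1), (93, 1), (95, 1), (96, 1), (100, 1), (104, 1), (105, 1), (107, 1), (108, 1), (112, 1), (116, 1), (122, 1), (125, 1), (126, 1), (127, 1), (128, 1), (132, 1), (133, 1), (134, 1), (135, 1), (146, 1), (148, 1), (151, 1), (152, 1), (154, 1), (155, 1), (157, 1), (158, 1), (159, 1), (160, 1), (161, 1), (167, 1), (169, 1), (171, 1), (172, 1), (175, 1), (177, 1), (178, 1), (179, 1), (182, 1), (186, 1), (191, 1), (192, 1), (195, 1), (196, 1), (198, 1), (199, 1), (203, 1), (204, 1)]],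
    [[(63, 1), (87, 1), (97, 1), (98, 1), (100, 1), (111, 1), (136, 1), (137, 1), (145, 1), (155, 1), (161, 1), (171, 1), (175, 1), (191, 1), (192, 1), (201, 1), (205, 1), (207, 1)], [(39, 1), (40, 1), (41, 1), (45, 1), (46, 1), (47, 1), (48, 1), (53, 1), (54, 1), (55, 1), (57, 1), (59, 1), (60, 1), (61, 1), (62, 1), (66, 1), (68, 1), (69, 1), (70, 1), (72, 1), (74, 1), (75, 1), (79, 1), (80, 1), (84, 1), (86, 1), (87, 1), (88, 1), (90, 1), (92, 1), (93, 1), (94, 1), (95, 1), (99, 1), (101, 1), (102, 1), (103, 1), (104, 1), (108, 1), (112, 1), (113, 1), (115, 1), (119, 1), (120, 1), (121, 1), (122, 1), (123, 1), (125, 1), (127, 1), (129, 1), (134, 1), (136, 1), (139, 1), (141, 1), (145, 1), (146, 1), (149, 1), (152, 1), (153, 1), (156, 1), (158, 1), (159, 1), (160, 1), (163, 1), (164, 1), (166, 1), (169, 1), (173, 1), (174, 1), (176, 1), (177, 1), (178, 1), (180, 1), (184, 1), (185, 1), (186, 1), (187, 1), (195, 1), (203, 1), (206, 1), (207, 1), (208, 1), (213, 1), (214, 1),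 (228, 1), (239, 1), (243, 1), (244, 1), (245, 1)], [(102, 1)], [(41, 1), (42, 1), (46, 1), (47, 1), (48, 1), (54, 1), (57, 1), (59, 1), (61, 1), (63, 1), (66, 1), (68, 1), (69, 1), (73, 1), (75, 1), (76, 1), (77, 1), (78, 1), (79, 1), (80, 1), (83, 1), (84, 1), (86, 1), (89, 1), (90, 1), (92, 1), (95, 1), (97, 1), (99, 1), (100, 1), (104, 1), (108, 1), (112, 1), (114, 1), (116, 1), (117, 1), (121, 1), (122, 1), (123, 1), (130, 1), (131, 1), (132, 1), (133, 1), (134, 1), (136, 1), (141, 1), (142, 1), (144, 1), (145, 1), (146, 1), (152, 1), (153, 1), (154, 1), (155, 1), (156, 1), (158, 1), (159, 1), (160, 1), (162, 1), (163, 1), (165, 1), (172, 1), (176, 1), (177, 1), (178, 1), (179, 1), (182, 1), (186, 1), (188, 1), (190, 1), (193, 1), (195, 1), (197, 1), (198, 1), (199, 1), (200, 1), (202, 1), (204, 1), (205, 1), (208, 1), (210, 1), (221, 1), (222, 1), (223, 1), (225, 1), (226, 1), (227, 1), (239, 1), (243, 1), (244, 1), (245, 1)], [(37, 1), (42, 1), (43, 1), (49, 1), (50, 1),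 (51, 1), (53, 1), (54, 1), (56, 1), (57, 1), (59, 1), (60, 1), (62, 1), (64, 1), (68, 1), (70, 1), (73, 1), (74, 1), (80, 1), (81, 1), (82, 1), (83, 1), (87, 1), (93, 1), (95, 1), (96, 1), (100, 1), (101, 1), (102, 1), (103, 1), (104, 1), (105, 1), (106, 1), (107, 1), (108, 1), (109, 1), (113, 1), (114, 1), (116, 1), (117, 1), (123, 1), (127, 1), (128, 1), (130, 1), (132, 1), (133, 1), (134, 1), (137, 1), (141, 1), (143, 1), (144, 1), (146, 1), (154, 1), (158, 1), (159, 1), (161, 1), (164, 1), (168, 1), (173, 1), (178, 1), (179, 1), (181, 1), (182, 1), (183, 1), (184, 1), (185, 1), (186, 1), (187, 1), (190, 1), (191, 1), (192, 1), (195, 1), (196, 1), (198, 1), (202, 1), (209, 1), (211, 1), (212, 1), (213, 1), (214, 1), (221, 1), (222, 1), (223, 1), (225, 1), (226, 1), (227, 1), (239, 1), (241, 1), (242, 1), (243, 1), (245, 1)], [(37, 1), (38, 1), (43, 1), (44, 1), (45, 1), (48, 1), (49, 1), (50, 1), (53, 1), (54, 1), (57, 1), (61, 1), (62, 1), (63, 1), (72, 1), (73, 1), (75,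 1), (76, 1), (78, 1), (83, 1), (84, 1), (86, 1), (88, 1), (89, 1), (91, 1), (93, 1), (94, 1), (95, 1), (98, 1), (101, 1), (103, 1), (104, 1), (105, 1), (108, 1), (109, 1), (110, 1), (112, 1), (117, 1), (118, 1), (120, 1), (122, 1), (123, 1), (126, 1), (127, 1), (129, 1), (135, 1), (136, 1), (139, 1), (141, 1), (143, 1), (148, 1), (149, 1), (151, 1), (152, 1), (154, 1), (155, 1), (157, 1), (158, 1), (159, 1), (166, 1), (168, 1), (170, 1), (171, 1), (174, 1), (175, 1), (178, 1), (185, 1), (187, 1), (189, 1), (190, 1), (191, 1), (193, 1), (194, 1), (197, 1), (200, 1), (205, 1), (206, 1), (207, 1), (208, 1), (221, 1), (222, 1), (223, 1), (225, 1), (226, 1), (227, 1)], [(39, 1), (40, 1), (42, 1), (44, 1), (46, 1), (47, 1), (48, 1), (49, 1), (57, 1), (58, 1), (63, 1), (68, 1), (69, 1), (70, 1), (72, 1), (74, 1), (78, 1), (82, 1), (85, 1), (87, 1), (89, 1), (91, 1), (92, 1), (93, 1), (95, 1), (98, 1), (101, 1), (103, 1), (114, 1), (115, 1), (116, 1), (117, 1), (118, 1), (121, 1), (123,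 1), (125, 1), (126, 1), (127, 1), (129, 1), (130, 1), (133, 1), (137, 1), (139, 1), (141, 1), (143, 1), (144, 1), (146, 1), (153, 1), (155, 1), (156, 1), (157, 1), (161, 1), (163, 1), (164, 1), (166, 1), (167, 1), (168, 1), (169, 1), (171, 1), (174, 1), (176, 1), (177, 1), (180, 1), (182, 1), (184, 1), (187, 1), (188, 1), (191, 1), (193, 1), (195, 1), (197, 1), (199, 1), (200, 1), (201, 1), (204, 1), (209, 1), (210, 1), (213, 1), (215, 1), (228, 1), (239, 1), (243, 1), (244, 1), (245, 1)], [(42, 1), (43, 1), (46, 1), (49, 1), (54, 1), (58, 1), (59, 1), (63, 1), (64, 1), (65, 1), (67, 1), (68, 1), (70, 1), (71, 1), (72, 1), (73, 1), (75, 1), (78, 1), (80, 1), (81, 1), (84, 1), (85, 1), (88, 1), (89, 1), (90, 1), (92, 1), (95, 1), (96, 1), (100, 1), (101, 1), (104, 1), (107, 1), (110, 1), (116, 1), (117, 1), (120, 1), (122, 1), (124, 1), (125, 1), (126, 1), (127, 1), (128, 1), (131, 1), (134, 1), (137, 1), (139, 1), (141, 1), (143, 1), (145, 1), (148, 1), (151, 1), (152, 1), (159,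 1), (160, 1), (163, 1), (165, 1), (166, 1), (167, 1), (174, 1), (177, 1), (184, 1), (187, 1), (189, 1), (192, 1), (200, 1), (205, 1), (206, 1), (207, 1), (209, 1), (210, 1), (212, 1), (213, 1), (220, 1), (221, 1), (223, 1), (224, 1), (225, 1), (238, 1), (240, 1), (241, 1), (242, 1)], [(39, 1), (40, 1), (44, 1), (47, 1), (48, 1), (49, 1), (52, 1), (53, 1), (54, 1), (57, 1), (59, 1), (63, 1), (66, 1), (68, 1), (69, 1), (70, 1), (72, 1), (74, 1), (76, 1), (78, 1), (79, 1), (82, 1), (90, 1), (94, 1), (100, 1), (101, 1), (102, 1), (104, 1), (105, 1), (107, 1), (108, 1), (112, 1), (114, 1), (115, 1), (117, 1), (118, 1), (119, 1), (121, 1), (125, 1), (127, 1), (129, 1), (134, 1), (142, 1), (143, 1), (152, 1), (153, 1), (154, 1), (155, 1), (156, 1), (158, 1), (160, 1), (163, 1), (164, 1), (166, 1), (168, 1), (170, 1), (172, 1), (174, 1), (175, 1), (176, 1), (177, 1), (178, 1), (180, 1), (184, 1), (185, 1), (186, 1), (187, 1), (190, 1), (191, 1), (192, 1), (193, 1), (195, 1), (196, 1),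 (197, 1), (198, 1), (199, 1), (200, 1), (201, 1), (203, 1), (205, 1), (209, 1), (210, 1), (213, 1), (215, 1), (228, 1), (239, 1), (243, 1), (244, 1), (245, 1)], [(45, 1), (77, 1), (80, 1), (87, 1), (89, 1), (96, 1), (99, 1), (100, 1), (101, 1), (111, 1), (120, 1), (138, 1), (139, 1), (145, 1), (147, 1), (154, 1), (159, 1), (171, 1), (175, 1), (191, 1), (192, 1), (201, 1), (205, 1), (207, 1)], [(42, 1), (43, 1), (52, 1), (53, 1), (54, 1), (58, 1), (59, 1), (60, 1), (75, 1), (76, 1), (85, 1), (87, 1), (89, 1), (90, 1), (91, 1), (92, 1), (93, 1), (95, 1), (102, 1), (104, 1), (105, 1), (107, 1), (108, 1), (112, 1), (116, 1), (119, 1), (123, 1), (126, 1), (127, 1), (131, 1), (133, 1), (134, 1), (142, 1), (144, 1), (145, 1), (148, 1), (149, 1), (151, 1), (152, 1), (157, 1), (158, 1), (161, 1), (167, 1), (169, 1), (171, 1), (172, 1), (178, 1), (182, 1), (186, 1), (188, 1), (190, 1), (192, 1), (196, 1), (198, 1), (200, 1), (203, 1), (204, 1), (207, 1)], [(63, 1), (87, 1), (100, 1), (111,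 1), (136, 1), (137, 1), (145, 1), (155, 1), (161, 1), (171, 1), (175, 1), (191, 1), (192, 1), (201, 1), (205, 1), (207, 1)], [(45, 1), (49, 1), (53, 1), (59, 1), (61, 1), (62, 1), (63, 1), (64, 1), (69, 1), (76, 1), (80, 1), (82, 1), (83, 1), (84, 1), (85, 1), (87, 1), (88, 1), (89, 1), (92, 1), (101, 1), (103, 1), (105, 1), (108, 1), (109, 1), (110, 1), (114, 1), (118, 1), (119, 1), (120, 1), (122, 1), (123, 1), (126, 1), (127, 1), (128, 1), (131, 1), (134, 1), (136, 1), (138, 1), (141, 1), (142, 1), (146, 1), (149, 1), (150, 1), (154, 1), (157, 1), (158, 1), (160, 1), (166, 1), (168, 1), (170, 1), (171, 1), (175, 1), (176, 1), (178, 1), (180, 1), (181, 1), (182, 1), (183, 1), (185, 1), (186, 1), (188, 1), (189, 1), (191, 1), (194, 1), (195, 1), (197, 1), (199, 1), (201, 1), (211, 1), (213, 1), (215, 1), (223, 1)], [(42, 1), (46, 1), (60, 1), (75, 1), (80, 1), (84, 1), (87, 1), (89, 1), (90, 1), (95, 1), (98, 1), (99, 1), (102, 1), (111, 1), (123, 1), (125, 1), (128, 1), (130,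 1), (135, 1), (136, 1), (137, 1), (138, 1), (139, 1), (140, 1), (141, 1), (142, 1), (147, 1), (149, 1), (152, 1), (155, 1), (159, 1), (160, 1), (164, 1), (170, 1), (171, 1), (175, 1), (177, 1), (182, 1), (185, 1), (188, 1), (190, 1), (191, 1), (196, 1), (199, 1), (201, 1), (205, 1), (206, 1), (207, 1), (209, 1), (210, 1)], [(63, 1), (87, 1), (98, 1), (100, 1), (111, 1), (136, 1), (137, 1), (145, 1), (155, 1), (161, 1), (171, 1), (175, 1), (191, 1), (192, 1), (201, 1), (205, 1), (207, 1)]],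
    [[(37, 1), (43, 1), (44, 1), (45, 1), (49, 1), (50, 1), (51, 1), (53, 1), (55, 1), (56, 1), (59, 1), (60, 1), (62, 1), (66, 1), (72, 1), (73, 1), (75, 1), (76, 1), (77, 1), (78, 1), (79, 1), (83, 1), (85, 1), (86, 1), (87, 1), (88, 1), (90, 1), (91, 1), (93, 1), (94, 1), (96, 1), (98, 1), (99, 1), (101, 1), (106, 1), (111, 1), (113, 1), (116, 1), (118, 1), (121, 1), (122, 1), (123, 1), (125, 1), (127, 1), (129, 1), (134, 1), (135, 1), (138, 1), (142, 1), (145, 1), (148, 1), (151, 1), (154, 1), (155, 1), (160, 1), (162, 1), (165, 1), (166, 1), (168, 1), (170, 1), (177, 1), (181, 1), (182, 1), (186, 1), (187, 1), (188, 1), (189, 1), (191, 1), (192, 1), (193, 1), (197, 1), (199, 1), (201, 1), (202, 1), (204, 1), (206, 1), (207, 1), (208, 1), (210, 1), (211, 1), (214, 1), (221, 1), (222, 1), (223, 1), (225, 1), (226, 1), (227, 1)], [(37, 1), (41, 1), (42, 1), (43, 1), (44, 1), (47, 1), (52, 1), (54, 1), (55, 1), (57, 1), (58, 1), (59, 1), (61, 1), (63, 1), (70, 1), (72, 1), (73,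 1), (74, 1), (75, 1), (77, 1), (79, 1), (81, 1), (84, 1), (86, 1), (87, 1), (91, 1), (92, 1), (93, 1), (95, 1), (97, 1), (98, 1), (101, 1), (104, 1), (109, 1), (110, 1), (113, 1), (114, 1), (117, 1), (118, 1), (119, 1), (122, 1), (123, 1), (126, 1), (127, 1), (129, 1), (136, 1), (140, 1), (142, 1), (144, 1), (145, 1), (148, 1), (150, 1), (151, 1), (156, 1), (157, 1), (159, 1), (163, 1), (167, 1), (170, 1), (172, 1), (174, 1), (177, 1), (178, 1), (182, 1), (184, 1), (188, 1), (190, 1), (192, 1), (196, 1), (197, 1), (198, 1), (201, 1), (202, 1), (203, 1), (204, 1), (206, 1), (208, 1), (210, 1), (212, 1), (214, 1), (221, 1), (222, 1), (225, 1), (226, 1), (227, 1), (241, 1), (242, 1), (244, 1)], [(37, 1), (38, 1), (43, 1), (44, 1), (45, 1), (48, 1), (50, 1), (53, 1), (55, 1), (57, 1), (60, 1), (62, 1), (63, 1), (72, 1), (73, 1), (75, 1), (77, 1), (78, 1), (79, 1), (80, 1), (83, 1), (84, 1), (85, 1), (86, 1), (88, 1), (90, 1), (92, 1), (95, 1), (96, 1), (98, 1), (99, 1), (100, 1),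 (101, 1), (103, 1), (105, 1), (108, 1), (109, 1), (110, 1), (113, 1), (114, 1), (115, 1), (120, 1), (122, 1), (123, 1), (125, 1), (128, 1), (129, 1), (131, 1), (134, 1), (136, 1), (137, 1), (139, 1), (140, 1), (141, 1), (144, 1), (146, 1), (150, 1), (151, 1), (152, 1), (160, 1), (161, 1), (169, 1), (170, 1), (177, 1), (181, 1), (183, 1), (185, 1), (186, 1), (187, 1), (188, 1), (189, 1), (190, 1), (193, 1), (195, 1), (197, 1), (200, 1), (203, 1), (204, 1), (205, 1), (206, 1), (207, 1), (208, 1), (209, 1), (210, 1), (211, 1), (221, 1), (222, 1), (223, 1), (225, 1), (226, 1), (227, 1)], [(41, 1), (42, 1), (44, 1), (46, 1), (47, 1), (49, 1), (50, 1), (51, 1), (52, 1), (54, 1), (56, 1), (58, 1), (59, 1), (60, 1), (61, 1), (62, 1), (63, 1), (66, 1), (68, 1), (69, 1), (72, 1), (79, 1), (84, 1), (85, 1), (86, 1), (87, 1), (91, 1), (93, 1), (97, 1), (104, 1), (106, 1), (107, 1), (116, 1), (117, 1), (118, 1), (121, 1), (123, 1), (126, 1), (128, 1), (129, 1), (130, 1), (135, 1), (136, 1),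 (138, 1), (140, 1), (141, 1), (143, 1), (144, 1), (145, 1), (146, 1), (151, 1), (152, 1), (154, 1), (155, 1), (156, 1), (157, 1), (158, 1), (163, 1), (164, 1), (166, 1), (167, 1), (168, 1), (169, 1), (176, 1), (177, 1), (183, 1), (187, 1), (190, 1), (192, 1), (194, 1), (196, 1), (197, 1), (198, 1), (204, 1), (205, 1), (208, 1), (209, 1), (214, 1), (223, 1), (239, 1), (243, 1), (244, 1), (245, 1)], [(37, 1), (41, 1), (42, 1), (44, 1), (46, 1), (47, 1), (49, 1), (50, 1), (51, 1), (53, 1), (55, 1), (56, 1), (57, 1), (61, 1), (66, 1), (68, 1), (69, 1), (72, 1), (80, 1), (84, 1), (91, 1), (92, 1), (95, 1), (96, 1), (97, 1), (99, 1), (103, 1), (105, 1), (106, 1), (108, 1), (109, 1), (112, 1), (116, 1), (121, 1), (122, 1), (123, 1), (125, 1), (128, 1), (129, 1), (130, 1), (131, 1), (132, 1), (133, 1), (134, 1), (138, 1), (139, 1), (143, 1), (144, 1), (145, 1), (149, 1), (152, 1), (156, 1), (161, 1), (162, 1), (163, 1), (167, 1), (168, 1), (170, 1), (171, 1), (172, 1), (173, 1), (176,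 1), (178, 1), (179, 1), (183, 1), (185, 1), (186, 1), (187, 1), (190, 1), (194, 1), (195, 1), (196, 1), (197, 1), (199, 1), (203, 1), (207, 1), (208, 1), (210, 1), (214, 1), (223, 1), (239, 1), (243, 1), (244, 1), (245, 1)], [(37, 1), (46, 1), (49, 1), (54, 1), (57, 1), (61, 1), (63, 1), (77, 1), (79, 1), (80, 1), (84, 1), (87, 1), (89, 1), (90, 1), (91, 1), (99, 1), (100, 1), (103, 1), (104, 1), (109, 1), (111, 1), (112, 1), (115, 1), (116, 1), (118, 1), (119, 1), (122, 1), (125, 1), (126, 1), (128, 1), (131, 1), (133, 1), (134, 1), (135, 1), (140, 1), (142, 1), (143, 1), (145, 1), (146, 1), (149, 1), (152, 1), (154, 1), (155, 1), (159, 1), (160, 1), (162, 1), (166, 1), (167, 1), (169, 1), (170, 1), (172, 1), (175, 1), (177, 1), (178, 1), (180, 1), (181, 1), (182, 1), (185, 1), (186, 1), (188, 1), (189, 1), (192, 1), (194, 1), (195, 1), (199, 1), (200, 1), (205, 1), (209, 1), (210, 1)], [(38, 1), (39, 1), (40, 1), (41, 1), (43, 1), (46, 1), (48, 1), (51, 1), (52, 1), (53, 1),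 (54, 1), (56, 1), (57, 1), (58, 1), (59, 1), (62, 1), (63, 1), (65, 1), (66, 1), (67, 1), (68, 1), (69, 1), (70, 1), (71, 1), (74, 1), (75, 1), (78, 1), (79, 1), (80, 1), (82, 1), (83, 1), (84, 1), (87, 1), (89, 1), (90, 1), (91, 1), (93, 1), (94, 1), (96, 1), (97, 1), (102, 1), (103, 1), (104, 1), (105, 1), (106, 1), (108, 1), (109, 1), (113, 1), (117, 1), (118, 1), (119, 1), (120, 1), (121, 1), (123, 1), (124, 1), (125, 1), (127, 1), (128, 1), (130, 1), (132, 1), (133, 1), (135, 1), (136, 1), (137, 1), (138, 1), (140, 1), (141, 1), (142, 1), (143, 1), (144, 1), (145, 1), (147, 1), (148, 1), (149, 1), (151, 1), (152, 1), (153, 1), (154, 1), (155, 1), (156, 1), (158, 1), (164, 1), (165, 1), (166, 1), (168, 1), (169, 1), (174, 1), (175, 1), (180, 1), (181, 1), (184, 1), (189, 1), (190, 1), (191, 1), (192, 1), (194, 1), (196, 1), (198, 1), (199, 1), (200, 1), (201, 1), (202, 1), (203, 1), (205, 1), (208, 1), (212, 1), (213, 1), (214, 1), (220, 1), (221, 1), (223, 1), (224, 1),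 (225, 1), (228, 1), (238, 1), (240, 1), (241, 1), (242, 1)], [(38, 1), (41, 1), (42, 1), (44, 1), (45, 1), (46, 1), (47, 1), (49, 1), (51, 1), (52, 1), (53, 1), (54, 1), (55, 1), (56, 1), (58, 1), (60, 1), (61, 1), (62, 1), (66, 1), (71, 1), (72, 1), (76, 1), (77, 1), (78, 1), (80, 1), (81, 1), (84, 1), (89, 1), (94, 1), (97, 1), (99, 1), (101, 1), (104, 1), (105, 1), (106, 1), (107, 1), (108, 1), (109, 1), (110, 1), (111, 1), (113, 1), (114, 1), (117, 1), (118, 1), (119, 1), (121, 1), (123, 1), (124, 1), (125, 1), (126, 1), (127, 1), (128, 1), (134, 1), (135, 1), (136, 1), (137, 1), (140, 1), (141, 1), (142, 1), (143, 1), (144, 1), (148, 1), (150, 1), (151, 1), (152, 1), (154, 1), (157, 1), (158, 1), (160, 1), (166, 1), (167, 1), (169, 1), (171, 1), (172, 1), (175, 1), (176, 1), (177, 1), (178, 1), (179, 1), (180, 1), (184, 1), (187, 1), (188, 1), (193, 1), (196, 1), (197, 1), (198, 1), (200, 1), (201, 1), (202, 1), (203, 1), (204, 1), (208, 1), (210, 1), (212, 1), (213, 1),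 (214, 1), (215, 1), (239, 1), (243, 1), (244, 1), (245, 1)], [(38, 1), (41, 1), (42, 1), (44, 1), (45, 1), (46, 1), (47, 1), (51, 1), (52, 1), (53, 1), (56, 1), (58, 1), (63, 1), (66, 1), (68, 1), (69, 1), (72, 1), (75, 1), (76, 1), (79, 1), (80, 1), (85, 1), (89, 1), (91, 1), (93, 1), (97, 1), (99, 1), (101, 1), (103, 1), (105, 1), (106, 1), (107, 1), (108, 1), (109, 1), (110, 1), (113, 1), (114, 1), (115, 1), (117, 1), (121, 1), (123, 1), (127, 1), (128, 1), (129, 1), (130, 1), (132, 1), (135, 1), (136, 1), (137, 1), (140, 1), (143, 1), (145, 1), (148, 1), (149, 1), (150, 1), (154, 1), (157, 1), (158, 1), (160, 1), (164, 1), (166, 1), (171, 1), (175, 1), (176, 1), (177, 1), (178, 1), (179, 1), (185, 1), (187, 1), (189, 1), (193, 1), (195, 1), (196, 1), (198, 1), (199, 1), (200, 1), (202, 1), (203, 1), (204, 1), (208, 1), (210, 1), (213, 1), (214, 1), (215, 1), (239, 1), (243, 1), (244, 1), (245, 1)], [(46, 1), (49, 1), (54, 1), (55, 1), (61, 1), (63, 1), (77, 1), (79, 1), (80,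 1), (84, 1), (87, 1), (89, 1), (90, 1), (91, 1), (99, 1), (100, 1), (103, 1), (104, 1), (109, 1), (111, 1), (115, 1), (118, 1), (119, 1), (122, 1), (125, 1), (126, 1), (128, 1), (131, 1), (133, 1), (134, 1), (135, 1), (140, 1), (142, 1), (143, 1), (145, 1), (146, 1), (149, 1), (152, 1), (154, 1), (155, 1), (159, 1), (160, 1), (167, 1), (169, 1), (170, 1), (172, 1), (175, 1), (177, 1), (178, 1), (180, 1), (181, 1), (182, 1), (185, 1), (186, 1), (188, 1), (189, 1), (192, 1), (194, 1), (195, 1), (197, 1), (198, 1), (199, 1), (200, 1), (205, 1), (209, 1), (210, 1)], [(37, 1), (38, 1), (42, 1), (45, 1), (46, 1), (49, 1), (54, 1), (56, 1), (57, 1), (61, 1), (66, 1), (76, 1), (88, 1), (89, 1), (93, 1), (94, 1), (95, 1), (98, 1), (100, 1), (101, 1), (102, 1), (104, 1), (109, 1), (111, 1), (113, 1), (114, 1), (115, 1), (118, 1), (121, 1), (126, 1), (127, 1), (132, 1), (133, 1), (139, 1), (140, 1), (144, 1), (145, 1), (146, 1), (160, 1), (161, 1), (162, 1), (167, 1), (168, 1), (169, 1),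 (172, 1), (178, 1), (179, 1), (180, 1), (185, 1), (189, 1), (192, 1), (195, 1), (197, 1), (198, 1), (199, 1), (200, 1), (201, 1), (205, 1), (207, 1), (209, 1), (213, 1), (215, 1), (223, 1)], [(38, 1), (42, 1), (43, 1), (44, 1), (45, 1), (46, 1), (48, 1), (49, 1), (51, 1), (52, 1), (56, 1), (57, 1), (58, 1), (59, 1), (60, 1), (66, 1), (75, 1), (79, 1), (80, 1), (85, 1), (86, 1), (88, 1), (89, 1), (91, 1), (92, 1), (96, 1), (97, 1), (98, 1), (99, 1), (101, 1), (102, 1), (103, 1), (105, 1), (106, 1), (107, 1), (110, 1), (111, 1), (114, 1), (115, 1), (118, 1), (121, 1), (123, 1), (125, 1), (126, 1), (128, 1), (131, 1), (133, 1), (135, 1), (136, 1), (139, 1), (140, 1), (143, 1), (145, 1), (149, 1), (151, 1), (153, 1), (154, 1), (155, 1), (157, 1), (159, 1), (167, 1), (171, 1), (173, 1), (174, 1), (177, 1), (178, 1), (181, 1), (192, 1), (194, 1), (195, 1), (196, 1), (197, 1), (201, 1), (202, 1), (203, 1), (204, 1), (206, 1), (207, 1), (209, 1), (213, 1), (215, 1), (223, 1)], [(103,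 1), (116, 1), (163, 1), (166, 1), (167, 1), (170, 1), (213, 1)], [(42, 1), (45, 1), (46, 1), (49, 1), (54, 1), (55, 1), (61, 1), (64, 1), (66, 1), (68, 1), (70, 1), (71, 1), (72, 1), (73, 1), (75, 1), (79, 1), (80, 1), (83, 1), (85, 1), (88, 1), (98, 1), (99, 1), (100, 1), (101, 1), (102, 1), (103, 1), (104, 1), (111, 1), (112, 1), (115, 1), (117, 1), (118, 1), (119, 1), (120, 1), (121, 1), (124, 1), (128, 1), (131, 1), (132, 1), (134, 1), (136, 1), (137, 1), (138, 1), (140, 1), (143, 1), (144, 1), (145, 1), (147, 1), (149, 1), (150, 1), (154, 1), (155, 1), (164, 1), (169, 1), (170, 1), (176, 1), (177, 1), (178, 1), (179, 1), (180, 1), (184, 1), (187, 1), (190, 1), (191, 1), (195, 1), (196, 1), (197, 1), (198, 1), (199, 1), (200, 1), (201, 1), (206, 1), (207, 1), (209, 1), (210, 1), (211, 1), (212, 1)], [(38, 1), (42, 1), (44, 1), (50, 1), (52, 1), (55, 1), (58, 1), (59, 1), (63, 1), (64, 1), (69, 1), (75, 1), (77, 1), (79, 1), (80, 1), (82, 1), (83, 1), (84, 1), (85, 1), (91,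 1), (96, 1), (97, 1), (99, 1), (102, 1), (105, 1), (107, 1), (110, 1), (117, 1), (122, 1), (123, 1), (125, 1), (126, 1), (128, 1), (132, 1), (135, 1), (137, 1), (139, 1), (141, 1), (142, 1), (145, 1), (150, 1), (154, 1), (155, 1), (156, 1), (157, 1), (158, 1), (159, 1), (160, 1), (161, 1), (163, 1), (169, 1), (170, 1), (171, 1), (172, 1), (175, 1), (176, 1), (177, 1), (178, 1), (179, 1), (181, 1), (183, 1), (188, 1), (189, 1), (190, 1), (191, 1), (194, 1), (196, 1), (199, 1), (200, 1), (201, 1), (202, 1), (203, 1), (205, 1), (213, 1), (215, 1)], [(42, 1), (46, 1), (53, 1), (54, 1), (55, 1), (59, 1), (64, 1), (66, 1), (69, 1), (75, 1), (76, 1), (79, 1), (82, 1), (83, 1), (86, 1), (87, 1), (89, 1), (90, 1), (92, 1), (93, 1), (94, 1), (98, 1), (99, 1), (102, 1), (104, 1), (105, 1), (108, 1), (110, 1), (111, 1), (112, 1), (113, 1), (114, 1), (116, 1), (117, 1), (119, 1), (121, 1), (122, 1), (123, 1), (125, 1), (126, 1), (127, 1), (128, 1), (131, 1), (132, 1), (133, 1), (138, 1),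 (139, 1), (140, 1), (143, 1), (145, 1), (146, 1), (148, 1), (150, 1), (152, 1), (154, 1), (157, 1), (158, 1), (159, 1), (160, 1), (168, 1), (170, 1), (171, 1), (175, 1), (176, 1), (177, 1), (178, 1), (179, 1), (183, 1), (185, 1), (190, 1), (192, 1), (196, 1), (198, 1), (201, 1), (204, 1), (205, 1), (206, 1), (209, 1), (215, 1)]],
    [[(62, 1), (63, 1), (66, 1), (75, 1), (76, 1), (77, 1), (80, 1), (86, 1), (96, 1), (99, 1), (100, 1), (121, 1), (127, 1), (136, 1), (137, 1), (138, 1), (139, 1), (144, 1), (146, 1), (148, 1), (174, 1), (196, 1), (199, 1), (201, 1), (206, 1), (210, 1)], [(39, 1), (40, 1), (43, 1), (44, 1), (45, 1), (46, 1), (47, 1), (48, 1), (54, 1), (57, 1), (59, 1), (60, 1), (62, 1), (64, 1), (65, 1), (66, 1), (67, 1), (69, 1), (71, 1), (72, 1), (73, 1), (74, 1), (79, 1), (81, 1), (82, 1), (84, 1), (86, 1), (87, 1), (88, 1), (89, 1), (90, 1), (93, 1), (94, 1), (96, 1), (98, 1), (100, 1), (101, 1), (104, 1), (107, 1), (110, 1), (114, 1), (115, 1), (118, 1), (120,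 1), (121, 1), (123, 1), (124, 1), (125, 1), (128, 1), (129, 1), (130, 1), (131, 1), (132, 1), (133, 1), (134, 1), (135, 1), (136, 1), (140, 1), (141, 1), (142, 1), (148, 1), (152, 1), (153, 1), (154, 1), (155, 1), (156, 1), (157, 1), (159, 1), (160, 1), (161, 1), (165, 1), (168, 1), (169, 1), (170, 1), (171, 1), (175, 1), (176, 1), (177, 1), (179, 1), (180, 1), (185, 1), (189, 1), (193, 1), (195, 1), (197, 1), (199, 1), (200, 1), (201, 1), (204, 1), (205, 1), (206, 1), (209, 1), (210, 1), (212, 1), (215, 1), (220, 1), (221, 1), (223, 1), (224, 1), (225, 1), (228, 1), (238, 1), (239, 1), (240, 1), (241, 1), (242, 1), (243, 1), (244, 1), (245, 1)], [(46, 1), (52, 1), (53, 1), (54, 1), (58, 1), (59, 1), (76, 1), (77, 1), (85, 1), (87, 1), (89, 1), (90, 1), (91, 1), (92, 1), (93, 1), (94, 1), (95, 1), (99, 1), (104, 1), (105, 1), (107, 1), (108, 1), (112, 1), (116, 1), (119, 1), (122, 1), (123, 1), (126, 1), (131, 1), (133, 1), (134, 1), (135, 1), (141, 1), (142, 1), (144, 1), (152,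 1), (157, 1), (158, 1), (161, 1), (167, 1), (169, 1), (170, 1), (171, 1), (172, 1), (174, 1), (175, 1), (178, 1), (185, 1), (186, 1), (188, 1), (190, 1), (192, 1), (198, 1), (199, 1), (203, 1), (204, 1), (205, 1), (206, 1)], [(41, 1), (42, 1), (44, 1), (45, 1), (47, 1), (50, 1), (51, 1), (52, 1), (53, 1), (56, 1), (58, 1), (60, 1), (62, 1), (63, 1), (64, 1), (66, 1), (68, 1), (72, 1), (75, 1), (76, 1), (79, 1), (80, 1), (82, 1), (83, 1), (87, 1), (88, 1), (89, 1), (92, 1), (93, 1), (95, 1), (97, 1), (101, 1), (103, 1), (106, 1), (107, 1), (108, 1), (109, 1), (110, 1), (114, 1), (116, 1), (117, 1), (119, 1), (121, 1), (127, 1), (128, 1), (129, 1), (130, 1), (131, 1), (132, 1), (134, 1), (136, 1), (139, 1), (140, 1), (141, 1), (142, 1), (143, 1), (144, 1), (145, 1), (149, 1), (150, 1), (151, 1), (154, 1), (156, 1), (160, 1), (161, 1), (163, 1), (164, 1), (167, 1), (169, 1), (170, 1), (171, 1), (177, 1), (178, 1), (179, 1), (180, 1), (181, 1), (183, 1), (186, 1), (187, 1), (188,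 1), (189, 1), (190, 1), (195, 1), (198, 1), (199, 1), (201, 1), (203, 1), (204, 1), (207, 1), (208, 1), (209, 1), (211, 1), (213, 1), (214, 1), (215, 1), (239, 1), (243, 1), (244, 1), (245, 1)], [(41, 1), (42, 1), (44, 1), (45, 1), (46, 1), (47, 1), (50, 1), (51, 1), (52, 1), (53, 1), (56, 1), (58, 1), (62, 1), (64, 1), (66, 1), (68, 1), (72, 1), (75, 1), (76, 1), (77, 1), (79, 1), (80, 1), (82, 1), (83, 1), (84, 1), (88, 1), (89, 1), (91, 1), (92, 1), (93, 1), (94, 1), (97, 1), (100, 1), (101, 1), (103, 1), (106, 1), (107, 1), (108, 1), (109, 1), (110, 1), (111, 1), (114, 1), (116, 1), (117, 1), (119, 1), (121, 1), (129, 1), (130, 1), (131, 1), (132, 1), (133, 1), (134, 1), (139, 1), (140, 1), (142, 1), (143, 1), (145, 1), (149, 1), (150, 1), (151, 1), (154, 1), (156, 1), (159, 1), (161, 1), (163, 1), (167, 1), (169, 1), (174, 1), (175, 1), (177, 1), (178, 1), (179, 1), (181, 1), (183, 1), (186, 1), (187, 1), (188, 1), (189, 1), (191, 1), (192, 1), (198, 1), (203, 1), (204,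 1), (205, 1), (208, 1), (209, 1), (211, 1), (213, 1), (214, 1), (215, 1), (239, 1), (243, 1), (244, 1), (245, 1)], [(46, 1), (60, 1), (63, 1), (77, 1), (85, 1), (86, 1), (95, 1), (100, 1), (103, 1), (115, 1), (119, 1), (122, 1), (137, 1), (139, 1), (141, 1), (145, 1), (146, 1), (149, 1), (151, 1), (164, 1), (169, 1), (170, 1), (182, 1), (185, 1), (189, 1), (190, 1), (192, 1), (196, 1), (200, 1), (201, 1), (206, 1), (211, 1)], [(42, 1), (43, 1), (49, 1), (54, 1), (58, 1), (59, 1), (60, 1), (62, 1), (63, 1), (64, 1), (65, 1), (67, 1), (68, 1), (70, 1), (71, 1), (73, 1), (76, 1), (77, 1), (78, 1), (79, 1), (81, 1), (88, 1), (90, 1), (92, 1), (94, 1), (95, 1), (99, 1), (100, 1), (101, 1), (103, 1), (104, 1), (107, 1), (110, 1), (116, 1), (117, 1), (120, 1), (122, 1), (123, 1), (124, 1), (126, 1), (128, 1), (134, 1), (136, 1), (137, 1), (139, 1), (140, 1), (142, 1), (143, 1), (145, 1), (146, 1), (149, 1), (151, 1), (154, 1), (155, 1), (159, 1), (163, 1), (164, 1), (165, 1), (166,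 1), (167, 1), (170, 1), (174, 1), (182, 1), (184, 1), (185, 1), (187, 1), (188, 1), (189, 1), (190, 1), (195, 1), (196, 1), (205, 1), (207, 1), (209, 1), (210, 1), (212, 1), (213, 1), (220, 1), (221, 1), (223, 1), (224, 1), (225, 1), (238, 1), (240, 1), (241, 1), (242, 1)], [(42, 1), (43, 1), (46, 1), (49, 1), (52, 1), (53, 1), (60, 1), (63, 1), (64, 1), (65, 1), (67, 1), (68, 1), (70, 1), (71, 1), (73, 1), (75, 1), (76, 1), (78, 1), (80, 1), (81, 1), (86, 1), (88, 1), (90, 1), (93, 1), (95, 1), (101, 1), (103, 1), (105, 1), (108, 1), (110, 1), (112, 1), (117, 1), (120, 1), (122, 1), (123, 1), (124, 1), (125, 1), (132, 1), (133, 1), (135, 1), (136, 1), (137, 1), (139, 1), (140, 1), (141, 1), (142, 1), (143, 1), (144, 1), (145, 1), (157, 1), (158, 1), (160, 1), (161, 1), (163, 1), (165, 1), (166, 1), (169, 1), (171, 1), (172, 1), (174, 1), (175, 1), (177, 1), (178, 1), (179, 1), (184, 1), (186, 1), (187, 1), (188, 1), (189, 1), (190, 1), (195, 1), (196, 1), (198, 1), (200, 1),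 (203, 1), (204, 1), (205, 1), (207, 1), (209, 1), (210, 1), (212, 1), (213, 1), (220, 1), (221, 1), (223, 1), (224, 1), (225, 1), (238, 1), (240, 1), (241, 1), (242, 1)], [(42, 1), (43, 1), (46, 1), (49, 1), (54, 1), (58, 1), (59, 1), (62, 1), (64, 1), (65, 1), (67, 1), (68, 1), (70, 1), (71, 1), (73, 1), (76, 1), (78, 1), (79, 1), (81, 1), (85, 1), (88, 1), (90, 1), (92, 1), (94, 1), (95, 1), (96, 1), (99, 1), (101, 1), (103, 1), (104, 1), (107, 1), (110, 1), (116, 1), (117, 1), (120, 1), (123, 1), (124, 1), (126, 1), (127, 1), (128, 1), (134, 1), (135, 1), (140, 1), (141, 1), (142, 1), (143, 1), (145, 1), (151, 1), (154, 1), (155, 1), (159, 1), (163, 1), (165, 1), (166, 1), (167, 1), (182, 1), (184, 1), (187, 1), (188, 1), (189, 1), (190, 1), (192, 1), (195, 1), (199, 1), (200, 1), (205, 1), (206, 1), (207, 1), (209, 1), (210, 1), (212, 1), (213, 1), (220, 1), (221, 1), (223, 1), (224, 1), (225, 1), (238, 1), (240, 1), (241, 1), (242, 1)], [(62, 1), (77, 1), (84, 1), (85, 1),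 (86, 1), (91, 1), (96, 1), (99, 1), (111, 1), (127, 1), (132, 1), (136, 1), (139, 1), (148, 1), (149, 1), (151, 1), (160, 1), (164, 1), (171, 1), (175, 1), (179, 1), (182, 1), (190, 1), (195, 1), (201, 1), (206, 1), (207, 1)], [(46, 1), (60, 1), (75, 1), (77, 1), (94, 1), (99, 1), (122, 1), (127, 1), (135, 1), (141, 1), (145, 1), (148, 1), (149, 1), (151, 1), (170, 1), (174, 1), (175, 1), (182, 1), (185, 1), (196, 1), (199, 1), (200, 1), (205, 1), (206, 1), (207, 1)], [(63, 1), (87, 1), (100, 1), (111, 1), (136, 1), (137, 1), (145, 1), (161, 1), (171, 1), (175, 1), (191, 1), (192, 1), (201, 1), (205, 1), (207, 1)], [(76, 1), (86, 1), (87, 1), (91, 1), (96, 1), (100, 1), (119, 1), (128, 1), (132, 1), (136, 1), (149, 1), (152, 1), (159, 1), (160, 1), (164, 1), (179, 1), (190, 1), (195, 1), (196, 1), (199, 1), (200, 1), (205, 1), (206, 1), (207, 1)], [(62, 1), (63, 1), (77, 1), (85, 1), (94, 1), (95, 1), (96, 1), (99, 1), (100, 1), (119, 1), (136, 1), (137, 1), (139, 1), (144, 1),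 (145, 1), (146, 1), (148, 1), (151, 1), (174, 1), (182, 1), (190, 1), (195, 1), (206, 1)], [(42, 1), (52, 1), (53, 1), (54, 1), (58, 1), (59, 1), (60, 1), (75, 1), (76, 1), (85, 1), (89, 1), (90, 1), (91, 1), (92, 1), (93, 1), (95, 1), (98, 1), (102, 1), (104, 1), (105, 1), (107, 1), (108, 1), (112, 1), (116, 1), (119, 1), (123, 1), (126, 1), (127, 1), (131, 1), (133, 1), (134, 1), (142, 1), (144, 1), (145, 1), (146, 1), (148, 1), (149, 1), (151, 1), (152, 1), (155, 1), (157, 1), (158, 1), (167, 1), (169, 1), (171, 1), (172, 1), (178, 1), (182, 1), (186, 1), (188, 1), (190, 1), (192, 1), (196, 1), (198, 1), (200, 1), (203, 1), (204, 1), (207, 1)], [(38, 1), (46, 1), (49, 1), (50, 1), (52, 1), (53, 1), (55, 1), (58, 1), (59, 1), (60, 1), (61, 1), (62, 1), (63, 1), (64, 1), (66, 1), (69, 1), (76, 1), (79, 1), (82, 1), (83, 1), (86, 1), (87, 1), (94, 1), (95, 1), (96, 1), (100, 1), (103, 1), (107, 1), (108, 1), (109, 1), (111, 1), (112, 1), (113, 1), (118, 1), (119, 1), (121, 1),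 (122, 1), (123, 1), (125, 1), (126, 1), (127, 1), (128, 1), (131, 1), (135, 1), (137, 1), (138, 1), (139, 1), (140, 1), (142, 1), (144, 1), (146, 1), (150, 1), (151, 1), (154, 1), (155, 1), (156, 1), (159, 1), (160, 1), (163, 1), (166, 1), (167, 1), (169, 1), (170, 1), (171, 1), (175, 1), (176, 1), (177, 1), (178, 1), (181, 1), (182, 1), (183, 1), (185, 1), (188, 1), (190, 1), (191, 1), (192, 1), (194, 1), (195, 1), (196, 1), (200, 1), (201, 1), (202, 1), (203, 1), (204, 1), (206, 1), (207, 1), (209, 1), (211, 1)], [(46, 1), (60, 1), (63, 1), (75, 1), (77, 1), (94, 1), (99, 1), (100, 1), (111, 1), (122, 1), (127, 1), (135, 1), (136, 1), (137, 1), (141, 1), (146, 1), (148, 1), (149, 1), (151, 1), (170, 1), (171, 1), (174, 1), (182, 1), (185, 1), (191, 1), (192, 1), (196, 1), (199, 1), (200, 1), (201, 1), (206, 1)]],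
    [[(37, 1), (38, 1), (42, 1), (44, 1), (45, 1), (49, 1), (51, 1), (54, 1), (55, 1), (56, 1), (59, 1), (64, 1), (66, 1), (69, 1), (70, 1), (72, 1), (75, 1), (76, 1), (77, 1), (78, 1), (80, 1), (81, 1), (82, 1), (84, 1), (88, 1), (89, 1), (90, 1), (91, 1), (92, 1), (93, 1), (95, 1), (98, 1), (99, 1), (100, 1), (101, 1), (102, 1), (103, 1), (104, 1), (106, 1), (112, 1), (113, 1), (114, 1), (116, 1), (118, 1), (120, 1), (121, 1), (123, 1), (128, 1), (129, 1), (131, 1), (133, 1), (138, 1), (139, 1), (140, 1), (141, 1), (142, 1), (146, 1), (147, 1), (149, 1), (152, 1), (153, 1), (154, 1), (155, 1), (156, 1), (158, 1), (161, 1), (163, 1), (164, 1), (166, 1), (167, 1), (171, 1), (172, 1), (173, 1), (174, 1), (176, 1), (179, 1), (182, 1), (183, 1), (184, 1), (186, 1), (188, 1), (189, 1), (190, 1), (193, 1), (194, 1), (196, 1), (197, 1), (201, 1), (204, 1), (205, 1), (206, 1), (207, 1), (213, 1), (215, 1), (221, 1), (222, 1), (223, 1), (225, 1), (226, 1), (227, 1)], [(46, 1), (60, 1),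 (99, 1), (111, 1), (112, 1), (115, 1), (117, 1), (136, 1), (139, 1), (167, 1), (170, 1), (171, 1), (172, 1), (191, 1)], [(103, 1), (116, 1), (140, 1)], [(45, 1), (46, 1), (49, 1), (53, 1), (54, 1), (59, 1), (61, 1), (64, 1), (69, 1), (75, 1), (76, 1), (80, 1), (82, 1), (83, 1), (84, 1), (85, 1), (86, 1), (88, 1), (89, 1), (92, 1), (95, 1), (99, 1), (100, 1), (101, 1), (104, 1), (108, 1), (109, 1), (110, 1), (112, 1), (114, 1), (115, 1), (117, 1), (118, 1), (119, 1), (123, 1), (126, 1), (127, 1), (131, 1), (132, 1), (134, 1), (135, 1), (137, 1), (138, 1), (139, 1), (142, 1), (149, 1), (150, 1), (152, 1), (155, 1), (157, 1), (158, 1), (160, 1), (161, 1), (164, 1), (166, 1), (167, 1), (168, 1), (169, 1), (171, 1), (172, 1), (176, 1), (178, 1), (179, 1), (180, 1), (181, 1), (186, 1), (188, 1), (189, 1), (192, 1), (194, 1), (195, 1), (196, 1), (197, 1), (199, 1), (201, 1), (203, 1), (205, 1), (207, 1), (211, 1), (213, 1), (215, 1), (223, 1)], [(46, 1), (60, 1), (109, 1), (111, 1),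 (112, 1), (117, 1), (118, 1), (136, 1), (142, 1), (167, 1), (170, 1), (171, 1), (172, 1), (191, 1)], [(99, 1), (103, 1), (111, 1), (112, 1), (115, 1), (116, 1), (136, 1), (140, 1), (143, 1), (164, 1), (166, 1), (169, 1), (171, 1), (191, 1), (194, 1)], [(38, 1), (39, 1), (40, 1), (42, 1), (44, 1), (45, 1), (47, 1), (48, 1), (50, 1), (52, 1), (53, 1), (55, 1), (57, 1), (59, 1), (60, 1), (61, 1), (62, 1), (63, 1), (64, 1), (66, 1), (69, 1), (71, 1), (72, 1), (75, 1), (76, 1), (77, 1), (80, 1), (81, 1), (83, 1), (85, 1), (86, 1), (88, 1), (89, 1), (92, 1), (93, 1), (95, 1), (98, 1), (103, 1), (107, 1), (108, 1), (112, 1), (113, 1), (114, 1), (115, 1), (116, 1), (117, 1), (119, 1), (121, 1), (124, 1), (128, 1), (130, 1), (134, 1), (135, 1), (136, 1), (137, 1), (141, 1), (142, 1), (145, 1), (146, 1), (148, 1), (152, 1), (153, 1), (154, 1), (155, 1), (157, 1), (159, 1), (160, 1), (161, 1), (164, 1), (168, 1), (170, 1), (171, 1), (174, 1), (177, 1), (178, 1), (179, 1), (180, 1), (181,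 1), (182, 1), (183, 1), (186, 1), (187, 1), (190, 1), (194, 1), (195, 1), (196, 1), (198, 1), (200, 1), (201, 1), (202, 1), (203, 1), (206, 1), (207, 1), (209, 1), (210, 1), (211, 1), (212, 1), (213, 1), (215, 1), (228, 1), (239, 1), (243, 1), (244, 1), (245, 1)], [(38, 1), (41, 1), (43, 1), (44, 1), (45, 1), (47, 1), (51, 1), (54, 1), (55, 1), (56, 1), (58, 1), (61, 1), (62, 1), (63, 1), (64, 1), (65, 1), (66, 1), (67, 1), (68, 1), (72, 1), (73, 1), (74, 1), (75, 1), (76, 1), (84, 1), (85, 1), (88, 1), (89, 1), (90, 1), (91, 1), (93, 1), (94, 1), (96, 1), (97, 1), (99, 1), (100, 1), (104, 1), (106, 1), (107, 1), (109, 1), (113, 1), (114, 1), (115, 1), (117, 1), (118, 1), (120, 1), (121, 1), (126, 1), (128, 1), (133, 1), (134, 1), (137, 1), (139, 1), (141, 1), (146, 1), (150, 1), (151, 1), (152, 1), (154, 1), (160, 1), (161, 1), (163, 1), (164, 1), (165, 1), (169, 1), (171, 1), (172, 1), (174, 1), (175, 1), (176, 1), (179, 1), (180, 1), (182, 1), (185, 1), (186, 1), (189, 1),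 (191, 1), (192, 1), (193, 1), (197, 1), (200, 1), (202, 1), (205, 1), (206, 1), (208, 1), (209, 1), (214, 1), (215, 1), (220, 1), (221, 1), (223, 1), (224, 1), (225, 1), (238, 1), (239, 1), (240, 1), (241, 1), (242, 1), (243, 1), (244, 1), (245, 1)], [(100, 1), (115, 1), (137, 1), (139, 1), (143, 1), (145, 1), (146, 1), (148, 1), (150, 1), (169, 1), (191, 1), (198, 1), (201, 1)], [(46, 1), (60, 1), (100, 1), (111, 1), (112, 1), (115, 1), (117, 1), (137, 1), (139, 1), (146, 1), (148, 1), (167, 1), (169, 1), (170, 1), (171, 1), (172, 1), (198, 1), (201, 1)], [(43, 1), (45, 1), (46, 1), (48, 1), (49, 1), (50, 1), (51, 1), (55, 1), (56, 1), (57, 1), (60, 1), (62, 1), (64, 1), (66, 1), (69, 1), (79, 1), (80, 1), (82, 1), (83, 1), (84, 1), (86, 1), (87, 1), (88, 1), (90, 1), (92, 1), (98, 1), (100, 1), (101, 1), (106, 1), (111, 1), (113, 1), (114, 1), (116, 1), (117, 1), (118, 1), (121, 1), (125, 1), (126, 1), (131, 1), (132, 1), (133, 1), (134, 1), (135, 1), (137, 1), (140, 1), (141,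 1), (144, 1), (145, 1), (146, 1), (149, 1), (150, 1), (151, 1), (152, 1), (153, 1), (154, 1), (155, 1), (156, 1), (158, 1), (161, 1), (163, 1), (164, 1), (166, 1), (167, 1), (170, 1), (172, 1), (173, 1), (174, 1), (176, 1), (177, 1), (178, 1), (179, 1), (181, 1), (182, 1), (183, 1), (186, 1), (189, 1), (190, 1), (192, 1), (194, 1), (195, 1), (196, 1), (197, 1), (199, 1), (201, 1), (207, 1), (208, 1), (209, 1), (211, 1), (223, 1)], [(46, 1), (60, 1), (99, 1), (112, 1), (113, 1), (115, 1), (116, 1), (117, 1), (136, 1), (145, 1), (146, 1), (164, 1), (166, 1), (167, 1), (169, 1), (170, 1), (172, 1), (191, 1), (201, 1)], [(103, 1), (116, 1), (136, 1), (145, 1), (164, 1), (166, 1), (167, 1), (191, 1), (192, 1), (201, 1)], [(38, 1), (49, 1), (50, 1), (54, 1), (55, 1), (60, 1), (61, 1), (62, 1), (64, 1), (68, 1), (70, 1), (71, 1), (74, 1), (75, 1), (76, 1), (77, 1), (78, 1), (79, 1), (81, 1), (82, 1), (83, 1), (84, 1), (85, 1), (86, 1), (88, 1), (92, 1), (93, 1), (95, 1), (96, 1), (100,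 1), (104, 1), (105, 1), (112, 1), (113, 1), (115, 1), (116, 1), (117, 1), (118, 1), (119, 1), (123, 1), (124, 1), (125, 1), (126, 1), (127, 1), (128, 1), (129, 1), (130, 1), (131, 1), (134, 1), (135, 1), (137, 1), (140, 1), (143, 1), (149, 1), (150, 1), (151, 1), (156, 1), (157, 1), (158, 1), (159, 1), (161, 1), (163, 1), (166, 1), (167, 1), (169, 1), (171, 1), (174, 1), (175, 1), (176, 1), (179, 1), (182, 1), (183, 1), (184, 1), (186, 1), (191, 1), (193, 1), (194, 1), (197, 1), (198, 1), (201, 1), (202, 1), (205, 1), (206, 1), (207, 1), (209, 1), (210, 1), (212, 1)], [(42, 1), (43, 1), (45, 1), (48, 1), (50, 1), (51, 1), (53, 1), (55, 1), (56, 1), (57, 1), (59, 1), (61, 1), (63, 1), (66, 1), (77, 1), (85, 1), (86, 1), (87, 1), (89, 1), (90, 1), (91, 1), (94, 1), (95, 1), (99, 1), (101, 1), (102, 1), (103, 1), (105, 1), (106, 1), (108, 1), (109, 1), (110, 1), (112, 1), (113, 1), (116, 1), (119, 1), (120, 1), (121, 1), (123, 1), (126, 1), (128, 1), (133, 1), (134, 1), (136, 1),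 (143, 1), (145, 1), (146, 1), (147, 1), (148, 1), (149, 1), (151, 1), (153, 1), (154, 1), (156, 1), (157, 1), (160, 1), (161, 1), (163, 1), (168, 1), (170, 1), (173, 1), (175, 1), (178, 1), (180, 1), (181, 1), (182, 1), (185, 1), (186, 1), (190, 1), (191, 1), (192, 1), (194, 1), (195, 1), (196, 1), (199, 1), (201, 1), (204, 1), (205, 1), (206, 1), (208, 1), (209, 1), (211, 1), (213, 1), (215, 1)], [(38, 1), (49, 1), (50, 1), (53, 1), (59, 1), (61, 1), (62, 1), (66, 1), (75, 1), (76, 1), (77, 1), (80, 1), (84, 1), (85, 1), (88, 1), (90, 1), (91, 1), (93, 1), (94, 1), (95, 1), (100, 1), (108, 1), (109, 1), (110, 1), (111, 1), (114, 1), (115, 1), (116, 1), (118, 1), (119, 1), (121, 1), (127, 1), (131, 1), (132, 1), (136, 1), (137, 1), (138, 1), (141, 1), (144, 1), (145, 1), (146, 1), (147, 1), (150, 1), (151, 1), (156, 1), (163, 1), (164, 1), (167, 1), (168, 1), (169, 1), (170, 1), (179, 1), (182, 1), (185, 1), (189, 1), (191, 1), (195, 1), (197, 1), (198, 1), (199, 1), (201, 1),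 (202, 1), (204, 1), (205, 1), (206, 1), (209, 1), (211, 1), (213, 1), (215, 1)], [(46, 1), (60, 1), (62, 1), (77, 1), (79, 1), (80, 1), (89, 1), (90, 1), (99, 1), (103, 1), (111, 1), (112, 1), (117, 1), (122, 1), (125, 1), (126, 1), (134, 1), (135, 1), (142, 1), (143, 1), (144, 1), (146, 1), (152, 1), (154, 1), (155, 1), (160, 1), (167, 1), (170, 1), (171, 1), (172, 1), (177, 1), (178, 1), (181, 1), (182, 1), (186, 1), (188, 1), (194, 1), (196, 1), (200, 1), (206, 1), (211, 1)], [(46, 1), (60, 1), (99, 1), (100, 1), (103, 1), (112, 1), (116, 1), (117, 1), (136, 1), (137, 1), (139, 1), (140, 1), (143, 1), (145, 1), (146, 1), (148, 1), (150, 1), (164, 1), (166, 1), (167, 1), (170, 1), (172, 1), (191, 1), (194, 1), (198, 1), (201, 1)]],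
    [[(42, 1), (46, 1), (52, 1), (53, 1), (54, 1), (58, 1), (59, 1), (62, 1), (79, 1), (80, 1), (85, 1), (90, 1), (92, 1), (93, 1), (95, 1), (96, 1), (98, 1), (99, 1), (100, 1), (102, 1), (103, 1), (104, 1), (105, 1), (107, 1), (108, 1), (112, 1), (116, 1), (122, 1), (125, 1), (126, 1), (131, 1), (132, 1), (133, 1), (134, 1), (135, 1), (137, 1), (139, 1), (141, 1), (146, 1), (147, 1), (149, 1), (151, 1), (154, 1), (157, 1), (158, 1), (164, 1), (167, 1), (169, 1), (170, 1), (171, 1), (172, 1), (175, 1), (177, 1), (178, 1), (179, 1), (185, 1), (186, 1), (191, 1), (195, 1), (198, 1), (199, 1), (201, 1), (203, 1), (204, 1), (209, 1), (210, 1)], [(111, 1), (136, 1), (139, 1), (164, 1), (171, 1), (191, 1)], [(140, 1)], [(41, 1), (42, 1), (44, 1), (45, 1), (46, 1), (47, 1), (50, 1), (51, 1), (52, 1), (53, 1), (56, 1), (58, 1), (62, 1), (63, 1), (64, 1), (66, 1), (68, 1), (72, 1), (75, 1), (76, 1), (79, 1), (80, 1), (82, 1), (83, 1), (87, 1), (88, 1), (89, 1), (91, 1), (92, 1), (93,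 1), (95, 1), (97, 1), (100, 1), (101, 1), (103, 1), (106, 1), (107, 1), (108, 1), (109, 1), (110, 1), (111, 1), (114, 1), (116, 1), (117, 1), (119, 1), (121, 1), (127, 1), (128, 1), (129, 1), (130, 1), (131, 1), (132, 1), (134, 1), (136, 1), (137, 1), (139, 1), (140, 1), (141, 1), (142, 1), (143, 1), (144, 1), (145, 1), (146, 1), (149, 1), (150, 1), (151, 1), (154, 1), (156, 1), (160, 1), (161, 1), (163, 1), (167, 1), (169, 1), (177, 1), (178, 1), (179, 1), (180, 1), (181, 1), (183, 1), (186, 1), (187, 1), (188, 1), (189, 1), (190, 1), (195, 1), (198, 1), (199, 1), (201, 1), (203, 1), (204, 1), (207, 1), (208, 1), (209, 1), (211, 1), (213, 1), (214, 1), (215, 1), (239, 1), (243, 1), (244, 1), (245, 1)], [(111, 1), (136, 1), (142, 1), (164, 1), (171, 1), (191, 1)], [(46, 1), (60, 1), (99, 1), (111, 1), (112, 1), (115, 1), (117, 1), (136, 1), (140, 1), (143, 1), (167, 1), (169, 1), (170, 1), (171, 1), (172, 1), (191, 1), (194, 1)], [(42, 1), (43, 1), (46, 1), (49, 1), (54, 1),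 (58, 1), (59, 1), (63, 1), (64, 1), (65, 1), (67, 1), (68, 1), (70, 1), (71, 1), (73, 1), (75, 1), (78, 1), (79, 1), (81, 1), (86, 1), (88, 1), (90, 1), (91, 1), (92, 1), (94, 1), (95, 1), (99, 1), (101, 1), (103, 1), (104, 1), (107, 1), (110, 1), (111, 1), (116, 1), (117, 1), (119, 1), (120, 1), (123, 1), (124, 1), (126, 1), (127, 1), (128, 1), (132, 1), (134, 1), (140, 1), (141, 1), (142, 1), (143, 1), (144, 1), (149, 1), (151, 1), (152, 1), (154, 1), (155, 1), (159, 1), (160, 1), (163, 1), (164, 1), (165, 1), (166, 1), (167, 1), (171, 1), (175, 1), (179, 1), (182, 1), (184, 1), (187, 1), (188, 1), (189, 1), (191, 1), (192, 1), (195, 1), (196, 1), (201, 1), (205, 1), (206, 1), (209, 1), (210, 1), (212, 1), (213, 1), (220, 1), (221, 1), (223, 1), (224, 1), (225, 1), (238, 1), (240, 1), (241, 1), (242, 1)], [(42, 1), (43, 1), (49, 1), (54, 1), (58, 1), (59, 1), (60, 1), (62, 1), (64, 1), (65, 1), (67, 1), (68, 1), (70, 1), (71, 1), (73, 1), (75, 1), (77, 1), (78, 1), (79, 1),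 (81, 1), (84, 1), (87, 1), (88, 1), (90, 1), (91, 1), (92, 1), (94, 1), (99, 1), (100, 1), (101, 1), (103, 1), (104, 1), (107, 1), (110, 1), (111, 1), (116, 1), (117, 1), (119, 1), (120, 1), (122, 1), (123, 1), (124, 1), (126, 1), (132, 1), (134, 1), (139, 1), (140, 1), (142, 1), (143, 1), (152, 1), (154, 1), (155, 1), (163, 1), (164, 1), (165, 1), (166, 1), (167, 1), (170, 1), (171, 1), (179, 1), (182, 1), (184, 1), (185, 1), (187, 1), (188, 1), (189, 1), (190, 1), (191, 1), (192, 1), (195, 1), (200, 1), (201, 1), (206, 1), (207, 1), (209, 1), (210, 1), (212, 1), (213, 1), (220, 1), (221, 1), (223, 1), (224, 1), (225, 1), (238, 1), (240, 1), (241, 1), (242, 1)], [(100, 1), (137, 1), (145, 1), (146, 1), (191, 1), (201, 1)], [(99, 1), (100, 1), (111, 1), (137, 1), (139, 1), (146, 1), (148, 1), (164, 1), (171, 1), (201, 1)], [(52, 1), (53, 1), (54, 1), (58, 1), (59, 1), (60, 1), (75, 1), (77, 1), (79, 1), (80, 1), (92, 1), (93, 1), (95, 1), (96, 1), (104, 1), (105, 1), (107, 1),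 (108, 1), (112, 1), (116, 1), (122, 1), (125, 1), (126, 1), (132, 1), (133, 1), (134, 1), (145, 1), (146, 1), (148, 1), (151, 1), (154, 1), (155, 1), (157, 1), (158, 1), (160, 1), (161, 1), (167, 1), (169, 1), (171, 1), (172, 1), (175, 1), (177, 1), (178, 1), (179, 1), (186, 1), (191, 1), (192, 1), (195, 1), (196, 1), (198, 1), (203, 1), (204, 1), (206, 1)], [(100, 1), (136, 1), (145, 1), (146, 1), (191, 1), (201, 1)], [(136, 1), (145, 1), (164, 1), (191, 1), (192, 1), (201, 1)], [(46, 1), (60, 1), (63, 1), (84, 1), (85, 1), (86, 1), (87, 1), (91, 1), (94, 1), (96, 1), (122, 1), (127, 1), (128, 1), (132, 1), (136, 1), (137, 1), (139, 1), (141, 1), (145, 1), (146, 1), (152, 1), (159, 1), (170, 1), (174, 1), (179, 1), (182, 1), (185, 1), (190, 1), (195, 1), (196, 1), (200, 1), (201, 1), (205, 1), (206, 1)], [(42, 1), (45, 1), (62, 1), (63, 1), (76, 1), (80, 1), (89, 1), (90, 1), (91, 1), (94, 1), (95, 1), (98, 1), (100, 1), (101, 1), (102, 1), (103, 1), (111, 1), (127, 1), (132,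 1), (136, 1), (137, 1), (138, 1), (140, 1), (145, 1), (147, 1), (148, 1), (149, 1), (160, 1), (164, 1), (171, 1), (174, 1), (175, 1), (179, 1), (191, 1), (195, 1), (196, 1), (199, 1), (200, 1), (207, 1)], [(38, 1), (42, 1), (46, 1), (49, 1), (50, 1), (54, 1), (55, 1), (61, 1), (62, 1), (64, 1), (69, 1), (77, 1), (79, 1), (80, 1), (82, 1), (83, 1), (84, 1), (85, 1), (86, 1), (87, 1), (88, 1), (89, 1), (91, 1), (92, 1), (95, 1), (98, 1), (99, 1), (100, 1), (102, 1), (103, 1), (104, 1), (105, 1), (109, 1), (112, 1), (113, 1), (115, 1), (116, 1), (117, 1), (118, 1), (122, 1), (123, 1), (125, 1), (126, 1), (128, 1), (133, 1), (136, 1), (137, 1), (139, 1), (140, 1), (141, 1), (143, 1), (144, 1), (147, 1), (148, 1), (151, 1), (152, 1), (154, 1), (156, 1), (157, 1), (158, 1), (159, 1), (160, 1), (163, 1), (164, 1), (166, 1), (167, 1), (169, 1), (170, 1), (171, 1), (175, 1), (176, 1), (177, 1), (178, 1), (182, 1), (183, 1), (189, 1), (190, 1), (191, 1), (192, 1), (195, 1), (196, 1), (197,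 1), (199, 1), (202, 1), (211, 1)], [(52, 1), (53, 1), (54, 1), (58, 1), (59, 1), (60, 1), (63, 1), (75, 1), (76, 1), (77, 1), (79, 1), (80, 1), (86, 1), (91, 1), (92, 1), (93, 1), (95, 1), (100, 1), (104, 1), (105, 1), (107, 1), (108, 1), (111, 1), (112, 1), (116, 1), (119, 1), (122, 1), (125, 1), (126, 1), (128, 1), (133, 1), (134, 1), (146, 1), (148, 1), (149, 1), (151, 1), (152, 1), (154, 1), (155, 1), (157, 1), (158, 1), (159, 1), (161, 1), (164, 1), (167, 1), (169, 1), (172, 1), (177, 1), (178, 1), (186, 1), (190, 1), (192, 1), (198, 1), (199, 1), (200, 1), (201, 1), (203, 1), (204, 1), (207, 1)], [(46, 1), (60, 1), (99, 1), (112, 1), (117, 1), (139, 1), (140, 1), (143, 1), (148, 1), (150, 1), (164, 1), (167, 1), (170, 1), (172, 1), (194, 1), (198, 1)], [(100, 1), (136, 1), (137, 1), (145, 1), (146, 1), (191, 1), (201, 1)]],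
    [[(42, 1), (52, 1), (53, 1), (54, 1), (58, 1), (59, 1), (60, 1), (62, 1), (77, 1), (79, 1), (80, 1), (84, 1), (85, 1), (87, 1), (90, 1), (91, 1), (92, 1), (93, 1), (94, 1), (98, 1), (102, 1), (103, 1), (104, 1), (105, 1), (107, 1), (108, 1), (112, 1), (116, 1), (119, 1), (123, 1), (125, 1), (126, 1), (127, 1), (128, 1), (131, 1), (133, 1), (134, 1), (135, 1), (136, 1), (137, 1), (139, 1), (140, 1), (146, 1), (147, 1), (148, 1), (149, 1), (154, 1), (157, 1), (158, 1), (159, 1), (164, 1), (167, 1), (169, 1), (171, 1), (172, 1), (174, 1), (175, 1), (177, 1), (178, 1), (186, 1), (191, 1), (196, 1), (198, 1), (201, 1), (203, 1), (204, 1), (205, 1), (209, 1)], [(46, 1), (52, 1), (53, 1), (54, 1), (58, 1), (59, 1), (63, 1), (76, 1), (79, 1), (80, 1), (92, 1), (93, 1), (94, 1), (95, 1), (96, 1), (104, 1), (105, 1), (107, 1), (108, 1), (111, 1), (112, 1), (116, 1), (122, 1), (126, 1), (127, 1), (128, 1), (130, 1), (132, 1), (133, 1), (134, 1), (135, 1), (137, 1), (139, 1), (141, 1),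 (142, 1), (144, 1), (148, 1), (149, 1), (151, 1), (154, 1), (155, 1), (157, 1), (158, 1), (159, 1), (160, 1), (161, 1), (167, 1), (169, 1), (170, 1), (172, 1), (174, 1), (175, 1), (178, 1), (179, 1), (182, 1), (185, 1), (186, 1), (188, 1), (191, 1), (196, 1), (198, 1), (200, 1), (203, 1), (204, 1), (206, 1)], [(46, 1), (52, 1), (53, 1), (54, 1), (58, 1), (59, 1), (76, 1), (77, 1), (85, 1), (87, 1), (89, 1), (90, 1), (91, 1), (92, 1), (93, 1), (94, 1), (95, 1), (99, 1), (104, 1), (105, 1), (107, 1), (108, 1), (112, 1), (116, 1), (119, 1), (122, 1), (126, 1), (131, 1), (133, 1), (134, 1), (135, 1), (141, 1), (142, 1), (144, 1), (152, 1), (157, 1), (158, 1), (161, 1), (167, 1), (169, 1), (170, 1), (171, 1), (172, 1), (174, 1), (175, 1), (178, 1), (185, 1), (186, 1), (188, 1), (190, 1), (192, 1), (198, 1), (199, 1), (203, 1), (204, 1), (205, 1), (206, 1)], [(46, 1), (60, 1), (91, 1), (170, 1), (187, 1)], [(46, 1), (52, 1), (53, 1), (54, 1), (58, 1), (59, 1), (75, 1), (79, 1), (80,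 1), (84, 1), (85, 1), (91, 1), (92, 1), (93, 1), (95, 1), (104, 1), (105, 1), (107, 1), (108, 1), (111, 1), (112, 1), (116, 1), (122, 1), (125, 1), (126, 1), (127, 1), (128, 1), (134, 1), (135, 1), (136, 1), (137, 1), (141, 1), (142, 1), (145, 1), (148, 1), (151, 1), (152, 1), (154, 1), (155, 1), (157, 1), (158, 1), (159, 1), (161, 1), (167, 1), (169, 1), (170, 1), (172, 1), (177, 1), (178, 1), (180, 1), (186, 1), (188, 1), (190, 1), (191, 1), (195, 1), (196, 1), (198, 1), (199, 1), (203, 1), (204, 1), (206, 1), (207, 1)], [(46, 1), (60, 1), (62, 1), (75, 1), (76, 1), (77, 1), (84, 1), (85, 1), (87, 1), (91, 1), (96, 1), (100, 1), (103, 1), (111, 1), (112, 1), (117, 1), (128, 1), (132, 1), (139, 1), (140, 1), (143, 1), (144, 1), (148, 1), (149, 1), (151, 1), (159, 1), (164, 1), (167, 1), (170, 1), (171, 1), (172, 1), (179, 1), (182, 1), (190, 1), (191, 1), (192, 1), (194, 1), (195, 1), (196, 1), (205, 1), (211, 1)], [(42, 1), (43, 1), (49, 1), (52, 1), (53, 1), (62, 1), (63,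 1), (64, 1), (65, 1), (67, 1), (68, 1), (70, 1), (71, 1), (73, 1), (78, 1), (80, 1), (81, 1), (84, 1), (86, 1), (87, 1), (88, 1), (90, 1), (93, 1), (94, 1), (95, 1), (96, 1), (99, 1), (101, 1), (103, 1), (105, 1), (108, 1), (110, 1), (111, 1), (112, 1), (117, 1), (119, 1), (120, 1), (123, 1), (124, 1), (125, 1), (128, 1), (132, 1), (133, 1), (135, 1), (136, 1), (139, 1), (140, 1), (142, 1), (143, 1), (145, 1), (146, 1), (148, 1), (149, 1), (152, 1), (157, 1), (158, 1), (159, 1), (161, 1), (163, 1), (164, 1), (165, 1), (166, 1), (169, 1), (170, 1), (172, 1), (174, 1), (177, 1), (178, 1), (179, 1), (184, 1), (185, 1), (186, 1), (187, 1), (188, 1), (189, 1), (191, 1), (196, 1), (198, 1), (199, 1), (203, 1), (204, 1), (206, 1), (209, 1), (210, 1), (212, 1), (213, 1), (220, 1), (221, 1), (223, 1), (224, 1), (225, 1), (238, 1), (240, 1), (241, 1), (242, 1)], [(46, 1), (52, 1), (53, 1), (54, 1), (58, 1), (59, 1), (79, 1), (80, 1), (84, 1), (85, 1), (86, 1), (87, 1), (91, 1), (92, 1),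 (93, 1), (94, 1), (100, 1), (104, 1), (105, 1), (107, 1), (108, 1), (111, 1), (112, 1), (116, 1), (125, 1), (126, 1), (133, 1), (134, 1), (136, 1), (137, 1), (139, 1), (141, 1), (148, 1), (151, 1), (152, 1), (154, 1), (155, 1), (157, 1), (158, 1), (160, 1), (161, 1), (164, 1), (167, 1), (169, 1), (170, 1), (172, 1), (174, 1), (175, 1), (177, 1), (178, 1), (185, 1), (186, 1), (190, 1), (191, 1), (192, 1), (198, 1), (200, 1), (201, 1), (203, 1), (204, 1), (205, 1)], [(52, 1), (53, 1), (54, 1), (58, 1), (59, 1), (60, 1), (62, 1), (75, 1), (76, 1), (79, 1), (80, 1), (85, 1), (91, 1), (92, 1), (93, 1), (95, 1), (99, 1), (104, 1), (105, 1), (107, 1), (108, 1), (112, 1), (116, 1), (119, 1), (122, 1), (125, 1), (126, 1), (127, 1), (128, 1), (133, 1), (134, 1), (135, 1), (136, 1), (137, 1), (139, 1), (144, 1), (145, 1), (149, 1), (154, 1), (155, 1), (157, 1), (158, 1), (159, 1), (161, 1), (167, 1), (169, 1), (171, 1), (172, 1), (177, 1), (178, 1), (186, 1), (190, 1), (192, 1), (195, 1),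 (196, 1), (198, 1), (203, 1), (204, 1), (206, 1), (207, 1)], [(46, 1), (60, 1), (63, 1), (75, 1), (76, 1), (77, 1), (85, 1), (87, 1), (95, 1), (99, 1), (100, 1), (119, 1), (122, 1), (127, 1), (128, 1), (141, 1), (144, 1), (145, 1), (148, 1), (149, 1), (151, 1), (159, 1), (160, 1), (170, 1), (175, 1), (182, 1), (185, 1), (190, 1), (201, 1), (205, 1), (207, 1)], [(46, 1), (52, 1), (53, 1), (54, 1), (58, 1), (59, 1), (79, 1), (80, 1), (92, 1), (93, 1), (94, 1), (95, 1), (96, 1), (99, 1), (104, 1), (105, 1), (107, 1), (108, 1), (112, 1), (116, 1), (125, 1), (126, 1), (127, 1), (132, 1), (133, 1), (134, 1), (135, 1), (141, 1), (146, 1), (149, 1), (154, 1), (155, 1), (157, 1), (158, 1), (160, 1), (161, 1), (167, 1), (169, 1), (170, 1), (171, 1), (172, 1), (174, 1), (177, 1), (178, 1), (179, 1), (182, 1), (185, 1), (186, 1), (191, 1), (192, 1), (195, 1), (198, 1), (199, 1), (200, 1), (203, 1), (204, 1), (205, 1), (206, 1), (207, 1)], [(46, 1), (52, 1), (53, 1), (54, 1), (58, 1), (59,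 1), (62, 1), (63, 1), (75, 1), (76, 1), (77, 1), (79, 1), (80, 1), (87, 1), (92, 1), (93, 1), (96, 1), (104, 1), (105, 1), (107, 1), (108, 1), (112, 1), (116, 1), (119, 1), (120, 1), (125, 1), (126, 1), (127, 1), (128, 1), (132, 1), (133, 1), (134, 1), (135, 1), (137, 1), (139, 1), (141, 1), (144, 1), (146, 1), (148, 1), (149, 1), (152, 1), (154, 1), (155, 1), (157, 1), (158, 1), (159, 1), (160, 1), (167, 1), (169, 1), (170, 1), (171, 1), (172, 1), (177, 1), (178, 1), (179, 1), (182, 1), (185, 1), (186, 1), (190, 1), (191, 1), (192, 1), (195, 1), (196, 1), (198, 1), (199, 1), (200, 1), (203, 1), (204, 1), (205, 1), (207, 1)], [(46, 1), (60, 1), (62, 1), (63, 1), (85, 1), (95, 1), (100, 1), (119, 1), (122, 1), (135, 1), (136, 1), (137, 1), (139, 1), (141, 1), (145, 1), (146, 1), (149, 1), (151, 1), (152, 1), (160, 1), (170, 1), (183, 1), (185, 1), (190, 1), (191, 1), (192, 1), (196, 1), (199, 1), (200, 1), (207, 1)], [(52, 1), (53, 1), (54, 1), (58, 1), (59, 1), (60, 1), (63,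 1), (75, 1), (76, 1), (77, 1), (79, 1), (80, 1), (84, 1), (86, 1), (87, 1), (91, 1), (92, 1), (93, 1), (95, 1), (96, 1), (99, 1), (100, 1), (104, 1), (105, 1), (107, 1), (108, 1), (111, 1), (112, 1), (116, 1), (122, 1), (125, 1), (126, 1), (133, 1), (134, 1), (135, 1), (137, 1), (139, 1), (149, 1), (151, 1), (154, 1), (155, 1), (157, 1), (158, 1), (160, 1), (161, 1), (167, 1), (169, 1), (172, 1), (175, 1), (177, 1), (178, 1), (182, 1), (186, 1), (190, 1), (191, 1), (195, 1), (198, 1), (199, 1), (201, 1), (203, 1), (204, 1), (205, 1), (206, 1)], [(42, 1), (45, 1), (62, 1), (75, 1), (76, 1), (77, 1), (79, 1), (85, 1), (87, 1), (89, 1), (90, 1), (91, 1), (95, 1), (96, 1), (98, 1), (100, 1), (101, 1), (102, 1), (111, 1), (122, 1), (123, 1), (127, 1), (130, 1), (131, 1), (132, 1), (135, 1), (137, 1), (138, 1), (146, 1), (147, 1), (149, 1), (151, 1), (154, 1), (155, 1), (161, 1), (171, 1), (179, 1), (191, 1), (192, 1), (195, 1), (200, 1), (205, 1), (206, 1)], [(38, 1), (42, 1), (46,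 1), (49, 1), (50, 1), (54, 1), (55, 1), (61, 1), (64, 1), (68, 1), (71, 1), (76, 1), (78, 1), (80, 1), (81, 1), (82, 1), (83, 1), (85, 1), (86, 1), (89, 1), (91, 1), (92, 1), (98, 1), (99, 1), (100, 1), (102, 1), (103, 1), (104, 1), (105, 1), (111, 1), (113, 1), (116, 1), (118, 1), (123, 1), (124, 1), (127, 1), (129, 1), (130, 1), (132, 1), (134, 1), (135, 1), (142, 1), (143, 1), (144, 1), (146, 1), (147, 1), (148, 1), (150, 1), (151, 1), (152, 1), (154, 1), (156, 1), (157, 1), (158, 1), (160, 1), (163, 1), (166, 1), (170, 1), (172, 1), (174, 1), (176, 1), (177, 1), (178, 1), (182, 1), (183, 1), (186, 1), (188, 1), (193, 1), (194, 1), (195, 1), (196, 1), (201, 1), (202, 1), (205, 1), (206, 1), (210, 1), (211, 1), (212, 1)], [(46, 1), (52, 1), (53, 1), (54, 1), (58, 1), (59, 1), (63, 1), (75, 1), (76, 1), (79, 1), (80, 1), (84, 1), (86, 1), (87, 1), (92, 1), (93, 1), (94, 1), (96, 1), (99, 1), (104, 1), (105, 1), (107, 1), (108, 1), (111, 1), (112, 1), (116, 1), (125, 1), (126,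 1), (127, 1), (132, 1), (133, 1), (134, 1), (136, 1), (141, 1), (146, 1), (149, 1), (152, 1), (154, 1), (155, 1), (157, 1), (158, 1), (161, 1), (164, 1), (167, 1), (169, 1), (170, 1), (172, 1), (174, 1), (177, 1), (178, 1), (179, 1), (185, 1), (186, 1), (190, 1), (192, 1), (195, 1), (196, 1), (198, 1), (200, 1), (201, 1), (203, 1), (204, 1), (205, 1), (207, 1)], [(38, 1), (49, 1), (50, 1), (52, 1), (53, 1), (55, 1), (58, 1), (59, 1), (61, 1), (62, 1), (64, 1), (68, 1), (70, 1), (71, 1), (74, 1), (77, 1), (78, 1), (79, 1), (81, 1), (82, 1), (83, 1), (84, 1), (85, 1), (86, 1), (88, 1), (89, 1), (90, 1), (94, 1), (107, 1), (108, 1), (111, 1), (113, 1), (115, 1), (117, 1), (118, 1), (119, 1), (124, 1), (125, 1), (126, 1), (127, 1), (129, 1), (130, 1), (131, 1), (132, 1), (133, 1), (137, 1), (142, 1), (148, 1), (149, 1), (150, 1), (151, 1), (152, 1), (156, 1), (163, 1), (164, 1), (166, 1), (171, 1), (172, 1), (176, 1), (183, 1), (184, 1), (188, 1), (189, 1), (192, 1), (193, 1), (195,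 1), (196, 1), (197, 1), (198, 1), (202, 1), (203, 1), (204, 1), (205, 1), (207, 1), (209, 1), (210, 1), (212, 1)], [(76, 1), (85, 1), (87, 1), (100, 1), (127, 1), (128, 1), (136, 1), (144, 1), (159, 1), (160, 1), (164, 1), (175, 1), (182, 1), (191, 1), (192, 1), (196, 1), (205, 1), (206, 1), (207, 1)], [(46, 1), (60, 1), (62, 1), (75, 1), (84, 1), (86, 1), (87, 1), (111, 1), (119, 1), (122, 1), (127, 1), (128, 1), (136, 1), (137, 1), (139, 1), (141, 1), (144, 1), (145, 1), (146, 1), (149, 1), (151, 1), (159, 1), (160, 1), (164, 1), (170, 1), (171, 1), (175, 1), (185, 1), (191, 1), (196, 1), (200, 1), (201, 1), (205, 1), (206, 1), (207, 1)]],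
    [[(42, 1), (46, 1), (60, 1), (63, 1), (77, 1), (84, 1), (86, 1), (90, 1), (91, 1), (94, 1), (95, 1), (96, 1), (98, 1), (99, 1), (102, 1), (103, 1), (111, 1), (119, 1), (122, 1), (123, 1), (127, 1), (128, 1), (132, 1), (137, 1), (141, 1), (147, 1), (148, 1), (151, 1), (155, 1), (159, 1), (161, 1), (170, 1), (171, 1), (174, 1), (175, 1), (179, 1), (185, 1), (191, 1), (192, 1), (195, 1), (196, 1), (199, 1), (201, 1), (207, 1), (210, 1)], [(46, 1), (52, 1), (53, 1), (54, 1), (58, 1), (59, 1), (63, 1), (76, 1), (79, 1), (80, 1), (92, 1), (93, 1), (94, 1), (95, 1), (96, 1), (99, 1), (104, 1), (105, 1), (107, 1), (108, 1), (112, 1), (116, 1), (122, 1), (126, 1), (127, 1), (128, 1), (130, 1), (132, 1), (133, 1), (134, 1), (135, 1), (137, 1), (139, 1), (141, 1), (142, 1), (144, 1), (148, 1), (149, 1), (151, 1), (154, 1), (155, 1), (157, 1), (158, 1), (159, 1), (160, 1), (161, 1), (164, 1), (167, 1), (169, 1), (170, 1), (171, 1), (172, 1), (174, 1), (175, 1), (178, 1), (179, 1), (182,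 1), (185, 1), (186, 1), (188, 1), (191, 1), (196, 1), (198, 1), (200, 1), (203, 1), (204, 1), (206, 1)], [(46, 1), (52, 1), (53, 1), (54, 1), (58, 1), (59, 1), (76, 1), (77, 1), (85, 1), (87, 1), (89, 1), (90, 1), (91, 1), (92, 1), (93, 1), (94, 1), (95, 1), (99, 1), (103, 1), (104, 1), (105, 1), (107, 1), (108, 1), (112, 1), (116, 1), (119, 1), (122, 1), (126, 1), (131, 1), (133, 1), (134, 1), (135, 1), (141, 1), (142, 1), (144, 1), (152, 1), (157, 1), (158, 1), (161, 1), (167, 1), (169, 1), (170, 1), (171, 1), (172, 1), (174, 1), (175, 1), (178, 1), (185, 1), (186, 1), (188, 1), (190, 1), (192, 1), (198, 1), (199, 1), (203, 1), (204, 1), (205, 1), (206, 1)], [(91, 1), (187, 1)], [(46, 1), (52, 1), (53, 1), (54, 1), (58, 1), (59, 1), (75, 1), (79, 1), (80, 1), (84, 1), (85, 1), (91, 1), (92, 1), (93, 1), (95, 1), (104, 1), (105, 1), (107, 1), (108, 1), (109, 1), (112, 1), (116, 1), (122, 1), (125, 1), (126, 1), (127, 1), (128, 1), (134, 1), (135, 1), (136, 1), (137, 1), (141,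 1), (142, 1), (145, 1), (148, 1), (151, 1), (152, 1), (154, 1), (155, 1), (157, 1), (158, 1), (159, 1), (161, 1), (164, 1), (167, 1), (169, 1), (170, 1), (171, 1), (172, 1), (177, 1), (178, 1), (180, 1), (186, 1), (188, 1), (190, 1), (191, 1), (195, 1), (196, 1), (198, 1), (199, 1), (203, 1), (204, 1), (206, 1), (207, 1)], [(46, 1), (60, 1), (62, 1), (75, 1), (76, 1), (77, 1), (84, 1), (85, 1), (87, 1), (91, 1), (96, 1), (99, 1), (100, 1), (112, 1), (115, 1), (117, 1), (128, 1), (132, 1), (139, 1), (140, 1), (143, 1), (144, 1), (148, 1), (149, 1), (151, 1), (159, 1), (167, 1), (169, 1), (170, 1), (172, 1), (179, 1), (182, 1), (190, 1), (191, 1), (192, 1), (194, 1), (195, 1), (196, 1), (205, 1), (211, 1)], [(52, 1), (53, 1), (54, 1), (58, 1), (59, 1), (60, 1), (62, 1), (75, 1), (76, 1), (77, 1), (79, 1), (80, 1), (84, 1), (85, 1), (87, 1), (92, 1), (93, 1), (94, 1), (95, 1), (99, 1), (100, 1), (104, 1), (105, 1), (107, 1), (108, 1), (111, 1), (112, 1), (116, 1), (122, 1), (125,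 1), (126, 1), (127, 1), (132, 1), (133, 1), (134, 1), (136, 1), (137, 1), (139, 1), (144, 1), (154, 1), (155, 1), (157, 1), (158, 1), (161, 1), (167, 1), (169, 1), (172, 1), (177, 1), (178, 1), (179, 1), (182, 1), (186, 1), (191, 1), (198, 1), (203, 1), (204, 1), (205, 1), (206, 1), (207, 1)], [(46, 1), (60, 1), (62, 1), (63, 1), (76, 1), (85, 1), (86, 1), (87, 1), (91, 1), (96, 1), (122, 1), (128, 1), (132, 1), (135, 1), (136, 1), (137, 1), (139, 1), (141, 1), (146, 1), (151, 1), (159, 1), (170, 1), (179, 1), (182, 1), (185, 1), (195, 1), (201, 1), (205, 1), (206, 1)], [(52, 1), (53, 1), (54, 1), (58, 1), (59, 1), (60, 1), (62, 1), (75, 1), (76, 1), (79, 1), (80, 1), (85, 1), (91, 1), (92, 1), (93, 1), (95, 1), (99, 1), (100, 1), (104, 1), (105, 1), (107, 1), (108, 1), (111, 1), (112, 1), (116, 1), (119, 1), (122, 1), (125, 1), (126, 1), (127, 1), (128, 1), (133, 1), (134, 1), (135, 1), (139, 1), (144, 1), (145, 1), (146, 1), (149, 1), (154, 1), (155, 1), (157, 1), (158, 1),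 (159, 1), (161, 1), (164, 1), (167, 1), (169, 1), (172, 1), (177, 1), (178, 1), (186, 1), (190, 1), (191, 1), (192, 1), (195, 1), (196, 1), (198, 1), (203, 1), (204, 1), (206, 1), (207, 1)], [(46, 1), (60, 1), (63, 1), (75, 1), (76, 1), (77, 1), (85, 1), (87, 1), (95, 1), (119, 1), (122, 1), (127, 1), (128, 1), (136, 1), (137, 1), (139, 1), (141, 1), (144, 1), (145, 1), (146, 1), (149, 1), (151, 1), (159, 1), (160, 1), (170, 1), (175, 1), (182, 1), (185, 1), (190, 1), (191, 1), (201, 1), (205, 1), (207, 1)], [(62, 1), (77, 1), (84, 1), (85, 1), (87, 1), (91, 1), (96, 1), (99, 1), (127, 1), (132, 1), (139, 1), (148, 1), (149, 1), (151, 1), (160, 1), (175, 1), (179, 1), (182, 1), (190, 1), (191, 1), (195, 1), (207, 1)], [(46, 1), (52, 1), (53, 1), (54, 1), (58, 1), (59, 1), (62, 1), (63, 1), (75, 1), (76, 1), (77, 1), (79, 1), (80, 1), (87, 1), (92, 1), (93, 1), (96, 1), (100, 1), (104, 1), (105, 1), (107, 1), (108, 1), (111, 1), (112, 1), (116, 1), (119, 1), (120, 1), (125, 1),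 (126, 1), (127, 1), (128, 1), (132, 1), (133, 1), (134, 1), (135, 1), (137, 1), (139, 1), (141, 1), (144, 1), (146, 1), (148, 1), (149, 1), (152, 1), (154, 1), (155, 1), (157, 1), (158, 1), (159, 1), (160, 1), (164, 1), (167, 1), (169, 1), (170, 1), (172, 1), (177, 1), (178, 1), (179, 1), (182, 1), (185, 1), (186, 1), (190, 1), (191, 1), (192, 1), (195, 1), (196, 1), (198, 1), (199, 1), (200, 1), (203, 1), (204, 1), (205, 1), (207, 1)], [(46, 1), (60, 1), (62, 1), (63, 1), (85, 1), (95, 1), (100, 1), (111, 1), (119, 1), (122, 1), (135, 1), (136, 1), (137, 1), (139, 1), (141, 1), (145, 1), (146, 1), (149, 1), (151, 1), (152, 1), (160, 1), (170, 1), (171, 1), (183, 1), (185, 1), (190, 1), (191, 1), (192, 1), (196, 1), (199, 1), (200, 1), (207, 1)], [(46, 1), (52, 1), (53, 1), (54, 1), (58, 1), (59, 1), (63, 1), (79, 1), (80, 1), (84, 1), (85, 1), (86, 1), (92, 1), (93, 1), (99, 1), (100, 1), (104, 1), (105, 1), (107, 1), (108, 1), (111, 1), (112, 1), (116, 1), (125, 1), (126, 1),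 (127, 1), (128, 1), (132, 1), (133, 1), (134, 1), (135, 1), (141, 1), (146, 1), (149, 1), (152, 1), (154, 1), (155, 1), (157, 1), (158, 1), (159, 1), (160, 1), (161, 1), (167, 1), (169, 1), (170, 1), (172, 1), (175, 1), (177, 1), (178, 1), (179, 1), (185, 1), (186, 1), (190, 1), (198, 1), (201, 1), (203, 1), (204, 1), (206, 1)], [(42, 1), (45, 1), (75, 1), (79, 1), (85, 1), (86, 1), (87, 1), (89, 1), (90, 1), (94, 1), (98, 1), (99, 1), (101, 1), (102, 1), (120, 1), (122, 1), (123, 1), (130, 1), (131, 1), (135, 1), (137, 1), (138, 1), (139, 1), (146, 1), (147, 1), (148, 1), (151, 1), (159, 1), (160, 1), (164, 1), (174, 1), (175, 1), (192, 1), (196, 1), (199, 1), (205, 1), (206, 1), (207, 1)], [(38, 1), (42, 1), (46, 1), (50, 1), (52, 1), (53, 1), (54, 1), (58, 1), (59, 1), (62, 1), (64, 1), (68, 1), (71, 1), (76, 1), (77, 1), (78, 1), (80, 1), (81, 1), (82, 1), (83, 1), (84, 1), (90, 1), (93, 1), (95, 1), (96, 1), (98, 1), (99, 1), (102, 1), (103, 1), (104, 1), (107, 1), (108,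 1), (109, 1), (111, 1), (112, 1), (113, 1), (115, 1), (119, 1), (123, 1), (124, 1), (127, 1), (128, 1), (129, 1), (130, 1), (134, 1), (135, 1), (136, 1), (139, 1), (141, 1), (144, 1), (145, 1), (146, 1), (147, 1), (148, 1), (150, 1), (154, 1), (156, 1), (159, 1), (161, 1), (163, 1), (164, 1), (166, 1), (170, 1), (172, 1), (174, 1), (175, 1), (176, 1), (177, 1), (178, 1), (179, 1), (180, 1), (181, 1), (183, 1), (186, 1), (189, 1), (193, 1), (195, 1), (196, 1), (198, 1), (200, 1), (201, 1), (202, 1), (203, 1), (204, 1), (205, 1), (206, 1), (207, 1), (210, 1), (211, 1), (212, 1)], [(62, 1), (63, 1), (75, 1), (77, 1), (85, 1), (87, 1), (95, 1), (99, 1), (119, 1), (127, 1), (128, 1), (135, 1), (136, 1), (137, 1), (139, 1), (145, 1), (146, 1), (148, 1), (151, 1), (159, 1), (160, 1), (164, 1), (175, 1), (190, 1), (191, 1), (192, 1), (200, 1), (205, 1), (207, 1)], [(38, 1), (46, 1), (49, 1), (50, 1), (52, 1), (53, 1), (55, 1), (58, 1), (59, 1), (60, 1), (61, 1), (62, 1), (64, 1), (68,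 1), (70, 1), (71, 1), (74, 1), (77, 1), (78, 1), (79, 1), (81, 1), (82, 1), (83, 1), (84, 1), (85, 1), (86, 1), (88, 1), (89, 1), (90, 1), (94, 1), (99, 1), (100, 1), (103, 1), (107, 1), (108, 1), (111, 1), (112, 1), (113, 1), (118, 1), (119, 1), (124, 1), (125, 1), (126, 1), (127, 1), (129, 1), (130, 1), (131, 1), (132, 1), (133, 1), (142, 1), (146, 1), (148, 1), (149, 1), (150, 1), (151, 1), (152, 1), (156, 1), (163, 1), (166, 1), (167, 1), (169, 1), (170, 1), (171, 1), (176, 1), (183, 1), (184, 1), (188, 1), (189, 1), (192, 1), (193, 1), (195, 1), (196, 1), (197, 1), (198, 1), (202, 1), (203, 1), (204, 1), (205, 1), (207, 1), (209, 1), (210, 1), (212, 1)], [(76, 1), (85, 1), (87, 1), (127, 1), (128, 1), (136, 1), (137, 1), (144, 1), (146, 1), (159, 1), (160, 1), (164, 1), (175, 1), (182, 1), (191, 1), (192, 1), (196, 1), (205, 1), (206, 1), (207, 1)], [(62, 1), (75, 1), (76, 1), (77, 1), (84, 1), (85, 1), (87, 1), (91, 1), (96, 1), (99, 1), (128, 1), (132, 1), (136, 1), (137,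 1), (139, 1), (144, 1), (146, 1), (148, 1), (149, 1), (151, 1), (159, 1), (164, 1), (179, 1), (182, 1), (190, 1), (192, 1), (195, 1), (196, 1), (205, 1)], [(46, 1), (60, 1), (76, 1), (77, 1), (85, 1), (86, 1), (91, 1), (96, 1), (99, 1), (119, 1), (122, 1), (127, 1), (132, 1), (141, 1), (145, 1), (148, 1), (160, 1), (164, 1), (170, 1), (175, 1), (179, 1), (182, 1), (185, 1), (190, 1), (191, 1), (192, 1), (195, 1), (200, 1), (201, 1), (206, 1), (207, 1)]],
    [[(37, 1), (38, 1), (42, 1), (46, 1), (48, 1), (49, 1), (51, 1), (53, 1), (54, 1), (55, 1), (56, 1), (57, 1), (63, 1), (64, 1), (69, 1), (75, 1), (79, 1), (80, 1), (82, 1), (83, 1), (84, 1), (86, 1), (89, 1), (90, 1), (91, 1), (95, 1), (98, 1), (99, 1), (100, 1), (102, 1), (103, 1), (104, 1), (106, 1), (109, 1), (112, 1), (113, 1), (115, 1), (117, 1), (118, 1), (119, 1), (120, 1), (122, 1), (123, 1), (125, 1), (126, 1), (132, 1), (133, 1), (135, 1), (136, 1), (137, 1), (141, 1), (142, 1), (143, 1), (144, 1), (155, 1), (157,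 1), (158, 1), (159, 1), (160, 1), (161, 1), (165, 1), (168, 1), (169, 1), (170, 1), (171, 1), (175, 1), (176, 1), (177, 1), (178, 1), (179, 1), (182, 1), (191, 1), (195, 1), (196, 1), (198, 1), (199, 1), (200, 1), (202, 1), (203, 1), (204, 1), (206, 1), (214, 1), (215, 1)], [(38, 1), (42, 1), (43, 1), (45, 1), (49, 1), (50, 1), (53, 1), (54, 1), (55, 1), (58, 1), (59, 1), (60, 1), (61, 1), (63, 1), (70, 1), (72, 1), (73, 1), (75, 1), (77, 1), (78, 1), (79, 1), (80, 1), (81, 1), (83, 1), (84, 1), (85, 1), (86, 1), (89, 1), (90, 1), (91, 1), (94, 1), (95, 1), (96, 1), (100, 1), (101, 1), (102, 1), (103, 1), (104, 1), (105, 1), (108, 1), (109, 1), (112, 1), (114, 1), (117, 1), (118, 1), (120, 1), (122, 1), (123, 1), (126, 1), (127, 1), (129, 1), (130, 1), (132, 1), (137, 1), (139, 1), (140, 1), (141, 1), (144, 1), (145, 1), (147, 1), (148, 1), (150, 1), (151, 1), (153, 1), (155, 1), (156, 1), (159, 1), (161, 1), (163, 1), (166, 1), (168, 1), (171, 1), (173, 1), (174, 1), (178, 1),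 (182, 1), (183, 1), (184, 1), (185, 1), (186, 1), (187, 1), (189, 1), (190, 1), (191, 1), (193, 1), (199, 1), (200, 1), (202, 1), (203, 1), (204, 1), (206, 1), (207, 1), (208, 1), (209, 1), (210, 1), (212, 1), (214, 1), (215, 1)], [(38, 1), (46, 1), (48, 1), (49, 1), (51, 1), (52, 1), (53, 1), (54, 1), (55, 1), (56, 1), (57, 1), (58, 1), (66, 1), (77, 1), (79, 1), (84, 1), (85, 1), (95, 1), (103, 1), (104, 1), (106, 1), (107, 1), (108, 1), (109, 1), (115, 1), (118, 1), (121, 1), (122, 1), (125, 1), (126, 1), (128, 1), (133, 1), (134, 1), (137, 1), (138, 1), (139, 1), (142, 1), (144, 1), (145, 1), (150, 1), (151, 1), (152, 1), (154, 1), (155, 1), (157, 1), (158, 1), (159, 1), (160, 1), (161, 1), (166, 1), (168, 1), (170, 1), (172, 1), (173, 1), (174, 1), (175, 1), (177, 1), (178, 1), (182, 1), (183, 1), (186, 1), (190, 1), (195, 1), (196, 1), (198, 1), (199, 1), (201, 1), (202, 1), (204, 1), (210, 1)], [(46, 1)], [(38, 1), (48, 1), (50, 1), (51, 1), (52, 1), (53, 1), (57, 1),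 (58, 1), (62, 1), (63, 1), (66, 1), (75, 1), (76, 1), (80, 1), (84, 1), (87, 1), (89, 1), (90, 1), (94, 1), (95, 1), (99, 1), (100, 1), (103, 1), (105, 1), (106, 1), (107, 1), (109, 1), (110, 1), (111, 1), (119, 1), (120, 1), (121, 1), (122, 1), (132, 1), (136, 1), (138, 1), (139, 1), (143, 1), (144, 1), (145, 1), (148, 1), (150, 1), (154, 1), (155, 1), (156, 1), (157, 1), (158, 1), (159, 1), (160, 1), (165, 1), (167, 1), (168, 1), (169, 1), (173, 1), (175, 1), (179, 1), (180, 1), (181, 1), (185, 1), (188, 1), (191, 1), (192, 1), (194, 1), (198, 1), (199, 1), (202, 1), (203, 1), (206, 1), (207, 1), (210, 1), (211, 1), (214, 1), (215, 1)], [(38, 1), (43, 1), (50, 1), (53, 1), (54, 1), (55, 1), (60, 1), (76, 1), (77, 1), (79, 1), (80, 1), (85, 1), (87, 1), (89, 1), (90, 1), (91, 1), (92, 1), (93, 1), (96, 1), (98, 1), (99, 1), (104, 1), (109, 1), (113, 1), (116, 1), (117, 1), (120, 1), (122, 1), (123, 1), (125, 1), (127, 1), (128, 1), (136, 1), (140, 1), (141, 1), (144, 1), (146,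 1), (150, 1), (151, 1), (153, 1), (155, 1), (156, 1), (157, 1), (161, 1), (163, 1), (164, 1), (165, 1), (166, 1), (170, 1), (173, 1), (177, 1), (182, 1), (183, 1), (185, 1), (188, 1), (189, 1), (192, 1), (195, 1), (196, 1), (199, 1), (202, 1), (203, 1), (204, 1), (205, 1), (206, 1), (208, 1), (209, 1), (210, 1), (211, 1), (213, 1), (214, 1)], [(42, 1), (45, 1), (46, 1), (52, 1), (53, 1), (54, 1), (58, 1), (59, 1), (63, 1), (69, 1), (72, 1), (76, 1), (82, 1), (83, 1), (86, 1), (87, 1), (88, 1), (89, 1), (90, 1), (91, 1), (92, 1), (93, 1), (94, 1), (95, 1), (98, 1), (99, 1), (100, 1), (101, 1), (102, 1), (104, 1), (105, 1), (107, 1), (108, 1), (109, 1), (111, 1), (112, 1), (115, 1), (116, 1), (120, 1), (122, 1), (123, 1), (125, 1), (126, 1), (128, 1), (129, 1), (130, 1), (131, 1), (135, 1), (136, 1), (137, 1), (141, 1), (145, 1), (147, 1), (151, 1), (152, 1), (154, 1), (155, 1), (157, 1), (158, 1), (161, 1), (167, 1), (170, 1), (172, 1), (174, 1), (176, 1), (177, 1), (178, 1),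 (181, 1), (182, 1), (183, 1), (188, 1), (191, 1), (194, 1), (196, 1), (201, 1), (203, 1), (204, 1), (205, 1), (206, 1), (207, 1), (209, 1), (210, 1), (211, 1), (212, 1)], [(70, 1)], [(38, 1), (45, 1), (46, 1), (49, 1), (50, 1), (52, 1), (53, 1), (55, 1), (58, 1), (59, 1), (60, 1), (61, 1), (64, 1), (69, 1), (72, 1), (76, 1), (77, 1), (78, 1), (84, 1), (86, 1), (87, 1), (89, 1), (91, 1), (92, 1), (94, 1), (96, 1), (101, 1), (107, 1), (108, 1), (109, 1), (111, 1), (112, 1), (113, 1), (118, 1), (119, 1), (120, 1), (122, 1), (123, 1), (125, 1), (126, 1), (127, 1), (128, 1), (129, 1), (130, 1), (132, 1), (134, 1), (137, 1), (143, 1), (144, 1), (145, 1), (149, 1), (151, 1), (152, 1), (154, 1), (156, 1), (160, 1), (161, 1), (163, 1), (164, 1), (166, 1), (167, 1), (169, 1), (170, 1), (171, 1), (174, 1), (175, 1), (176, 1), (177, 1), (178, 1), (179, 1), (180, 1), (181, 1), (185, 1), (186, 1), (189, 1), (191, 1), (194, 1), (195, 1), (197, 1), (198, 1), (201, 1), (202, 1), (203, 1), (204,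 1), (210, 1), (211, 1), (212, 1)], [(42, 1), (49, 1), (52, 1), (53, 1), (55, 1), (58, 1), (59, 1), (61, 1), (62, 1), (63, 1), (70, 1), (73, 1), (75, 1), (79, 1), (80, 1), (81, 1), (85, 1), (86, 1), (87, 1), (88, 1), (90, 1), (91, 1), (92, 1), (94, 1), (96, 1), (98, 1), (99, 1), (100, 1), (102, 1), (103, 1), (105, 1), (107, 1), (108, 1), (109, 1), (111, 1), (112, 1), (115, 1), (116, 1), (118, 1), (125, 1), (126, 1), (127, 1), (128, 1), (134, 1), (136, 1), (139, 1), (140, 1), (145, 1), (147, 1), (148, 1), (149, 1), (150, 1), (151, 1), (154, 1), (157, 1), (158, 1), (159, 1), (171, 1), (174, 1), (175, 1), (177, 1), (178, 1), (179, 1), (180, 1), (182, 1), (184, 1), (185, 1), (187, 1), (192, 1), (201, 1), (203, 1), (204, 1), (205, 1), (206, 1), (210, 1)], [(42, 1), (46, 1), (48, 1), (49, 1), (51, 1), (53, 1), (54, 1), (55, 1), (56, 1), (57, 1), (63, 1), (64, 1), (69, 1), (75, 1), (79, 1), (80, 1), (82, 1), (83, 1), (84, 1), (86, 1), (89, 1), (90, 1), (91, 1), (95, 1), (98, 1), (99,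 1), (100, 1), (102, 1), (103, 1), (104, 1), (106, 1), (109, 1), (112, 1), (113, 1), (115, 1), (117, 1), (118, 1), (119, 1), (120, 1), (122, 1), (123, 1), (125, 1), (126, 1), (132, 1), (133, 1), (135, 1), (136, 1), (137, 1), (141, 1), (142, 1), (143, 1), (144, 1), (155, 1), (157, 1), (158, 1), (159, 1), (160, 1), (161, 1), (165, 1), (168, 1), (169, 1), (170, 1), (171, 1), (175, 1), (176, 1), (177, 1), (178, 1), (179, 1), (182, 1), (191, 1), (195, 1), (196, 1), (198, 1), (199, 1), (200, 1), (202, 1), (203, 1), (204, 1), (206, 1), (214, 1), (215, 1)], [(38, 1), (42, 1), (43, 1), (44, 1), (46, 1), (48, 1), (51, 1), (52, 1), (53, 1), (56, 1), (57, 1), (58, 1), (60, 1), (61, 1), (63, 1), (64, 1), (66, 1), (69, 1), (76, 1), (80, 1), (82, 1), (83, 1), (84, 1), (89, 1), (90, 1), (91, 1), (92, 1), (93, 1), (94, 1), (95, 1), (97, 1), (98, 1), (100, 1), (102, 1), (106, 1), (107, 1), (108, 1), (112, 1), (117, 1), (121, 1), (126, 1), (127, 1), (135, 1), (136, 1), (137, 1), (138, 1), (139,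 1), (140, 1), (142, 1), (149, 1), (151, 1), (153, 1), (155, 1), (157, 1), (158, 1), (164, 1), (166, 1), (168, 1), (169, 1), (170, 1), (171, 1), (172, 1), (173, 1), (175, 1), (176, 1), (178, 1), (181, 1), (182, 1), (185, 1), (190, 1), (191, 1), (194, 1), (201, 1), (202, 1), (204, 1), (205, 1), (209, 1), (211, 1)], [(38, 1), (56, 1), (79, 1), (80, 1), (87, 1), (89, 1), (90, 1), (91, 1), (92, 1), (93, 1), (94, 1), (96, 1), (100, 1), (103, 1), (109, 1), (119, 1), (125, 1), (126, 1), (128, 1), (132, 1), (133, 1), (134, 1), (135, 1), (136, 1), (139, 1), (143, 1), (146, 1), (149, 1), (150, 1), (152, 1), (154, 1), (155, 1), (159, 1), (160, 1), (164, 1), (170, 1), (174, 1), (177, 1), (178, 1), (179, 1), (180, 1), (181, 1), (182, 1), (185, 1), (186, 1), (188, 1), (189, 1), (190, 1), (192, 1), (194, 1), (199, 1), (202, 1), (205, 1), (206, 1), (207, 1), (213, 1)], [(38, 1), (42, 1), (49, 1), (50, 1), (54, 1), (55, 1), (60, 1), (61, 1), (63, 1), (66, 1), (77, 1), (80, 1), (82, 1), (83, 1),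 (84, 1), (88, 1), (90, 1), (93, 1), (94, 1), (95, 1), (98, 1), (100, 1), (102, 1), (104, 1), (105, 1), (113, 1), (115, 1), (116, 1), (118, 1), (119, 1), (121, 1), (123, 1), (127, 1), (131, 1), (132, 1), (134, 1), (135, 1), (138, 1), (139, 1), (140, 1), (141, 1), (143, 1), (144, 1), (145, 1), (147, 1), (148, 1), (149, 1), (151, 1), (155, 1), (156, 1), (157, 1), (158, 1), (160, 1), (163, 1), (164, 1), (166, 1), (169, 1), (171, 1), (172, 1), (175, 1), (179, 1), (180, 1), (182, 1), (183, 1), (185, 1), (186, 1), (188, 1), (189, 1), (195, 1), (196, 1), (197, 1), (198, 1), (202, 1), (205, 1), (207, 1), (209, 1), (212, 1)], [(38, 1), (44, 1), (46, 1), (48, 1), (51, 1), (54, 1), (56, 1), (57, 1), (59, 1), (61, 1), (63, 1), (64, 1), (66, 1), (69, 1), (75, 1), (80, 1), (82, 1), (83, 1), (84, 1), (85, 1), (87, 1), (94, 1), (97, 1), (98, 1), (100, 1), (104, 1), (105, 1), (106, 1), (116, 1), (117, 1), (119, 1), (121, 1), (123, 1), (131, 1), (133, 1), (134, 1), (135, 1), (136, 1), (137, 1),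 (138, 1), (139, 1), (140, 1), (144, 1), (145, 1), (148, 1), (152, 1), (155, 1), (161, 1), (164, 1), (166, 1), (167, 1), (168, 1), (170, 1), (173, 1), (175, 1), (176, 1), (181, 1), (185, 1), (186, 1), (188, 1), (191, 1), (192, 1), (194, 1), (196, 1), (198, 1), (200, 1), (201, 1), (202, 1), (203, 1), (205, 1), (207, 1), (209, 1), (211, 1)], [(37, 1), (55, 1), (57, 1), (63, 1), (76, 1), (84, 1), (85, 1), (87, 1), (92, 1), (93, 1), (94, 1), (96, 1), (103, 1), (109, 1), (111, 1), (113, 1), (114, 1), (116, 1), (119, 1), (122, 1), (127, 1), (133, 1), (137, 1), (142, 1), (144, 1), (145, 1), (148, 1), (150, 1), (152, 1), (157, 1), (158, 1), (161, 1), (162, 1), (164, 1), (166, 1), (168, 1), (171, 1), (174, 1), (180, 1), (182, 1), (183, 1), (185, 1), (189, 1), (191, 1), (192, 1), (199, 1), (200, 1), (203, 1), (204, 1), (205, 1), (211, 1), (215, 1)], [(49, 1), (52, 1), (53, 1), (55, 1), (58, 1), (59, 1), (61, 1), (62, 1), (63, 1), (64, 1), (66, 1), (69, 1), (76, 1), (79, 1), (82, 1), (83,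 1), (86, 1), (94, 1), (95, 1), (96, 1), (99, 1), (100, 1), (103, 1), (105, 1), (107, 1), (108, 1), (109, 1), (111, 1), (115, 1), (116, 1), (117, 1), (118, 1), (119, 1), (121, 1), (122, 1), (123, 1), (125, 1), (126, 1), (127, 1), (128, 1), (131, 1), (135, 1), (136, 1), (138, 1), (139, 1), (140, 1), (142, 1), (144, 1), (145, 1), (146, 1), (150, 1), (151, 1), (154, 1), (155, 1), (157, 1), (158, 1), (159, 1), (160, 1), (161, 1), (164, 1), (167, 1), (171, 1), (172, 1), (175, 1), (176, 1), (177, 1), (178, 1), (181, 1), (182, 1), (183, 1), (185, 1), (188, 1), (190, 1), (194, 1), (195, 1), (196, 1), (200, 1), (203, 1), (204, 1), (206, 1), (209, 1), (211, 1)], [(42, 1), (43, 1), (48, 1), (49, 1), (50, 1), (51, 1), (52, 1), (53, 1), (54, 1), (55, 1), (56, 1), (57, 1), (58, 1), (59, 1), (60, 1), (63, 1), (70, 1), (73, 1), (75, 1), (79, 1), (80, 1), (81, 1), (87, 1), (91, 1), (93, 1), (94, 1), (95, 1), (100, 1), (102, 1), (103, 1), (104, 1), (105, 1), (106, 1), (107, 1), (108, 1), (109,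 1), (111, 1), (112, 1), (113, 1), (114, 1), (115, 1), (116, 1), (117, 1), (118, 1), (119, 1), (122, 1), (123, 1), (125, 1), (127, 1), (128, 1), (133, 1), (135, 1), (136, 1), (140, 1), (141, 1), (142, 1), (143, 1), (144, 1), (145, 1), (148, 1), (152, 1), (153, 1), (154, 1), (155, 1), (156, 1), (158, 1), (159, 1), (163, 1), (171, 1), (173, 1), (174, 1), (177, 1), (179, 1), (181, 1), (182, 1), (183, 1), (184, 1), (185, 1), (186, 1), (187, 1), (190, 1), (191, 1), (192, 1), (194, 1), (199, 1), (200, 1), (201, 1), (205, 1), (206, 1), (208, 1), (209, 1), (211, 1)], [(49, 1), (54, 1), (55, 1), (60, 1), (61, 1), (62, 1), (64, 1), (69, 1), (70, 1), (73, 1), (77, 1), (81, 1), (82, 1), (83, 1), (85, 1), (86, 1), (93, 1), (95, 1), (96, 1), (103, 1), (104, 1), (118, 1), (119, 1), (122, 1), (123, 1), (127, 1), (131, 1), (134, 1), (135, 1), (140, 1), (145, 1), (148, 1), (150, 1), (160, 1), (164, 1), (167, 1), (171, 1), (172, 1), (175, 1), (176, 1), (179, 1), (180, 1), (181, 1), (183, 1), (184,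 1), (187, 1), (188, 1), (190, 1), (191, 1), (194, 1), (195, 1), (199, 1), (200, 1), (201, 1), (206, 1), (207, 1), (209, 1), (211, 1)], [(38, 1), (42, 1), (49, 1), (50, 1), (52, 1), (53, 1), (55, 1), (58, 1), (59, 1), (61, 1), (70, 1), (73, 1), (76, 1), (79, 1), (80, 1), (81, 1), (82, 1), (83, 1), (84, 1), (85, 1), (88, 1), (90, 1), (95, 1), (98, 1), (99, 1), (102, 1), (107, 1), (108, 1), (109, 1), (111, 1), (113, 1), (117, 1), (118, 1), (119, 1), (123, 1), (125, 1), (126, 1), (127, 1), (128, 1), (131, 1), (132, 1), (135, 1), (136, 1), (140, 1), (141, 1), (142, 1), (143, 1), (145, 1), (146, 1), (147, 1), (149, 1), (154, 1), (156, 1), (159, 1), (160, 1), (161, 1), (163, 1), (164, 1), (166, 1), (169, 1), (171, 1), (172, 1), (175, 1), (177, 1), (178, 1), (183, 1), (184, 1), (186, 1), (187, 1), (188, 1), (189, 1), (191, 1), (195, 1), (197, 1), (198, 1), (199, 1), (201, 1), (202, 1), (203, 1), (204, 1), (205, 1), (206, 1), (209, 1)], [(38, 1), (42, 1), (50, 1), (52, 1), (53, 1), (54,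 1), (58, 1), (59, 1), (60, 1), (70, 1), (73, 1), (76, 1), (79, 1), (80, 1), (81, 1), (82, 1), (83, 1), (84, 1), (85, 1), (86, 1), (88, 1), (90, 1), (91, 1), (92, 1), (93, 1), (95, 1), (98, 1), (102, 1), (104, 1), (107, 1), (108, 1), (109, 1), (112, 1), (113, 1), (119, 1), (123, 1), (125, 1), (126, 1), (127, 1), (128, 1), (131, 1), (132, 1), (135, 1), (136, 1), (139, 1), (140, 1), (141, 1), (143, 1), (146, 1), (147, 1), (148, 1), (150, 1), (154, 1), (156, 1), (159, 1), (160, 1), (161, 1), (163, 1), (164, 1), (166, 1), (169, 1), (171, 1), (172, 1), (175, 1), (177, 1), (178, 1), (183, 1), (184, 1), (186, 1), (187, 1), (188, 1), (189, 1), (191, 1), (195, 1), (197, 1), (198, 1), (199, 1), (201, 1), (202, 1), (203, 1), (204, 1), (205, 1), (206, 1), (209, 1)], [(38, 1), (42, 1), (46, 1), (48, 1), (49, 1), (51, 1), (53, 1), (54, 1), (55, 1), (56, 1), (57, 1), (63, 1), (64, 1), (69, 1), (75, 1), (79, 1), (80, 1), (82, 1), (83, 1), (84, 1), (86, 1), (89, 1), (90, 1), (91, 1), (95, 1),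 (98, 1), (99, 1), (100, 1), (102, 1), (103, 1), (104, 1), (106, 1), (109, 1), (112, 1), (113, 1), (115, 1), (117, 1), (118, 1), (119, 1), (120, 1), (122, 1), (123, 1), (125, 1), (126, 1), (132, 1), (133, 1), (135, 1), (136, 1), (137, 1), (141, 1), (142, 1), (143, 1), (144, 1), (155, 1), (157, 1), (158, 1), (159, 1), (160, 1), (161, 1), (165, 1), (168, 1), (169, 1), (170, 1), (171, 1), (175, 1), (176, 1), (177, 1), (178, 1), (179, 1), (182, 1), (191, 1), (195, 1), (196, 1), (198, 1), (199, 1), (200, 1), (202, 1), (203, 1), (204, 1), (206, 1), (214, 1), (215, 1)]]]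

/-- Words of the generators. -/
def pcw : List (List Atom) := [
  [.perm (1803882534248236829251050039035241557133196392247586407040953677816260274534137472394041039265666786216475754501, 1803882534248236829251050039035241557133196392247586407040953677816260274534137472394041039265666786216475754501)],
  [.perm (10220958235990656821968393482416073808287655279184972856439266635165019885734137656498173250466351071523462250496, 10220958235990656821968393482416073808287655279184972856439266635165019885734137656498173250466351071523462250496)],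
  [.perm (10221059150909655118006946011471402045543109917784906359827131423919516420169692513825778960695701036311028695041, 10221059150909655118006946011471402045543109917784906359827131423919516420169692513825778960695701036311028695041)],
  [.perm (13828365514083479194133356581258112521980989032624693799288001789262366265267133426863195974889139788366987001856, 13828365514083479194133356581258112521980989032624693799288001789262366265267133426863195974889139788366987001856)],
  [.perm (3006217074700407958244450431001059086755622665809096121773575816696694685213168872397311485598203546050043641856, 3006217074700407958244450431001059086755622665809096121773575816696694685213168872397311485598203546050043641856)],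
  [.perm (3006235422829317789183030070812808248824339989288544080072048129596989242594754241642591519993627982285018103811, 3006235422829317789183030070812808248824339989288544080072048129596989242594754241642591519993627982285018103811)],
  [.perm (13828282947573339598313389377773913356897966249622249162702419351878135735809088749295415616808465797747625230336, 13828282947573339598313389377773913356897966249622249162702419351878135735809088749295415616808465797747625230336)],
  [.perm (13828365512263663095158714819388576184005692589101087418545648371755853163468243223900803780986817151963339227136, 13828365512263663095158714819388576184005692589101087418545648371755853163468243223900803780986817151963339227136)],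
  [.perm (13828273773158944858837144067591872820632930681411168939844185731948137202431449210175636633340804872761549848576, 13828273773158944858837144067591872820632930681411168939844185731948137202431449210175636633340804872761549848576)],
  [.perm (13828319644111159392898677331974899125605222981588407342562907533119088204701091940927030606192369309435182514176, 13828319644111159392898677331974899125605222981588407342562907533119088204701091940927030606192369309435182514176)],
  [.flip 10558],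
  [.flip 69395],
  [.flip 36294],
  [.flip 1161408],
  [.flip 18147],
  [.flip 213833],
  [.flip 337856],
  [.flip 5279],
  [.flip 628112],
  [.flip 3421328],
  [.flip 8241104],
  [.flip 8536111]]

/-- Words of the conjugating elements. -/
def fw : List (List Atom) := [
  [.flip 1413139, .perm (10822185138300607003278865393460727841578598414287066252708784982977230742218622938461918108418568584100735156236, 3607508193991711128697801351746676578716017494774419640279064130517267455298395260839051088512043300207891054611)],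
  [.flip 9397301, .perm (12024749027774492085674515675396976639614114887951044022917717105068648044222129304312220290009512705621305524236, 13227166134036869762439547978437300601782222396446474973106004405951596334487793037188565172362610352733368549386)],
  [.flip 11729044, .perm (4809971168406611732192853331742378627455197566291501160248287166669753813510977750410410883091345729047682744326, 5411051285685272586157310615551497358440653684805613173241542347470240192625010634209909543411132366758024839176), .xi, .flip 11451380, .perm (10220994931968519071106278599118929835948013967014192495391982503406329693176172052016714501931215368029901422596, 3006272118667174631901481331999606134046441741306259355588674092614739719470449404323777158979442546481272848396)]]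

/-- Small stable sets of vectors. -/
def orbs : List (List ℕ) := [
  [686053159114795289240674611757597208, 686053159114795289240674611757597456, 686053159114795289240674611757859344, 686053159114795289240674611757597192, 686053159114795289240674611757605392, 686053159114795289240674611757596944, 686053159114795289240674611757335056, 686053159114795289240674611757589008],
  [686053159114795289240674611891814932, 686053159114800011607157481402811024, 852206658587909773353650494292640276, 852206658587909773353650494292771344, 686053159114795289240674611623379476, 686053159114795289240674611891814924, 686053159114795289240674611623379468, 686053159269537794151347146119991824, 686053159269537794151347146119987856, 686053159114800011607157481402810768, 686053159114790566874191742112383376, 686053159114790566874191742112383632, 686053159114795289240674611891946000, 852206658587909773353650494292640268, 519899659641680805127698729222554124, 852206658587909773353650494292509200, 519899659641680805127698729222423056,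 519899659641680805127698729222554132, 519899659641680805127698729222685200, 686053159114800011607157481402814992, 686053159269537794151347146119983632, 686053158960052784330002077395210768, 686053158960052784330002077395202576, 686053159269537794151347146119987600, 686053158960052784330002077395206800, 686053158960052784330002077395206544, 686053159114795289240674611623248400, 686053159114795289240674611623510544, 686053159114795289240674611891683856, 686053159114800011607157481402806800, 686053159114790566874191742112387600, 686053159114790566874191742112379408],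
  [686053159114795289240674611757597208, 686053159114795289240674611757859344, 686053159114795289240674611757597192, 686053159114795289240674611757335056],
  [686053159114795289240674611757597332, 686053159114795289240674611757732368, 686053159114795289240674611757597076, 686053159114795289240674611757597068, 686053159114795289240674611757597324, 686053159114795289240674611757462032, 686053159114795289240674611757724176, 686053159114795289240674611757470224],
  [686053159114795289240674611891814932, 852206658587909773353650494292771344, 686053159114795289240674611623379476, 686053159114795289240674611891814924, 686053159114795289240674611623379468, 852206658587909773353650494292509200, 519899659641680805127698729222423056, 519899659641680805127698729222685200],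
  [686053159114795289240674611757597208, 686053159114795289240674611757597192],
  [686053159114795289240674611765985808, 686053159114795584388579791110423056, 686053159114795289240674886635504144, 686053159114795298464046648612373008, 686053159114795289240674611749208592, 686377677668453715967457767778173456, 686053169018315603523716810950590992, 686053159114794994092769432404771344, 686053159114795289249681811012338192, 686053159114795289240674336879690256, 686053159114795280017302574902821392, 686063300319597115075886585383240208, 685728640561136862513891455737020944, 686053149211274974957632412564603408, 686053159114795289231667412502856208, 686043017909993463405462638131954192],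
  [686053159114795289240674611765985808, 686053159114795289240674886635504144, 686053159114795298464046648612373008, 686053159114795289240674611749208592, 686053159114795289249681811012338192, 686053159114795289240674336879690256, 686053159114795280017302574902821392, 686053159114795289231667412502856208],
  [686053159114795289240674611765985808, 686053159114795298464046648612373008, 686053159114795289240674611749208592, 686053159114795280017302574902821392],
  [686053159114795289240674611765985808, 686053159114795289240674611749208592],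
  [686136826530290504738910238805674578, 686136826530290504738910238805674446, 686136826530290504738910238805670354, 686131755927889444247351662316440146, 686136826530290504738910238805543502, 686136821578530200023436549532764754, 686136826530290504738910238805539278, 685969491699300073742438984709655122, 686136826530290504738910238805670478, 686131755927889444247351662316440014, 686136826530290504738910238805543378, 686136821578530200023436549532764622, 686136826530290504738910238805539410, 685969491699300073742438984709654990, 686131755927889444247351662316435922, 686136821578530200023436549532760530, 685969491699300073742438984709650898, 686131755927889444247351662316309070, 686131750976129434679783152396356178, 686131755927889444247351662316304846, 685974562301701134233997561198889554, 686136821578530200023436549532633678, 685969491699300073742438984709524046, 686136821578530200023436549532629454, 685969496651060378457912673982564946, 685969491699300073742438984709519822,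 686131755927889444247351662316436046, 686136821578530200023436549532760654, 685969491699300073742438984709651022, 686131755927889444247351662316308946, 686131750976129434679783152396356046, 686131755927889444247351662316304978, 685974562301701134233997561198889422, 686136821578530200023436549532633554, 685969491699300073742438984709523922, 686136821578530200023436549532629586, 685969496651060378457912673982564814, 685969491699300073742438984709519954, 686131750976129434679783152396351954, 685974562301701134233997561198885330, 685969496651060378457912673982560722, 686131750976129434679783152396225102, 685974562301701134233997561198758478, 686131750976129434679783152396220878, 685974567253461143801566071118973522, 685974562301701134233997561198754254, 685969496651060378457912673982433870, 685969496651060378457912673982429646, 686131750976129434679783152396352078, 685974562301701134233997561198885454, 685969496651060378457912673982560846, 686131750976129434679783152396224978, 685974562301701134233997561198758354,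 686131750976129434679783152396221010, 685974567253461143801566071118973390, 685974562301701134233997561198754386, 685969496651060378457912673982433746, 685969496651060378457912673982429778, 685974567253461143801566071118969298, 685974567253461143801566071118842446, 685974567253461143801566071118838222, 685974567253461143801566071118969422, 685974567253461143801566071118842322, 685974567253461143801566071118838354],
  [769129908928726144935740255096097362, 769129908928726144935740255096093138, 769129908928721422569257385316665806, 769129908773978917658584851088362062, 769129908928726144935740255095962062, 602976409300864433545608968419097038, 769129908928721422569257385316661838, 769129908773978917658584851088357838, 769129908928726144935740255095966286, 602976409300864433545608968419101262, 769129908773983640025067720599357906, 769129908928721422569257385316530770, 602976409300869155912091838198528594, 769129908773978917658584851088488914, 602976409455611660822764372426832338,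 602976409300864433545608968419232338, 769129908773983640025067720599353938, 769129908928721422569257385316534738, 602976409300869155912091838198532562, 769129908773978917658584851088493138, 602976409455611660822764372426836562, 602976409300864433545608968419228114, 769129908773983640025067720599485006, 602976409455606938456281502915836494, 602976409300869155912091838198663630, 602976409455611660822764372426705486, 769129908773983640025067720599488974, 602976409455606938456281502915840462, 602976409300869155912091838198659662, 602976409455611660822764372426701262, 602976409455606938456281502915709394, 602976409455606938456281502915705426],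
  [769129908928726144935740255096097362, 769129908928721422569257385316665806, 769129908773978917658584851088362062, 769129908928726144935740255095962062, 602976409300864433545608968419097038, 769129908773983640025067720599357906, 769129908928721422569257385316530770, 602976409300869155912091838198528594, 769129908773978917658584851088488914, 602976409455611660822764372426832338, 602976409300864433545608968419232338, 769129908773983640025067720599485006, 602976409455606938456281502915836494, 602976409300869155912091838198663630, 602976409455611660822764372426705486, 602976409455606938456281502915709394],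
  [686053159114795289240815353540919824, 686053159114795289240533869974274576],
  [686053159114795289240674611757601424, 686053159114795289240674611757592976],
  [686053159114795289240674611757597332, 686053159114795289240674611757597068],
  [686053159114795289240674749200744976, 686053159114795289240674474314449424],
  [686053159114795289240674611891814932, 686053159114795289240674611623379468],
  [686053159114795289240679014099075600, 686053159114795289240670209416118800],
  [686053159114795289240674616056758800, 686053159114795289240674607458435600],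
  [686053159114795289240674611765985808],
  [686053159114795289240674611757597208]]

/-- The equations. -/
def eqsLit : List (Bool × Cfsg.Lib.Schur.Prime.Form) := [
  (true, [(44, 1), (46, 1)]),
  (true, [(45, 1), (46, 1)]),
  (true, [(89, 1), (92, 1)]),
  (true, [(91, 1), (92, 1)]),
  (true, [(68, 1), (88, 1), (90, 1), (114, 1)]),
  (true, [(112, 1), (115, 1)]),
  (true, [(113, 1), (115, 1)]),
  (true, [(110, 1)]),
  (true, [(90, 1), (111, 1), (114, 1)]),
  (true, [(110, 1), (115, 1)]),
  (true, [(114, 1), (115, 1)]),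
  (true, [(198, 1), (207, 1)]),
  (true, [(204, 1), (207, 1)]),
  (true, [(199, 1), (207, 1)]),
  (true, [(134, 1), (198, 1), (199, 1)]),
  (true, [(200, 1)]),
  (true, [(157, 1), (161, 1), (201, 1), (205, 1), (207, 1)]),
  (true, [(160, 1), (161, 1), (204, 1), (205, 1), (207, 1)]),
  (true, [(154, 1), (198, 1), (201, 1), (205, 1)]),
  (true, [(136, 1), (155, 1), (158, 1), (183, 1), (199, 1), (201, 1), (206, 1), (207, 1)]),
  (true, [(137, 1), (156, 1), (159, 1), (200, 1), (203, 1), (205, 1)]),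
  (true, [(180, 1), (184, 1), (202, 1), (206, 1), (207, 1)]),
  (true, [(182, 1), (184, 1), (204, 1), (206, 1), (207, 1)]),
  (true, [(137, 1), (176, 1), (181, 1), (198, 1), (202, 1)]),
  (true, [(177, 1), (199, 1), (202, 1), (206, 1)]),
  (true, [(178, 1), (200, 1)]),
  (true, [(158, 1), (179, 1), (183, 1), (201, 1), (202, 1), (205, 1), (206, 1)]),
  (true, [(203, 1), (207, 1)]),
  (true, [(159, 1), (201, 1), (203, 1), (205, 1)]),
  (true, [(181, 1), (202, 1), (203, 1), (206, 1)]),
  (true, [(177, 1), (184, 1)]),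
  (true, [(183, 1), (184, 1)]),
  (true, [(156, 1), (176, 1), (178, 1), (206, 1)]),
  (true, [(200, 1), (207, 1)]),
  (true, [(205, 1), (207, 1)]),
  (true, [(178, 1), (199, 1), (206, 1)]),
  (true, [(158, 1), (179, 1), (180, 1), (202, 1), (206, 1), (207, 1)]),
  (true, [(462, 1), (483, 1)]),
  (true, [(472, 1), (483, 1)]),
  (true, [(243, 1), (253, 1), (287, 1), (297, 1), (299, 1), (309, 1), (319, 1), (321, 1), (322, 1), (353, 1), (363, 1), (365, 1), (366, 1), (368, 1), (410, 1), (412, 1), (414, 1), (431, 1), (432, 1), (434, 1), (437, 1), (441, 1), (451, 1), (454, 1), (456, 1), (458, 1)]),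
  (true, [(252, 1), (253, 1), (296, 1), (297, 1), (299, 1), (318, 1), (319, 1), (321, 1), (322, 1), (362, 1), (363, 1), (365, 1), (366, 1), (368, 1), (450, 1), (451, 1), (453, 1), (454, 1), (456, 1), (460, 1)]),
  (true, [(222, 1), (242, 1), (244, 1), (286, 1), (288, 1), (308, 1), (310, 1), (319, 1), (352, 1), (354, 1), (363, 1), (365, 1), (440, 1), (442, 1), (463, 1), (464, 1), (473, 1), (475, 1), (480, 1), (481, 1), (482, 1)]),
  (true, [(310, 1), (322, 1), (354, 1), (366, 1), (368, 1)]),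
  (true, [(318, 1), (322, 1), (362, 1), (366, 1), (368, 1)]),
  (true, [(308, 1), (352, 1), (464, 1), (476, 1), (478, 1)]),
  (true, [(244, 1), (288, 1), (309, 1), (310, 1), (319, 1), (321, 1), (353, 1), (354, 1), (363, 1), (365, 1), (410, 1), (412, 1), (432, 1), (434, 1), (442, 1), (454, 1), (456, 1), (458, 1), (459, 1)]),
  (true, [(465, 1)]),
  (true, [(224, 1), (245, 1), (246, 1), (268, 1), (275, 1), (276, 1), (289, 1), (290, 1), (311, 1), (312, 1), (334, 1), (341, 1), (342, 1), (343, 1), (344, 1), (345, 1), (355, 1), (363, 1), (364, 1), (365, 1), (368, 1), (378, 1), (389, 1), (390, 1), (391, 1), (411, 1), (430, 1), (432, 1), (435, 1), (436, 1), (437, 1), (443, 1), (452, 1), (454, 1), (456, 1), (458, 1), (460, 1), (473, 1), (474, 1), (475, 1), (476, 1), (479, 1), (481, 1), (483, 1)]),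
  (true, [(225, 1), (311, 1), (313, 1), (335, 1), (344, 1), (345, 1), (355, 1), (357, 1), (379, 1), (388, 1), (389, 1), (391, 1), (401, 1), (410, 1), (411, 1), (413, 1), (414, 1), (423, 1), (432, 1), (433, 1), (434, 1), (435, 1), (436, 1), (437, 1), (445, 1), (454, 1), (455, 1), (456, 1), (457, 1), (458, 1), (459, 1), (460, 1), (476, 1), (483, 1)]),
  (true, [(268, 1), (276, 1), (334, 1), (342, 1), (345, 1), (356, 1), (364, 1), (367, 1), (368, 1), (434, 1), (437, 1), (456, 1), (459, 1), (460, 1), (466, 1), (474, 1), (477, 1), (478, 1), (483, 1)]),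
  (true, [(274, 1), (276, 1), (340, 1), (342, 1), (345, 1), (362, 1), (364, 1), (367, 1), (368, 1), (472, 1), (474, 1), (477, 1), (478, 1), (483, 1)]),
  (true, [(225, 1), (264, 1), (269, 1), (330, 1), (335, 1), (342, 1), (352, 1), (357, 1), (386, 1), (408, 1), (430, 1), (437, 1), (452, 1), (459, 1), (460, 1), (462, 1), (466, 1), (477, 1), (478, 1), (479, 1), (480, 1), (481, 1), (482, 1)]),
  (true, [(246, 1), (265, 1), (275, 1), (290, 1), (298, 1), (312, 1), (320, 1), (331, 1), (341, 1), (343, 1), (344, 1), (353, 1), (356, 1), (363, 1), (364, 1), (365, 1), (366, 1), (367, 1), (410, 1), (412, 1), (413, 1), (431, 1), (433, 1), (435, 1), (436, 1), (437, 1), (444, 1), (452, 1), (453, 1), (454, 1), (457, 1), (459, 1), (460, 1), (463, 1), (473, 1), (475, 1), (476, 1), (478, 1), (479, 1), (480, 1)]),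
  (true, [(266, 1), (312, 1), (320, 1), (332, 1), (344, 1), (354, 1), (356, 1), (364, 1), (366, 1), (367, 1), (389, 1), (411, 1), (434, 1), (437, 1), (456, 1), (459, 1), (460, 1), (464, 1), (476, 1), (478, 1), (479, 1), (480, 1), (481, 1), (482, 1)]),
  (true, [(267, 1), (333, 1), (355, 1), (434, 1), (437, 1), (456, 1), (459, 1), (460, 1), (465, 1)]),
  (true, [(335, 1), (345, 1), (379, 1), (389, 1), (391, 1), (401, 1), (411, 1), (413, 1), (414, 1), (423, 1), (433, 1), (435, 1), (436, 1), (437, 1), (445, 1), (455, 1), (457, 1), (458, 1), (459, 1), (460, 1), (467, 1), (477, 1), (479, 1), (480, 1), (481, 1), (482, 1), (483, 1)]),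
  (true, [(340, 1), (345, 1), (384, 1), (389, 1), (391, 1), (406, 1), (411, 1), (413, 1), (414, 1), (428, 1), (433, 1), (435, 1), (436, 1), (437, 1), (450, 1), (455, 1), (457, 1), (458, 1), (459, 1), (460, 1), (472, 1), (477, 1), (479, 1), (480, 1), (481, 1), (482, 1), (483, 1)]),
  (true, [(330, 1), (374, 1), (396, 1), (418, 1), (440, 1), (462, 1), (467, 1), (477, 1), (480, 1), (481, 1), (482, 1), (483, 1)]),
  (true, [(247, 1), (291, 1), (313, 1), (331, 1), (341, 1), (343, 1), (344, 1), (357, 1), (367, 1), (375, 1), (385, 1), (397, 1), (407, 1), (419, 1), (429, 1), (432, 1), (434, 1), (435, 1), (436, 1), (437, 1), (441, 1), (445, 1), (451, 1), (454, 1), (455, 1), (456, 1), (457, 1), (458, 1), (460, 1), (463, 1), (473, 1), (475, 1), (476, 1), (481, 1), (482, 1)]),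
  (true, [(313, 1), (332, 1), (344, 1), (357, 1), (367, 1), (376, 1), (388, 1), (390, 1), (398, 1), (410, 1), (412, 1), (420, 1), (432, 1), (434, 1), (442, 1), (454, 1), (456, 1), (464, 1), (476, 1), (479, 1), (480, 1), (481, 1), (482, 1)]),
  (true, [(333, 1), (377, 1), (399, 1), (421, 1), (435, 1), (436, 1), (437, 1), (443, 1), (457, 1), (458, 1), (459, 1), (460, 1), (465, 1)]),
  (true, [(269, 1), (334, 1), (335, 1), (342, 1), (357, 1), (367, 1), (378, 1), (386, 1), (389, 1), (390, 1), (400, 1), (408, 1), (411, 1), (412, 1), (422, 1), (430, 1), (435, 1), (436, 1), (444, 1), (452, 1), (457, 1), (458, 1), (466, 1), (467, 1), (474, 1), (478, 1), (479, 1), (480, 1), (481, 1), (482, 1)]),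
  (true, [(292, 1), (299, 1), (402, 1), (409, 1), (414, 1), (458, 1), (460, 1)]),
  (true, [(296, 1), (299, 1), (406, 1), (409, 1), (414, 1)]),
  (true, [(229, 1), (286, 1), (295, 1), (365, 1), (396, 1), (405, 1), (409, 1), (431, 1), (453, 1), (460, 1), (468, 1), (471, 1), (475, 1), (478, 1), (481, 1)]),
  (true, [(229, 1), (248, 1), (251, 1), (287, 1), (292, 1), (297, 1), (314, 1), (317, 1), (321, 1), (358, 1), (363, 1), (368, 1), (397, 1), (409, 1), (410, 1), (412, 1), (414, 1), (429, 1), (431, 1), (432, 1), (446, 1), (451, 1), (453, 1), (454, 1), (458, 1)]),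
  (true, [(288, 1), (314, 1), (321, 1), (358, 1), (365, 1), (398, 1), (410, 1), (434, 1), (436, 1), (456, 1), (460, 1)]),
  (true, [(227, 1), (229, 1), (289, 1), (293, 1), (295, 1), (365, 1), (399, 1), (403, 1), (405, 1), (409, 1), (431, 1), (436, 1), (453, 1), (459, 1), (460, 1)]),
  (true, [(228, 1), (229, 1), (270, 1), (272, 1), (273, 1), (290, 1), (295, 1), (299, 1), (336, 1), (338, 1), (339, 1), (343, 1), (358, 1), (360, 1), (367, 1), (400, 1), (405, 1), (414, 1), (427, 1), (433, 1), (437, 1), (449, 1), (452, 1), (455, 1), (458, 1), (468, 1), (470, 1), (471, 1), (475, 1), (481, 1)]),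
  (true, [(229, 1), (291, 1), (295, 1), (336, 1), (339, 1), (343, 1), (361, 1), (365, 1), (367, 1), (368, 1), (380, 1), (383, 1), (387, 1), (401, 1), (402, 1), (405, 1), (414, 1), (424, 1), (427, 1), (433, 1), (434, 1), (437, 1), (446, 1), (458, 1), (459, 1), (468, 1), (471, 1), (475, 1), (480, 1), (481, 1), (482, 1)]),
  (true, [(469, 1)]),
  (true, [(228, 1), (249, 1), (250, 1), (293, 1), (297, 1), (299, 1), (315, 1), (316, 1), (359, 1), (363, 1), (366, 1), (368, 1), (409, 1), (412, 1), (429, 1), (431, 1), (434, 1), (436, 1), (447, 1), (453, 1)]),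
  (true, [(229, 1), (315, 1), (317, 1), (359, 1), (366, 1), (368, 1), (405, 1), (410, 1), (412, 1), (414, 1), (427, 1), (432, 1), (434, 1), (436, 1), (437, 1), (449, 1), (454, 1), (458, 1), (459, 1), (460, 1)]),
  (true, [(229, 1), (271, 1), (273, 1), (337, 1), (339, 1), (359, 1), (364, 1), (368, 1), (405, 1), (408, 1), (412, 1), (414, 1), (430, 1), (433, 1), (452, 1), (456, 1), (459, 1), (469, 1), (471, 1)]),
  (true, [(337, 1), (381, 1), (403, 1), (425, 1), (435, 1), (437, 1), (447, 1), (457, 1), (458, 1), (459, 1), (460, 1), (469, 1)]),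
  (true, [(293, 1), (403, 1), (458, 1), (460, 1)]),
  (true, [(294, 1), (299, 1), (360, 1), (365, 1), (368, 1), (426, 1), (431, 1), (434, 1), (437, 1), (456, 1), (460, 1)]),
  (true, [(296, 1), (299, 1), (362, 1), (365, 1), (368, 1), (428, 1), (431, 1), (434, 1), (437, 1)]),
  (true, [(229, 1), (286, 1), (295, 1), (352, 1), (361, 1), (365, 1), (409, 1), (418, 1), (427, 1), (431, 1), (453, 1), (460, 1), (470, 1), (471, 1), (475, 1), (480, 1)]),
  (true, [(250, 1), (287, 1), (294, 1), (297, 1), (316, 1), (321, 1), (353, 1), (360, 1), (363, 1), (366, 1), (409, 1), (410, 1), (412, 1), (419, 1), (429, 1), (431, 1), (432, 1), (448, 1), (453, 1), (454, 1), (459, 1), (460, 1)]),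
  (true, [(288, 1), (316, 1), (321, 1), (354, 1), (360, 1), (365, 1), (366, 1), (420, 1), (432, 1), (434, 1), (436, 1), (456, 1), (460, 1)]),
  (true, [(229, 1), (289, 1), (295, 1), (355, 1), (361, 1), (365, 1), (409, 1), (421, 1), (427, 1), (431, 1), (434, 1), (453, 1), (456, 1), (459, 1)]),
  (true, [(272, 1), (290, 1), (298, 1), (338, 1), (343, 1), (356, 1), (360, 1), (364, 1), (365, 1), (367, 1), (411, 1), (422, 1), (430, 1), (436, 1), (455, 1), (460, 1), (470, 1), (475, 1), (478, 1), (480, 1), (481, 1), (482, 1)]),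
  (true, [(291, 1), (338, 1), (343, 1), (357, 1), (367, 1), (382, 1), (387, 1), (390, 1), (404, 1), (409, 1), (412, 1), (423, 1), (426, 1), (431, 1), (433, 1), (448, 1), (453, 1), (457, 1), (458, 1), (470, 1), (475, 1), (478, 1), (482, 1)]),
  (true, [(292, 1), (294, 1), (358, 1), (365, 1), (404, 1), (409, 1), (412, 1), (424, 1), (431, 1), (436, 1), (456, 1), (458, 1), (460, 1)]),
  (true, [(293, 1), (359, 1), (425, 1), (456, 1), (460, 1)]),
  (true, [(361, 1), (368, 1), (405, 1), (412, 1), (414, 1), (427, 1), (434, 1), (436, 1), (437, 1), (449, 1), (456, 1), (458, 1), (459, 1), (460, 1)]),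
  (true, [(362, 1), (368, 1), (406, 1), (412, 1), (414, 1), (428, 1), (434, 1), (436, 1), (437, 1), (450, 1), (456, 1), (458, 1), (459, 1), (460, 1)]),
  (true, [(352, 1), (396, 1), (418, 1), (440, 1), (471, 1), (478, 1), (480, 1), (481, 1), (482, 1)]),
  (true, [(251, 1), (295, 1), (317, 1), (353, 1), (361, 1), (363, 1), (365, 1), (366, 1), (397, 1), (407, 1), (419, 1), (429, 1), (441, 1), (449, 1), (451, 1), (454, 1), (458, 1), (459, 1), (460, 1)]),
  (true, [(317, 1), (354, 1), (361, 1), (366, 1), (398, 1), (410, 1), (412, 1), (420, 1), (432, 1), (434, 1), (442, 1), (454, 1), (456, 1)]),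
  (true, [(355, 1), (399, 1), (421, 1), (436, 1), (437, 1), (443, 1), (458, 1), (459, 1), (460, 1)]),
  (true, [(273, 1), (339, 1), (356, 1), (361, 1), (364, 1), (367, 1), (400, 1), (408, 1), (411, 1), (412, 1), (422, 1), (430, 1), (436, 1), (444, 1), (452, 1), (458, 1), (471, 1), (478, 1), (480, 1)]),
  (true, [(339, 1), (357, 1), (367, 1), (383, 1), (390, 1), (401, 1), (405, 1), (411, 1), (412, 1), (413, 1), (423, 1), (427, 1), (433, 1), (434, 1), (435, 1), (445, 1), (449, 1), (455, 1), (456, 1), (457, 1), (471, 1), (478, 1), (480, 1), (481, 1), (482, 1)]),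
  (true, [(295, 1), (358, 1), (365, 1), (402, 1), (405, 1), (409, 1), (412, 1), (424, 1), (431, 1), (436, 1), (446, 1), (453, 1), (458, 1), (460, 1)]),
  (true, [(359, 1), (403, 1), (425, 1), (447, 1), (458, 1), (460, 1)]),
  (true, [(295, 1), (360, 1), (361, 1), (365, 1), (404, 1), (409, 1), (412, 1), (426, 1), (427, 1), (431, 1), (436, 1), (448, 1), (453, 1), (458, 1), (459, 1)]),
  (true, [(308, 1), (322, 1)]),
  (true, [(319, 1), (322, 1)]),
  (true, [(419, 1), (437, 1), (441, 1), (459, 1), (460, 1)]),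
  (true, [(429, 1), (437, 1), (451, 1), (459, 1), (460, 1)]),
  (true, [(244, 1), (309, 1), (310, 1), (418, 1), (420, 1), (432, 1), (440, 1), (442, 1), (454, 1)]),
  (true, [(310, 1)]),
  (true, [(420, 1), (442, 1)]),
  (true, [(267, 1), (276, 1), (421, 1), (430, 1), (437, 1), (443, 1), (452, 1), (459, 1), (460, 1)]),
  (true, [(275, 1), (276, 1), (429, 1), (430, 1), (437, 1), (451, 1), (452, 1), (459, 1), (460, 1)]),
  (true, [(264, 1), (311, 1), (320, 1), (418, 1), (432, 1), (433, 1), (435, 1), (436, 1), (440, 1), (454, 1), (455, 1), (457, 1), (458, 1)]),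
  (true, [(246, 1), (265, 1), (268, 1), (419, 1), (421, 1), (441, 1), (443, 1)]),
  (true, [(247, 1), (266, 1), (269, 1), (386, 1), (408, 1), (420, 1), (423, 1), (430, 1), (437, 1), (442, 1), (445, 1), (452, 1), (459, 1), (460, 1)]),
  (true, [(422, 1), (437, 1), (444, 1), (459, 1), (460, 1)]),
  (true, [(247, 1), (312, 1), (313, 1), (379, 1), (388, 1), (391, 1), (401, 1), (410, 1), (413, 1), (414, 1), (418, 1), (437, 1), (440, 1), (459, 1), (460, 1), (467, 1), (479, 1), (480, 1), (483, 1)]),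
  (true, [(268, 1), (421, 1), (422, 1), (430, 1), (443, 1), (444, 1), (452, 1)]),
  (true, [(379, 1), (391, 1), (401, 1), (413, 1), (414, 1), (423, 1), (435, 1), (436, 1), (437, 1), (445, 1), (457, 1), (458, 1), (459, 1), (460, 1)]),
  (true, [(385, 1), (391, 1), (407, 1), (413, 1), (414, 1), (429, 1), (435, 1), (436, 1), (437, 1), (451, 1), (457, 1), (458, 1), (459, 1), (460, 1)]),
  (true, [(313, 1), (374, 1), (388, 1), (396, 1), (410, 1), (418, 1), (432, 1), (440, 1), (454, 1), (480, 1), (481, 1), (482, 1)]),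
  (true, [(375, 1), (397, 1), (419, 1), (423, 1), (435, 1), (436, 1), (441, 1), (445, 1), (457, 1), (458, 1)]),
  (true, [(376, 1), (398, 1), (420, 1), (442, 1)]),
  (true, [(269, 1), (377, 1), (386, 1), (399, 1), (408, 1), (421, 1), (423, 1), (430, 1), (435, 1), (436, 1), (443, 1), (445, 1), (452, 1), (457, 1), (458, 1)]),
  (true, [(378, 1), (400, 1), (422, 1), (423, 1), (435, 1), (436, 1), (444, 1), (445, 1), (457, 1), (458, 1)]),
  (true, [(358, 1), (368, 1), (424, 1), (434, 1), (437, 1), (459, 1), (460, 1)]),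
  (true, [(363, 1), (368, 1), (429, 1), (434, 1), (437, 1)]),
  (true, [(251, 1), (314, 1), (317, 1), (352, 1), (361, 1), (366, 1), (405, 1), (410, 1), (412, 1), (414, 1), (418, 1), (434, 1), (437, 1), (449, 1), (454, 1), (456, 1), (458, 1), (460, 1)]),
  (true, [(251, 1), (353, 1), (361, 1), (412, 1), (419, 1), (424, 1), (436, 1), (446, 1), (458, 1), (460, 1)]),
  (true, [(354, 1), (420, 1)]),
  (true, [(249, 1), (251, 1), (270, 1), (271, 1), (273, 1), (293, 1), (298, 1), (299, 1), (355, 1), (361, 1), (364, 1), (368, 1), (403, 1), (405, 1), (421, 1), (424, 1), (425, 1), (427, 1), (430, 1), (431, 1), (434, 1), (446, 1), (447, 1), (453, 1), (458, 1), (459, 1), (460, 1)]),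
  (true, [(250, 1), (251, 1), (356, 1), (360, 1), (361, 1), (405, 1), (414, 1), (422, 1), (424, 1), (436, 1), (446, 1), (449, 1), (458, 1), (459, 1), (460, 1)]),
  (true, [(251, 1), (357, 1), (361, 1), (380, 1), (383, 1), (390, 1), (402, 1), (413, 1), (414, 1), (423, 1), (424, 1), (427, 1), (436, 1), (437, 1), (446, 1), (457, 1), (458, 1)]),
  (true, [(293, 1), (299, 1), (403, 1), (409, 1), (414, 1), (425, 1), (431, 1), (436, 1), (437, 1), (447, 1), (453, 1), (459, 1)]),
  (true, [(297, 1), (299, 1), (407, 1), (409, 1), (414, 1), (429, 1), (431, 1), (436, 1), (437, 1), (451, 1), (453, 1), (458, 1), (459, 1), (460, 1)]),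
  (true, [(286, 1), (315, 1), (321, 1), (396, 1), (410, 1), (412, 1), (418, 1), (432, 1), (434, 1), (440, 1), (454, 1), (456, 1), (458, 1), (459, 1)]),
  (true, [(250, 1), (287, 1), (294, 1), (397, 1), (404, 1), (409, 1), (419, 1), (425, 1), (431, 1), (441, 1), (447, 1), (453, 1), (459, 1)]),
  (true, [(251, 1), (288, 1), (295, 1), (398, 1), (405, 1), (409, 1), (420, 1), (427, 1), (431, 1), (442, 1), (449, 1), (453, 1), (460, 1)]),
  (true, [(271, 1), (289, 1), (298, 1), (399, 1), (408, 1), (412, 1), (421, 1), (425, 1), (430, 1), (431, 1), (436, 1), (443, 1), (447, 1), (452, 1), (453, 1), (459, 1), (460, 1)]),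
  (true, [(251, 1), (290, 1), (295, 1), (400, 1), (405, 1), (409, 1), (422, 1), (425, 1), (444, 1), (447, 1), (459, 1), (460, 1)]),
  (true, [(291, 1), (381, 1), (387, 1), (401, 1), (403, 1), (409, 1), (413, 1), (423, 1), (425, 1), (431, 1), (435, 1), (445, 1), (447, 1), (453, 1), (457, 1), (458, 1)]),
  (true, [(292, 1), (359, 1), (365, 1), (402, 1), (412, 1), (424, 1), (425, 1), (431, 1), (434, 1), (436, 1), (446, 1), (456, 1), (458, 1), (460, 1)]),
  (true, [(404, 1), (414, 1)]),
  (true, [(407, 1), (414, 1)]),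
  (true, [(251, 1), (316, 1), (317, 1), (396, 1), (414, 1), (427, 1), (432, 1), (437, 1), (449, 1), (454, 1), (459, 1), (460, 1)]),
  (true, [(397, 1), (426, 1), (436, 1), (448, 1), (458, 1)]),
  (true, [(398, 1)]),
  (true, [(251, 1), (272, 1), (273, 1), (399, 1), (414, 1), (426, 1), (430, 1), (436, 1), (437, 1), (448, 1), (452, 1), (458, 1), (459, 1), (460, 1)]),
  (true, [(400, 1), (426, 1), (436, 1), (448, 1), (458, 1)]),
  (true, [(382, 1), (401, 1), (404, 1), (413, 1), (426, 1), (436, 1), (448, 1), (458, 1)]),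
  (true, [(294, 1), (403, 1), (404, 1), (409, 1), (426, 1), (436, 1), (448, 1), (459, 1)]),
  (true, [(405, 1), (414, 1), (427, 1), (436, 1), (437, 1), (449, 1), (458, 1), (459, 1), (460, 1)]),
  (true, [(407, 1), (414, 1), (429, 1), (436, 1), (437, 1), (451, 1), (458, 1), (459, 1), (460, 1)]),
  (true, [(317, 1), (396, 1), (410, 1), (418, 1), (432, 1), (440, 1), (454, 1)]),
  (true, [(397, 1), (419, 1), (427, 1), (436, 1), (441, 1), (449, 1), (458, 1)]),
  (true, [(273, 1), (399, 1), (408, 1), (421, 1), (427, 1), (430, 1), (436, 1), (443, 1), (449, 1), (452, 1), (458, 1)]),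
  (true, [(383, 1), (401, 1), (405, 1), (413, 1), (423, 1), (427, 1), (435, 1), (445, 1), (449, 1), (457, 1)]),
  (true, [(361, 1), (402, 1), (412, 1), (424, 1), (427, 1), (434, 1), (436, 1), (446, 1), (456, 1), (460, 1)]),
  (true, [(295, 1), (403, 1), (405, 1), (409, 1), (425, 1), (427, 1), (431, 1), (447, 1), (449, 1), (453, 1), (458, 1)]),
  (true, [(318, 1), (473, 1), (476, 1)]),
  (true, [(297, 1), (319, 1), (363, 1), (428, 1), (429, 1), (431, 1), (432, 1), (434, 1), (450, 1), (453, 1), (454, 1), (456, 1), (459, 1)]),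
  (true, [(319, 1), (363, 1)]),
  (true, [(274, 1), (428, 1), (450, 1)]),
  (true, [(275, 1), (341, 1), (363, 1), (428, 1), (430, 1), (433, 1), (434, 1), (450, 1), (452, 1), (455, 1), (456, 1), (473, 1), (481, 1), (482, 1)]),
  (true, [(341, 1), (384, 1), (385, 1), (389, 1), (406, 1), (407, 1), (411, 1), (428, 1), (429, 1), (433, 1), (450, 1), (451, 1), (455, 1), (473, 1), (479, 1), (480, 1), (481, 1), (482, 1)]),
  (true, [(297, 1), (362, 1), (365, 1), (407, 1), (412, 1), (428, 1), (431, 1), (436, 1)]),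
  (true, [(296, 1), (406, 1), (428, 1), (450, 1)]),
  (true, [(363, 1), (406, 1), (407, 1), (412, 1), (428, 1), (429, 1), (434, 1), (450, 1), (451, 1), (456, 1)]),
  (true, [(330, 1), (345, 1), (374, 1), (389, 1), (391, 1), (396, 1), (411, 1), (413, 1), (414, 1), (479, 1), (483, 1)]),
  (true, [(342, 1), (345, 1), (386, 1), (389, 1), (391, 1), (408, 1), (411, 1), (413, 1), (414, 1)]),
  (true, [(430, 1), (437, 1), (452, 1), (459, 1), (460, 1)]),
  (true, [(266, 1), (331, 1), (332, 1), (375, 1), (389, 1), (391, 1), (397, 1), (411, 1), (413, 1), (414, 1), (418, 1), (420, 1), (433, 1), (440, 1), (442, 1), (455, 1), (464, 1), (479, 1), (480, 1), (481, 1), (482, 1), (483, 1)]),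
  (true, [(376, 1), (391, 1), (398, 1), (413, 1), (414, 1)]),
  (true, [(386, 1), (391, 1), (408, 1), (413, 1), (414, 1)]),
  (true, [(332, 1), (374, 1), (376, 1), (389, 1), (396, 1), (398, 1), (411, 1), (479, 1)]),
  (true, [(375, 1), (397, 1), (420, 1), (435, 1), (436, 1), (442, 1), (457, 1), (458, 1)]),
  (true, [(333, 1), (377, 1), (399, 1), (435, 1), (436, 1), (437, 1), (457, 1), (458, 1), (459, 1), (460, 1)]),
  (true, [(268, 1), (421, 1), (422, 1), (443, 1), (444, 1)]),
  (true, [(269, 1), (377, 1), (379, 1), (399, 1), (401, 1), (423, 1), (435, 1), (436, 1), (437, 1), (445, 1), (457, 1), (458, 1), (459, 1), (460, 1)]),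
  (true, [(269, 1), (334, 1), (335, 1), (378, 1), (379, 1), (400, 1), (401, 1), (423, 1), (433, 1), (437, 1), (445, 1), (455, 1), (459, 1), (460, 1)]),
  (true, [(292, 1), (299, 1), (358, 1), (365, 1), (368, 1), (402, 1), (409, 1), (412, 1), (414, 1), (424, 1), (431, 1), (434, 1), (436, 1), (437, 1), (446, 1), (453, 1), (458, 1), (460, 1)]),
  (true, [(298, 1), (299, 1), (364, 1), (365, 1), (368, 1), (408, 1), (409, 1), (412, 1), (414, 1), (430, 1), (431, 1), (434, 1), (436, 1), (437, 1), (452, 1), (453, 1), (456, 1), (458, 1), (459, 1), (460, 1)]),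
  (true, [(273, 1), (286, 1), (295, 1), (336, 1), (339, 1), (343, 1), (352, 1), (367, 1), (380, 1), (383, 1), (387, 1), (396, 1), (402, 1), (405, 1), (409, 1), (411, 1), (413, 1), (418, 1), (427, 1), (431, 1), (435, 1), (436, 1), (437, 1), (440, 1), (449, 1), (453, 1), (455, 1), (456, 1), (457, 1), (458, 1)]),
  (true, [(273, 1), (287, 1), (295, 1), (353, 1), (361, 1), (397, 1), (405, 1), (412, 1), (414, 1), (419, 1), (424, 1), (436, 1), (441, 1), (446, 1), (449, 1), (458, 1), (459, 1), (460, 1)]),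
  (true, [(288, 1), (354, 1), (380, 1), (387, 1), (390, 1), (398, 1), (402, 1), (409, 1), (413, 1), (420, 1), (434, 1), (435, 1), (442, 1), (457, 1), (458, 1), (459, 1), (460, 1)]),
  (true, [(271, 1), (273, 1), (289, 1), (293, 1), (295, 1), (355, 1), (359, 1), (365, 1), (399, 1), (403, 1), (409, 1), (421, 1), (425, 1), (434, 1), (443, 1), (447, 1), (453, 1), (459, 1), (460, 1)]),
  (true, [(272, 1), (273, 1), (290, 1), (294, 1), (295, 1), (356, 1), (360, 1), (361, 1), (400, 1), (404, 1), (409, 1), (422, 1), (426, 1), (434, 1), (436, 1), (444, 1), (448, 1)]),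
  (true, [(273, 1), (291, 1), (295, 1), (357, 1), (361, 1), (401, 1), (405, 1), (423, 1), (424, 1), (434, 1), (436, 1), (445, 1), (446, 1), (449, 1), (460, 1)]),
  (true, [(359, 1), (368, 1), (403, 1), (412, 1), (414, 1), (425, 1), (434, 1), (436, 1), (437, 1), (458, 1), (460, 1)]),
  (true, [(364, 1), (368, 1), (408, 1), (412, 1), (414, 1), (430, 1), (434, 1), (436, 1), (437, 1)]),
  (true, [(337, 1), (352, 1), (367, 1), (381, 1), (390, 1), (396, 1), (403, 1), (411, 1), (412, 1), (413, 1), (418, 1), (433, 1), (436, 1), (437, 1), (457, 1), (458, 1), (459, 1), (460, 1)]),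
  (true, [(272, 1), (353, 1), (360, 1), (397, 1), (404, 1), (412, 1), (419, 1), (425, 1), (447, 1), (448, 1), (460, 1)]),
  (true, [(273, 1), (354, 1), (361, 1), (381, 1), (383, 1), (390, 1), (398, 1), (403, 1), (412, 1), (413, 1), (420, 1), (434, 1), (437, 1), (449, 1), (456, 1), (457, 1), (460, 1)]),
  (true, [(355, 1), (399, 1), (421, 1), (436, 1), (437, 1), (458, 1), (459, 1), (460, 1)]),
  (true, [(273, 1), (356, 1), (361, 1), (400, 1), (405, 1), (422, 1), (427, 1), (434, 1), (456, 1)]),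
  (true, [(357, 1), (401, 1), (423, 1), (425, 1), (434, 1), (436, 1), (447, 1), (456, 1), (458, 1), (459, 1)]),
  (true, [(293, 1), (358, 1), (359, 1), (365, 1), (402, 1), (403, 1), (409, 1), (424, 1), (425, 1), (431, 1), (447, 1)]),
  (true, [(404, 1), (414, 1), (426, 1), (436, 1), (437, 1), (448, 1), (458, 1), (459, 1), (460, 1)]),
  (true, [(408, 1), (414, 1), (430, 1), (436, 1), (437, 1), (452, 1), (458, 1), (459, 1), (460, 1)]),
  (true, [(273, 1), (338, 1), (339, 1), (382, 1), (383, 1), (396, 1), (404, 1), (411, 1), (413, 1), (418, 1), (435, 1), (437, 1), (440, 1), (457, 1), (459, 1), (460, 1)]),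
  (true, [(382, 1), (398, 1), (404, 1), (413, 1), (420, 1), (435, 1), (436, 1), (442, 1), (457, 1), (458, 1)]),
  (true, [(294, 1), (360, 1), (402, 1), (404, 1), (409, 1), (412, 1), (424, 1), (426, 1), (431, 1), (434, 1), (446, 1), (448, 1), (453, 1), (459, 1)]),
  (true, [(360, 1), (403, 1), (404, 1), (412, 1), (425, 1), (426, 1), (434, 1), (447, 1), (456, 1), (459, 1)]),
  (true, [(339, 1), (383, 1), (405, 1), (418, 1), (433, 1), (435, 1), (436, 1), (440, 1), (455, 1), (457, 1), (458, 1)]),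
  (true, [(383, 1), (405, 1), (420, 1), (435, 1), (436, 1), (442, 1), (457, 1), (458, 1)]),
  (true, [(295, 1), (361, 1), (405, 1), (424, 1), (427, 1), (431, 1), (434, 1), (436, 1), (446, 1), (449, 1), (453, 1), (459, 1)]),
  (true, [(361, 1), (405, 1), (425, 1), (427, 1), (434, 1), (436, 1), (447, 1), (456, 1), (458, 1), (459, 1)]),
  (true, [(405, 1), (426, 1), (427, 1), (436, 1), (448, 1), (449, 1), (458, 1)]),
  (true, [(340, 1), (384, 1), (406, 1), (474, 1), (477, 1), (479, 1), (480, 1)]),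
  (true, [(275, 1), (298, 1), (320, 1), (364, 1), (428, 1), (429, 1), (431, 1), (432, 1), (434, 1), (450, 1), (451, 1), (452, 1), (453, 1), (454, 1), (456, 1), (459, 1)]),
  (true, [(320, 1), (364, 1), (384, 1), (388, 1), (390, 1), (406, 1), (410, 1), (412, 1)]),
  (true, [(296, 1), (298, 1), (362, 1), (365, 1), (406, 1), (408, 1), (412, 1), (428, 1), (431, 1), (436, 1), (450, 1), (453, 1), (458, 1)]),
  (true, [(362, 1), (406, 1), (428, 1)]),
  (true, [(364, 1), (408, 1), (428, 1), (430, 1), (434, 1), (436, 1), (450, 1), (452, 1), (456, 1), (458, 1)]),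
  (true, [(320, 1), (341, 1), (344, 1), (385, 1), (388, 1), (407, 1), (410, 1)]),
  (true, [(288, 1), (353, 1), (354, 1), (396, 1), (397, 1), (398, 1), (414, 1), (419, 1), (434, 1), (436, 1), (437, 1), (440, 1), (442, 1), (456, 1)]),
  (true, [(354, 1), (396, 1), (398, 1), (412, 1), (418, 1), (420, 1), (434, 1)]),
  (true, [(401, 1), (419, 1), (436, 1), (441, 1), (445, 1), (458, 1), (459, 1)]),
  (true, [(362, 1), (406, 1), (428, 1), (475, 1), (478, 1), (480, 1), (481, 1)]),
  (true, [(333, 1), (345, 1), (377, 1), (389, 1), (391, 1), (399, 1), (411, 1), (413, 1), (414, 1), (435, 1), (436, 1), (437, 1), (457, 1), (458, 1), (459, 1), (460, 1)]),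
  (true, [(312, 1), (331, 1), (334, 1), (375, 1), (378, 1), (389, 1), (397, 1), (400, 1), (411, 1), (433, 1), (437, 1), (455, 1), (459, 1), (460, 1), (477, 1), (481, 1), (482, 1)]),
  (true, [(313, 1), (332, 1), (335, 1), (376, 1), (379, 1), (398, 1), (401, 1), (477, 1)]),
  (true, [(0, 1), (66, 1), (110, 1), (113, 1), (115, 1), (154, 1), (159, 1), (198, 1), (201, 1), (203, 1), (205, 1), (207, 1), (267, 1), (271, 1), (276, 1), (289, 1), (293, 1), (298, 1), (299, 1), (359, 1), (365, 1), (368, 1), (399, 1), (408, 1), (412, 1), (425, 1), (431, 1), (434, 1), (437, 1), (456, 1), (458, 1), (459, 1)]),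
  (true, [(66, 1), (110, 1), (113, 1), (154, 1), (159, 1), (198, 1), (201, 1), (205, 1), (269, 1), (273, 1), (291, 1), (295, 1), (377, 1), (381, 1), (386, 1), (387, 1), (401, 1), (405, 1), (413, 1), (421, 1), (425, 1), (435, 1), (436, 1), (437, 1), (459, 1)]),
  (true, [(69, 1), (113, 1), (157, 1), (159, 1), (161, 1), (201, 1), (205, 1), (379, 1), (383, 1), (391, 1), (423, 1), (427, 1), (435, 1), (437, 1)]),
  (true, [(110, 1), (157, 1), (198, 1), (201, 1), (205, 1), (269, 1), (273, 1), (313, 1), (317, 1), (335, 1), (339, 1), (374, 1), (377, 1), (379, 1), (386, 1), (388, 1), (389, 1), (418, 1), (421, 1), (423, 1), (427, 1), (430, 1), (432, 1), (433, 1), (437, 1), (449, 1), (459, 1), (460, 1), (465, 1), (474, 1), (476, 1), (479, 1)]),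
  (true, [(220, 1), (225, 1), (229, 1), (242, 1), (247, 1), (251, 1), (269, 1), (273, 1), (274, 1), (275, 1), (286, 1), (291, 1), (296, 1), (297, 1), (298, 1), (308, 1), (311, 1), (315, 1), (320, 1), (330, 1), (335, 1), (341, 1), (342, 1), (343, 1), (345, 1), (361, 1), (363, 1), (365, 1), (367, 1), (374, 1), (377, 1), (379, 1), (383, 1), (385, 1), (386, 1), (387, 1), (388, 1), (389, 1), (390, 1), (391, 1), (399, 1), (406, 1), (407, 1), (409, 1), (411, 1), (412, 1), (423, 1), (425, 1), (431, 1), (432, 1), (433, 1), (440, 1), (443, 1), (452, 1), (454, 1), (455, 1), (458, 1), (459, 1), (465, 1), (467, 1), (474, 1), (476, 1), (478, 1), (482, 1), (490, 1), (492, 1), (493, 1), (497, 1), (498, 1)]),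
  (true, [(223, 1), (227, 1), (245, 1), (249, 1), (269, 1), (271, 1), (273, 1), (289, 1), (293, 1), (295, 1), (311, 1), (315, 1), (320, 1), (321, 1), (333, 1), (335, 1), (337, 1), (339, 1), (343, 1), (359, 1), (364, 1), (367, 1), (368, 1), (377, 1), (384, 1), (385, 1), (386, 1), (388, 1), (391, 1), (405, 1), (408, 1), (410, 1), (411, 1), (414, 1), (423, 1), (428, 1), (429, 1), (430, 1), (431, 1), (433, 1), (434, 1), (436, 1), (443, 1), (449, 1), (454, 1), (456, 1), (458, 1), (474, 1), (477, 1), (479, 1), (480, 1), (490, 1), (493, 1), (497, 1), (498, 1)]),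
  (true, [(220, 1), (223, 1), (225, 1), (227, 1), (229, 1), (242, 1), (245, 1), (247, 1), (249, 1), (251, 1), (273, 1), (274, 1), (275, 1), (286, 1), (289, 1), (291, 1), (293, 1), (295, 1), (308, 1), (313, 1), (315, 1), (318, 1), (319, 1), (320, 1), (321, 1), (330, 1), (333, 1), (335, 1), (339, 1), (340, 1), (342, 1), (343, 1), (344, 1), (345, 1), (352, 1), (361, 1), (363, 1), (364, 1), (365, 1), (367, 1), (368, 1), (379, 1), (381, 1), (384, 1), (390, 1), (391, 1), (399, 1), (409, 1), (412, 1), (418, 1), (425, 1), (427, 1), (428, 1), (429, 1), (434, 1), (435, 1), (436, 1), (437, 1), (445, 1), (454, 1), (456, 1), (458, 1), (474, 1), (476, 1), (480, 1), (483, 1), (491, 1), (493, 1), (494, 1), (495, 1), (497, 1), (498, 1)]),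
  (true, [(362, 1), (363, 1), (365, 1), (366, 1), (367, 1), (368, 1), (384, 1), (385, 1), (387, 1), (388, 1), (389, 1), (391, 1), (428, 1), (429, 1), (431, 1), (432, 1), (433, 1), (434, 1), (437, 1), (450, 1), (451, 1), (453, 1), (454, 1), (455, 1), (457, 1), (460, 1)]),
  (true, [(242, 1), (247, 1), (251, 1), (269, 1), (273, 1), (275, 1), (286, 1), (291, 1), (297, 1), (298, 1), (308, 1), (320, 1), (344, 1), (345, 1), (352, 1), (357, 1), (364, 1), (365, 1), (366, 1), (367, 1), (374, 1), (379, 1), (381, 1), (386, 1), (387, 1), (388, 1), (391, 1), (396, 1), (399, 1), (401, 1), (407, 1), (408, 1), (409, 1), (410, 1), (411, 1), (412, 1), (413, 1), (414, 1), (421, 1), (425, 1), (427, 1), (433, 1), (440, 1), (445, 1), (449, 1), (452, 1), (453, 1), (454, 1), (457, 1), (458, 1), (462, 1), (474, 1), (475, 1), (477, 1), (478, 1), (481, 1), (482, 1), (490, 1), (492, 1)]),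
  (true, [(245, 1), (249, 1), (269, 1), (271, 1), (273, 1), (289, 1), (293, 1), (295, 1), (311, 1), (313, 1), (315, 1), (317, 1), (320, 1), (321, 1), (335, 1), (337, 1), (339, 1), (355, 1), (364, 1), (368, 1), (377, 1), (379, 1), (381, 1), (383, 1), (385, 1), (388, 1), (391, 1), (399, 1), (405, 1), (410, 1), (411, 1), (423, 1), (427, 1), (429, 1), (430, 1), (433, 1), (434, 1), (436, 1), (437, 1), (443, 1), (453, 1), (454, 1), (456, 1), (458, 1), (465, 1), (467, 1), (474, 1), (475, 1), (478, 1), (482, 1), (490, 1)]),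
  (true, [(242, 1), (245, 1), (247, 1), (249, 1), (251, 1), (273, 1), (275, 1), (286, 1), (289, 1), (291, 1), (293, 1), (295, 1), (311, 1), (313, 1), (315, 1), (317, 1), (319, 1), (320, 1), (321, 1), (339, 1), (341, 1), (343, 1), (355, 1), (357, 1), (359, 1), (364, 1), (365, 1), (366, 1), (374, 1), (377, 1), (379, 1), (385, 1), (386, 1), (387, 1), (388, 1), (389, 1), (396, 1), (401, 1), (408, 1), (412, 1), (414, 1), (421, 1), (427, 1), (429, 1), (437, 1), (440, 1), (443, 1), (445, 1), (447, 1), (452, 1), (454, 1), (455, 1), (460, 1), (465, 1), (467, 1), (471, 1), (474, 1), (475, 1), (476, 1), (477, 1), (479, 1), (480, 1), (481, 1), (482, 1), (491, 1), (495, 1)]),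
  (true, [(269, 1), (271, 1), (291, 1), (293, 1), (335, 1), (337, 1), (357, 1), (359, 1), (365, 1), (367, 1), (374, 1), (377, 1), (383, 1), (386, 1), (388, 1), (389, 1), (401, 1), (403, 1), (409, 1), (411, 1), (418, 1), (421, 1), (423, 1), (425, 1), (427, 1), (430, 1), (432, 1), (434, 1), (436, 1), (453, 1), (455, 1), (458, 1), (460, 1), (465, 1), (467, 1), (469, 1), (471, 1), (474, 1), (476, 1), (477, 1), (478, 1), (479, 1), (480, 1), (494, 1)]),
  (true, [(252, 1), (274, 1), (275, 1), (297, 1), (298, 1), (319, 1), (320, 1), (341, 1), (342, 1), (363, 1), (364, 1), (384, 1), (385, 1), (387, 1), (388, 1), (389, 1), (390, 1), (412, 1), (413, 1), (429, 1), (430, 1), (434, 1), (436, 1), (450, 1), (451, 1), (453, 1), (454, 1), (455, 1), (456, 1), (458, 1)]),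
  (true, [(230, 1), (274, 1), (276, 1), (296, 1), (298, 1), (299, 1), (318, 1), (320, 1), (321, 1), (322, 1), (340, 1), (342, 1), (343, 1), (344, 1), (345, 1), (362, 1), (364, 1), (365, 1), (366, 1), (367, 1), (368, 1), (384, 1), (386, 1), (387, 1), (388, 1), (389, 1), (390, 1), (391, 1), (406, 1), (408, 1), (409, 1), (410, 1), (411, 1), (412, 1), (413, 1), (436, 1), (437, 1), (450, 1), (452, 1), (453, 1), (454, 1), (455, 1), (456, 1), (457, 1), (458, 1), (460, 1)]),
  (true, [(0, 1), (23, 1), (66, 1), (69, 1), (110, 1), (111, 1), (113, 1), (133, 1), (137, 1), (138, 1), (198, 1), (199, 1), (201, 1), (203, 1), (204, 1), (207, 1), (264, 1), (267, 1), (269, 1), (273, 1), (276, 1), (308, 1), (311, 1), (313, 1), (317, 1), (320, 1), (322, 1), (333, 1), (344, 1), (345, 1), (374, 1), (379, 1), (383, 1), (386, 1), (389, 1), (399, 1), (410, 1), (411, 1), (413, 1), (414, 1), (418, 1), (421, 1), (423, 1), (430, 1), (432, 1), (435, 1), (436, 1), (437, 1), (440, 1), (443, 1), (445, 1), (452,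 1), (454, 1), (457, 1), (458, 1), (459, 1), (460, 1), (465, 1), (467, 1), (479, 1), (483, 1)]),
  (true, [(22, 1), (44, 1), (45, 1), (67, 1), (88, 1), (89, 1), (90, 1), (91, 1), (92, 1), (111, 1), (113, 1), (114, 1), (115, 1), (134, 1), (136, 1), (176, 1), (178, 1), (179, 1), (180, 1), (184, 1), (198, 1), (204, 1), (265, 1), (269, 1), (272, 1), (273, 1), (309, 1), (313, 1), (316, 1), (317, 1), (374, 1), (375, 1), (376, 1), (377, 1), (378, 1), (379, 1), (382, 1), (386, 1), (388, 1), (396, 1), (398, 1), (399, 1), (400, 1), (405, 1), (408, 1), (413, 1), (414, 1), (419, 1), (426, 1), (430, 1), (432, 1), (436, 1), (437, 1), (441, 1), (448, 1), (452, 1), (454, 1), (458, 1), (459, 1), (460, 1), (464, 1), (465, 1), (466, 1), (467, 1), (470, 1), (474, 1), (476, 1), (479, 1), (483, 1), (553, 1)]),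
  (true, [(23, 1), (45, 1), (89, 1), (177, 1), (178, 1), (180, 1), (184, 1), (199, 1), (206, 1), (375, 1), (376, 1), (378, 1), (382, 1), (383, 1), (391, 1), (397, 1), (398, 1), (400, 1), (404, 1), (405, 1), (413, 1), (414, 1)]),
  (true, [(22, 1), (44, 1), (67, 1), (68, 1), (89, 1), (91, 1), (92, 1), (110, 1), (111, 1), (112, 1), (115, 1), (133, 1), (136, 1), (137, 1), (177, 1), (181, 1), (184, 1), (198, 1), (201, 1), (203, 1), (204, 1), (206, 1), (265, 1), (266, 1), (269, 1), (273, 1), (309, 1), (310, 1), (313, 1), (317, 1), (331, 1), (332, 1), (374, 1), (377, 1), (378, 1), (379, 1), (386, 1), (389, 1), (391, 1), (396, 1), (397, 1), (398, 1), (399, 1), (400, 1), (405, 1), (408, 1), (411, 1), (414, 1), (419, 1), (420, 1), (421, 1), (422, 1), (423, 1), (427, 1), (432, 1), (433, 1), (436, 1), (440, 1), (441, 1), (445, 1), (452, 1), (455, 1), (457, 1), (458, 1), (459, 1), (462, 1), (463, 1), (467, 1), (474, 1), (476, 1), (479, 1), (480, 1), (481, 1), (482, 1), (483, 1), (553, 1)]),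
  (true, [(22, 1), (44, 1), (45, 1), (46, 1), (67, 1), (88, 1), (89, 1), (91, 1), (111, 1), (113, 1), (114, 1), (115, 1), (134, 1), (136, 1), (176, 1), (177, 1), (178, 1), (179, 1), (181, 1), (198, 1), (202, 1), (203, 1), (204, 1), (207, 1), (265, 1), (269, 1), (272, 1), (273, 1), (309, 1), (313, 1), (316, 1), (317, 1), (374, 1), (375, 1), (377, 1), (378, 1), (379, 1), (386, 1), (388, 1), (396, 1), (399, 1), (400, 1), (404, 1), (405, 1), (408, 1), (413, 1), (414, 1), (419, 1), (423, 1), (426, 1), (427, 1), (430, 1), (432, 1), (436, 1), (437, 1), (452, 1), (454, 1), (457, 1), (459, 1), (460, 1), (465, 1), (466, 1), (467, 1), (474, 1), (476, 1), (480, 1), (483, 1), (553, 1)]),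
  (true, [(22, 1), (44, 1), (45, 1), (46, 1), (67, 1), (88, 1), (90, 1), (91, 1), (111, 1), (112, 1), (113, 1), (114, 1), (115, 1), (134, 1), (136, 1), (176, 1), (177, 1), (179, 1), (181, 1), (198, 1), (199, 1), (202, 1), (203, 1), (204, 1), (206, 1), (207, 1), (265, 1), (269, 1), (272, 1), (273, 1), (309, 1), (313, 1), (316, 1), (317, 1), (374, 1), (377, 1), (382, 1), (386, 1), (388, 1), (396, 1), (399, 1), (404, 1), (408, 1), (414, 1), (419, 1), (422, 1), (423, 1), (426, 1), (430, 1), (432, 1), (436, 1), (437, 1), (444, 1), (449, 1), (452, 1), (454, 1), (457, 1), (459, 1), (460, 1), (463, 1), (465, 1), (470, 1), (474, 1), (476, 1), (479, 1), (483, 1), (553, 1)]),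
  (true, [(44, 1), (68, 1), (88, 1), (91, 1), (112, 1), (133, 1), (137, 1), (177, 1), (181, 1), (182, 1), (198, 1), (200, 1), (201, 1), (202, 1), (204, 1), (206, 1), (207, 1), (266, 1), (268, 1), (273, 1), (310, 1), (312, 1), (317, 1), (332, 1), (377, 1), (383, 1), (388, 1), (389, 1), (391, 1), (396, 1), (398, 1), (400, 1), (401, 1), (405, 1), (408, 1), (411, 1), (414, 1), (418, 1), (420, 1), (421, 1), (430, 1), (435, 1), (436, 1), (440, 1), (442, 1), (443, 1), (452, 1), (457, 1), (458, 1), (464, 1), (465, 1), (483, 1)]),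
  (true, [(22, 1), (44, 1), (45, 1), (46, 1), (67, 1), (88, 1), (89, 1), (90, 1), (91, 1), (111, 1), (113, 1), (115, 1), (134, 1), (136, 1), (176, 1), (178, 1), (179, 1), (180, 1), (198, 1), (200, 1), (204, 1), (206, 1), (207, 1), (265, 1), (269, 1), (272, 1), (273, 1), (309, 1), (313, 1), (316, 1), (317, 1), (374, 1), (375, 1), (377, 1), (379, 1), (382, 1), (383, 1), (386, 1), (388, 1), (396, 1), (397, 1), (399, 1), (401, 1), (404, 1), (405, 1), (408, 1), (414, 1), (422, 1), (423, 1), (430, 1), (432, 1), (435, 1), (437, 1), (444, 1), (445, 1), (452, 1), (454, 1), (457, 1), (459, 1), (460, 1), (465, 1), (467, 1), (470, 1), (471, 1), (474, 1), (476, 1), (479, 1), (483, 1), (553, 1)]),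
  (true, [(220, 1), (222, 1), (223, 1), (224, 1), (225, 1), (226, 1), (228, 1), (248, 1), (250, 1), (269, 1), (274, 1), (292, 1), (299, 1), (311, 1), (312, 1), (313, 1), (314, 1), (316, 1), (318, 1), (330, 1), (332, 1), (333, 1), (335, 1), (336, 1), (338, 1), (344, 1), (345, 1), (355, 1), (356, 1), (363, 1), (365, 1), (366, 1), (367, 1), (378, 1), (380, 1), (382, 1), (384, 1), (386, 1), (388, 1), (390, 1), (391, 1), (400, 1), (404, 1), (406, 1), (407, 1), (408, 1), (409, 1), (410, 1), (412, 1), (413, 1), (414, 1), (418, 1), (420, 1), (421, 1), (422, 1), (423, 1), (429, 1), (430, 1), (431, 1), (433, 1), (436, 1), (437, 1), (440, 1), (442, 1), (443, 1), (444, 1), (445, 1), (446, 1), (452, 1), (454, 1), (456, 1), (458, 1), (460, 1), (462, 1), (464, 1), (476, 1), (481, 1), (482, 1), (561, 1), (563, 1), (565, 1)]),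
  (true, [(222, 1), (224, 1), (225, 1), (228, 1), (229, 1), (250, 1), (251, 1), (269, 1), (294, 1), (297, 1), (312, 1), (313, 1), (316, 1), (317, 1), (321, 1), (332, 1), (334, 1), (338, 1), (339, 1), (343, 1), (344, 1), (345, 1), (356, 1), (361, 1), (365, 1), (366, 1), (379, 1), (382, 1), (383, 1), (386, 1), (387, 1), (388, 1), (389, 1), (390, 1), (401, 1), (407, 1), (408, 1), (409, 1), (411, 1), (412, 1), (414, 1), (420, 1), (422, 1), (427, 1), (431, 1), (433, 1), (435, 1), (437, 1), (442, 1), (444, 1), (448, 1), (451, 1), (453, 1), (455, 1), (457, 1), (458, 1), (460, 1), (464, 1), (476, 1), (479, 1), (480, 1), (483, 1), (558, 1), (563, 1), (564, 1)]),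
  (true, [(222, 1), (224, 1), (229, 1), (251, 1), (295, 1), (312, 1), (317, 1), (332, 1), (334, 1), (339, 1), (342, 1), (356, 1), (363, 1), (365, 1), (367, 1), (368, 1), (383, 1), (384, 1), (386, 1), (388, 1), (389, 1), (406, 1), (407, 1), (408, 1), (410, 1), (411, 1), (412, 1), (414, 1), (420, 1), (422, 1), (429, 1), (430, 1), (432, 1), (435, 1), (442, 1), (444, 1), (449, 1), (451, 1), (452, 1), (455, 1), (456, 1), (464, 1), (474, 1), (477, 1), (481, 1), (482, 1), (483, 1), (561, 1)]),
  (true, [(242, 1), (243, 1), (245, 1), (248, 1), (264, 1), (267, 1), (275, 1), (286, 1), (287, 1), (289, 1), (292, 1), (308, 1), (309, 1), (313, 1), (314, 1), (317, 1), (319, 1), (330, 1), (342, 1), (343, 1), (353, 1), (355, 1), (357, 1), (358, 1), (365, 1), (367, 1), (368, 1), (375, 1), (377, 1), (385, 1), (389, 1), (390, 1), (396, 1), (397, 1), (399, 1), (401, 1), (408, 1), (409, 1), (411, 1), (413, 1), (421, 1), (429, 1), (432, 1), (433, 1), (434, 1), (436, 1), (441, 1), (445, 1), (446, 1),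 (451, 1), (452, 1), (453, 1), (454, 1), (458, 1), (462, 1), (463, 1), (467, 1), (474, 1), (476, 1), (477, 1), (479, 1), (480, 1), (481, 1), (483, 1), (561, 1), (562, 1), (563, 1)]),
  (true, [(242, 1), (243, 1), (244, 1), (245, 1), (246, 1), (248, 1), (250, 1), (251, 1), (264, 1), (265, 1), (266, 1), (267, 1), (275, 1), (286, 1), (287, 1), (288, 1), (289, 1), (290, 1), (292, 1), (294, 1), (295, 1), (308, 1), (312, 1), (314, 1), (316, 1), (317, 1), (319, 1), (330, 1), (342, 1), (343, 1), (353, 1), (354, 1), (355, 1), (356, 1), (358, 1), (365, 1), (367, 1), (368, 1), (375, 1), (376, 1), (378, 1), (388, 1), (389, 1), (396, 1), (397, 1), (398, 1), (399, 1), (400, 1), (402, 1), (407, 1), (408, 1), (409, 1), (411, 1), (412, 1), (413, 1), (419, 1), (421, 1), (427, 1), (429, 1), (431, 1), (432, 1), (433, 1), (435, 1), (437, 1), (442, 1), (443, 1), (444, 1), (452, 1), (453, 1), (456, 1), (458, 1), (459, 1), (462, 1), (466, 1), (473, 1), (474, 1), (475, 1), (476, 1), (477, 1), (479, 1),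 (480, 1), (481, 1), (482, 1), (483, 1), (561, 1), (562, 1), (565, 1)]),
  (true, [(244, 1), (246, 1), (247, 1), (250, 1), (251, 1), (266, 1), (268, 1), (269, 1), (288, 1), (290, 1), (291, 1), (294, 1), (295, 1), (310, 1), (312, 1), (313, 1), (316, 1), (317, 1), (332, 1), (334, 1), (335, 1), (360, 1), (361, 1), (378, 1), (382, 1), (383, 1), (386, 1), (389, 1), (391, 1), (398, 1), (400, 1), (401, 1), (404, 1), (405, 1), (408, 1), (411, 1), (412, 1), (413, 1), (414, 1), (422, 1), (423, 1), (427, 1), (432, 1), (433, 1), (436, 1), (437, 1), (445, 1), (448, 1), (454, 1), (455, 1), (457, 1), (458, 1), (460, 1), (464, 1), (467, 1), (470, 1), (471, 1), (479, 1), (563, 1), (564, 1), (565, 1)]),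
  (true, [(244, 1), (246, 1), (251, 1), (266, 1), (268, 1), (288, 1), (290, 1), (295, 1), (310, 1), (312, 1), (317, 1), (332, 1), (334, 1), (361, 1), (378, 1), (383, 1), (385, 1), (386, 1), (389, 1), (391, 1), (398, 1), (400, 1), (405, 1), (407, 1), (408, 1), (409, 1), (410, 1), (411, 1), (412, 1), (413, 1), (422, 1), (430, 1), (434, 1), (449, 1), (452, 1), (454, 1), (457, 1), (458, 1), (460, 1), (464, 1), (471, 1), (477, 1), (481, 1), (482, 1), (563, 1), (565, 1)]),
  (true, [(242, 1), (243, 1), (244, 1), (245, 1), (246, 1), (251, 1), (268, 1), (269, 1), (270, 1), (275, 1), (286, 1), (287, 1), (288, 1), (289, 1), (290, 1), (291, 1), (292, 1), (295, 1), (308, 1), (319, 1), (330, 1), (331, 1), (332, 1), (333, 1), (334, 1), (335, 1), (336, 1), (343, 1), (352, 1), (356, 1), (361, 1), (365, 1), (366, 1), (367, 1), (374, 1), (375, 1), (379, 1), (380, 1), (383, 1), (385, 1), (388, 1), (389, 1), (390, 1), (396, 1), (399, 1), (401, 1), (402, 1), (407, 1), (408, 1), (412, 1), (414, 1),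 (418, 1), (420, 1), (422, 1), (423, 1), (424, 1), (427, 1), (429, 1), (430, 1), (431, 1), (432, 1), (433, 1), (434, 1), (445, 1), (446, 1), (449, 1), (455, 1), (457, 1), (460, 1), (462, 1), (463, 1), (465, 1), (466, 1), (471, 1), (478, 1), (483, 1), (558, 1), (563, 1)]),
  (true, [(66, 1), (67, 1), (110, 1), (111, 1), (113, 1), (115, 1), (132, 1), (137, 1), (157, 1), (158, 1), (159, 1), (176, 1), (177, 1), (179, 1), (181, 1), (183, 1), (184, 1), (199, 1), (201, 1), (206, 1), (248, 1), (253, 1), (264, 1), (269, 1), (275, 1), (308, 1), (313, 1), (319, 1), (335, 1), (336, 1), (341, 1), (342, 1), (345, 1), (367, 1), (379, 1), (388, 1), (389, 1), (390, 1), (391, 1), (401, 1), (410, 1), (411, 1), (413, 1), (414, 1), (418, 1), (423, 1), (429, 1), (432, 1), (433, 1), (435, 1), (454, 1), (460, 1), (473, 1), (477, 1), (482, 1), (483, 1), (616, 1), (617, 1), (618, 1)]),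
  (true, [(67, 1), (111, 1), (113, 1), (115, 1), (177, 1), (179, 1), (181, 1), (184, 1), (202, 1), (206, 1), (253, 1), (264, 1), (269, 1), (275, 1), (335, 1), (341, 1), (342, 1), (345, 1), (352, 1), (357, 1), (363, 1), (368, 1), (374, 1), (385, 1), (389, 1), (391, 1), (401, 1), (411, 1), (412, 1), (414, 1), (435, 1), (436, 1), (437, 1), (440, 1), (445, 1), (451, 1), (456, 1), (458, 1), (460, 1), (467, 1), (473, 1), (479, 1), (480, 1), (481, 1), (483, 1), (616, 1), (617, 1), (618, 1)])]

theorem eqs_lit : (cert.eqs == eqsLit) = true := by decide +kernel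

theorem base_ok : (Nat.blt 1 cert.p && eqsLit.all (·.1) && cert.shapesOK) = true := by decide +kernel

theorem sel0 : cert.rowOK eqsLit 0 = true := by decide +kernel

theorem sel1 : cert.rowOK eqsLit 1 = true := by decide +kernel

theorem sel2 : cert.rowOK eqsLit 2 = true := by decide +kernel

theorem sel3 : cert.rowOK eqsLit 3 = true := by decide +kernel

theorem sel4 : cert.rowOK eqsLit 4 = true := by decide +kernel

theorem sel5 : cert.rowOK eqsLit 5 = true := by decide +kernel

theorem sel6 : cert.rowOK eqsLit 6 = true := by decide +kernel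

theorem sel7 : cert.rowOK eqsLit 7 = true := by decide +kernel

theorem sel8 : cert.rowOK eqsLit 8 = true := by decide +kernel

theorem sel9 : cert.rowOK eqsLit 9 = true := by decide +kernel

theorem sel10 : cert.rowOK eqsLit 10 = true := by decide +kernel

theorem sel11 : cert.rowOK eqsLit 11 = true := by decide +kernel

theorem sel12 : cert.rowOK eqsLit 12 = true := by decide +kernel

theorem sel13 : cert.rowOK eqsLit 13 = true := by decide +kernel

theorem sel14 : cert.rowOK eqsLit 14 = true := by decide +kernel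

theorem sel15 : cert.rowOK eqsLit 15 = true := by decide +kernel

theorem sel16 : cert.rowOK eqsLit 16 = true := by decide +kernel

theorem sel17 : cert.rowOK eqsLit 17 = true := by decide +kernel

theorem sel18 : cert.rowOK eqsLit 18 = true := by decide +kernel

theorem sel19 : cert.rowOK eqsLit 19 = true := by decide +kernel

theorem sel20 : cert.rowOK eqsLit 20 = true := by decide +kernel

theorem sel21 : cert.rowOK eqsLit 21 = true := by decide +kernel

theorem cert_ok : cert.ok = true :=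
  Cert.ok_of_lit cert eqs_lit base_ok fun j hj => match j, hj with
    | 0, _ => sel0
    | 1, _ => sel1
    | 2, _ => sel2
    | 3, _ => sel3
    | 4, _ => sel4
    | 5, _ => sel5
    | 6, _ => sel6
    | 7, _ => sel7
    | 8, _ => sel8
    | 9, _ => sel9
    | 10, _ => sel10
    | 11, _ => sel11
    | 12, _ => sel12
    | 13, _ => sel13
    | 14, _ => sel14
    | 15, _ => sel15
    | 16, _ => sel16
    | 17, _ => sel17
    | 18, _ => sel18
    | 19, _ => sel19
    | 20, _ => sel20
    | 21, _ => sel21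
    | _ + 22, h => absurd (show _ < 22 from h) (by omega)

theorem pcw_ok : wordsOK fixed pcw = true ∧ wordsOK fixed fw = true := by decide +kernel

theorem row0 : ruleRow cert pcw 0 = true := by decide +kernel

theorem row1 : ruleRow cert pcw 1 = true := by decide +kernel

theorem row2 : ruleRow cert pcw 2 = true := by decide +kernel

theorem row3 : ruleRow cert pcw 3 = true := by decide +kernel

theorem row4 : ruleRow cert pcw 4 = true := by decide +kernel

theorem row5 : ruleRow cert pcw 5 = true := by decide +kernel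

theorem row6 : ruleRow cert pcw 6 = true := by decide +kernel

theorem row7 : ruleRow cert pcw 7 = true := by decide +kernel

theorem row8 : ruleRow cert pcw 8 = true := by decide +kernel

theorem row9 : ruleRow cert pcw 9 = true := by decide +kernel

theorem row10 : ruleRow cert pcw 10 = true := by decide +kernel

theorem row11 : ruleRow cert pcw 11 = true := by decide +kernel

theorem row12 : ruleRow cert pcw 12 = true := by decide +kernel

theorem row13 : ruleRow cert pcw 13 = true := by decide +kernel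

theorem row14 : ruleRow cert pcw 14 = true := by decide +kernel

theorem row15 : ruleRow cert pcw 15 = true := by decide +kernel

theorem row16 : ruleRow cert pcw 16 = true := by decide +kernel

theorem row17 : ruleRow cert pcw 17 = true := by decide +kernel

theorem row18 : ruleRow cert pcw 18 = true := by decide +kernel

theorem row19 : ruleRow cert pcw 19 = true := by decide +kernel

theorem row20 : ruleRow cert pcw 20 = true := by decide +kernel

theorem row21 : ruleRow cert pcw 21 = true := by decide +kernel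

theorem fus_ok : fusOK cert pcw fw = true := by decide +kernel

theorem orbs_ok : (List.range 22).all (fun k => orbOK 22 pcw k (orbs.getD k [])) = true := by decide +kernel

theorem rows_ok : ∀ j < 22, ruleRow cert pcw j = true
  | 0, _ => row0
  | 1, _ => row1
  | 2, _ => row2
  | 3, _ => row3
  | 4, _ => row4
  | 5, _ => row5
  | 6, _ => row6
  | 7, _ => row7
  | 8, _ => row8
  | 9, _ => row9
  | 10, _ => row10
  | 11, _ => row11
  | 12, _ => row12
  | 13, _ => row13
  | 14, _ => row14
  | 15, _ => row15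
  | 16, _ => row16
  | 17, _ => row17
  | 18, _ => row18
  | 19, _ => row19
  | 20, _ => row20
  | 21, _ => row21
  | _ + 22, h => absurd h (by omega)

end Cfsg.Lib.Leech.Mult.Co0P2
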