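import Cfsg.Agent.Leech.Mult.Co3P2
import Cfsg.Agent.Leech.Mult.Co3P3
import Cfsg.Agent.Leech.Mult.Co3P5
import Cfsg.Agent.Leech.PointSimple
import Cfsg.Agent.Schur.Criteria
import Cfsg.Prelude.Def_Spor_Conway
import Cfsg.Prelude.Def_KGroupFacts

/-!
The stabiliser of a vector of norm 48 has trivial multiplier.
-/

set_option autoImplicit false

namespace Cfsg.Lib.Leech.Mult

open Cfsg Cfsg.Lib.Golay Stab MulAction

/-- The key of the vector. -/
abbrev k48 : ℕ := Co3P2.kD_2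

theorem k48_ok : (inL (dec k48) && decide (Cfsg.sqNorm (dec k48) ≤ 64)) = true ∧ Cfsg.sqNorm (dec k48) = 48 := by
  decide +kernel

/-- The vector. -/
noncomputable def w48 : leechLattice := ⟨dec k48, (short_of_check k48_ok.1).1⟩

theorem lift48 (w : List Atom) (h : wordsOK [k48] [w] = true) : ∃ q : stabilizer Co0 w48, (q : Co0) = el w := by
  simp only [wordsOK, List.all_cons, List.all_nil, Bool.and_true, Bool.and_eq_true, beq_iff_eq] at h
  obtain ⟨h1, e⟩ := el_smul h.1 (short_of_check k48_ok.1)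
  exact ⟨⟨el w, mem_stabilizer_iff.mpr (e.trans (Subtype.ext (congrArg dec h.2)))⟩, rfl⟩

theorem stab48_ker {Γ : Type} [Group Γ] [Finite Γ] {σ : Γ →* stabilizer Co0 w48} (hσ : Cfsg.IsStemExtension σ) :
    σ.ker = ⊥ := by
  haveI := finite_co0
  have hcard : Nat.card (stabilizer Co0 w48) = 495766656000 := card_stabilizer48 (v := w48) k48_ok.2
  have hd : ∀ p : ℕ, p.Prime → p ^ 2 ∣ 495766656000 → p = 2 ∨ p = 3 ∨ p = 5 := by
    intro p hp h2
    have h1 : p ∣ 2 ^ 10 * 3 ^ 7 * 5 ^ 3 * (7 * 11 * 23) := (dvd_pow_self p two_ne_zero).trans (by norm_num; exact h2)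
    rcases hp.dvd_mul.mp h1 with h1 | h1
    · rcases hp.dvd_mul.mp h1 with h1 | h1
      · rcases hp.dvd_mul.mp h1 with h1 | h1
        · exact Or.inl ((Nat.prime_dvd_prime_iff_eq hp Nat.prime_two).mp (hp.dvd_of_dvd_pow h1))
        · exact Or.inr (Or.inl ((Nat.prime_dvd_prime_iff_eq hp Nat.prime_three).mp (hp.dvd_of_dvd_pow h1)))
      · exact Or.inr (Or.inr ((Nat.prime_dvd_prime_iff_eq hp Nat.prime_five).mp (hp.dvd_of_dvd_pow h1)))
    · rcases hp.dvd_mul.mp h1 with h1 | h1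
      · rcases hp.dvd_mul.mp h1 with h1 | h1
        · rw [(Nat.prime_dvd_prime_iff_eq hp (by norm_num)).mp h1] at h2; norm_num at h2
        · rw [(Nat.prime_dvd_prime_iff_eq hp (by norm_num)).mp h1] at h2; norm_num at h2
      · rw [(Nat.prime_dvd_prime_iff_eq hp (by norm_num)).mp h1] at h2; norm_num at h2
  have hf : ∀ p k : ℕ, p.Prime → p ^ k ∣ 495766656000 → ¬ p ^ (k + 1) ∣ 495766656000 →
      (Nat.card (stabilizer Co0 w48)).factorization p = k := fun p k hp h1 h2 => by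
    rw [hcard]
    refine le_antisymm ?_ ((hp.pow_dvd_iff_le_factorization (by norm_num)).mp h1)
    by_contra h
    exact h2 ((hp.pow_dvd_iff_le_factorization (by norm_num)).mpr (by omega))
  refine Cfsg.Lib.Schur.ker_eq_bot_of_sylow hσ fun p hp => ?_
  haveI := hp
  by_cases h2 : p ^ 2 ∣ 495766656000
  · have hi : Function.Injective (stabilizer Co0 w48).subtype := Subgroup.subtype_injective _
    rcases hd p hp.out h2 with rfl | rfl | rfl
    · exact Co3P2.cert.exists_sylow (not_dvd_ker _ hi [k48] lift48 Co3P2.cert (show Nat.Prime 2 by norm_num)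
        Co3P2.cert_ok Co3P2.pcw Co3P2.fw Co3P2.pcw_ok.1 Co3P2.pcw_ok.2 Co3P2.rows_ok Co3P2.fus_ok Co3P2.orbs
        (fun k hk => List.all_eq_true.mp Co3P2.orbs_ok k (List.mem_range.mpr hk))
        (hf 2 10 (by norm_num) (by norm_num) (by norm_num)) hσ)
    · exact Co3P3.cert.exists_sylow (not_dvd_ker _ hi [k48] lift48 Co3P3.cert (show Nat.Prime 3 by norm_num)
        Co3P3.cert_ok Co3P3.pcw Co3P3.fw Co3P3.pcw_ok.1 Co3P3.pcw_ok.2 Co3P3.rows_ok Co3P3.fus_ok Co3P3.orbs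
        (fun k hk => List.all_eq_true.mp Co3P3.orbs_ok k (List.mem_range.mpr hk))
        (hf 3 7 (by norm_num) (by norm_num) (by norm_num)) hσ)
    · exact Co3P5.cert.exists_sylow (not_dvd_ker _ hi [k48] lift48 Co3P5.cert (show Nat.Prime 5 by norm_num)
        Co3P5.cert_ok Co3P5.pcw Co3P5.fw Co3P5.pcw_ok.1 Co3P5.pcw_ok.2 Co3P5.rows_ok Co3P5.fus_ok Co3P5.orbs
        (fun k hk => List.all_eq_true.mp Co3P5.orbs_ok k (List.mem_range.mpr hk))
        (hf 5 3 (by norm_num) (by norm_num) (by norm_num)) hσ)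
  · exact Cfsg.Lib.Schur.exists_sylow_cyclic hσ (by rwa [hcard])

/-- The defined group as a stabiliser. -/
def co3Equiv : ↥Cfsg.Spor.Co3 ≃* stabilizer Co0 Cfsg.Spor.leechV where
  toFun g := ⟨⟨g.1, g.2.1⟩, g.2.2⟩
  invFun g := ⟨g.1.1, g.1.2, g.2⟩
  left_inv _ := rfl
  right_inv _ := rfl
  map_mul' _ _ := rfl

theorem vecV_norm : Cfsg.sqNorm Cfsg.Spor.vecV = 48 := by decide +kernel

theorem co3_multiplier : Cfsg.HasCyclicSchurMultiplier ↥Cfsg.Spor.Co3 1 := by
  haveI := finite_co0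
  obtain ⟨g, hg⟩ := transitive48 Cfsg.Spor.leechV w48 vecV_norm k48_ok.2
  let e : ↥Cfsg.Spor.Co3 ≃* stabilizer Co0 w48 := co3Equiv.trans (stabConj g hg)
  haveI : Finite ↥Cfsg.Spor.Co3 := Finite.of_equiv _ e.symm.toEquiv
  refine Cfsg.Lib.Schur.hasCyclicSchurMultiplier_one_of fun Γ _ _ σ hσ => ?_
  have hk : (e.toMonoidHom.comp σ).ker = σ.ker := by
    ext z
    rw [MonoidHom.mem_ker, MonoidHom.mem_ker]
    exact map_eq_one_iff e e.injective
  have := stab48_ker (σ := e.toMonoidHom.comp σ) ⟨e.surjective.comp hσ.1, hk ▸ hσ.2.1, hk ▸ hσ.2.2⟩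
  rwa [hk] at this

end Cfsg.Lib.Leech.Mult
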