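import Cfsg.Agent.Leech.Mult.Elem
import Cfsg.Agent.Schur.PrimeCert

/-!
Certificates for Sylow subgroups of subgroups of the automorphism group of the lattice, given by words.
-/

set_option autoImplicit false

namespace Cfsg.Lib.Leech.Mult

open Cfsg Cfsg.Lib.Golay Stab
open Cfsg.Lib.Schur.Prime (Cert val sub)

universe u v

/-- The word of a product of generators. -/
def words (pcw : List (List Atom)) (l : List ℕ) : List Atom := l.flatMap fun k => pcw.getD k []

/-- Words of valid atoms fixing the given keys. -/
def wordsOK (fixed : List ℕ) (ws : List (List Atom)) : Bool :=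
  ws.all fun w => w.all (·.ok) && fixed.all fun B => evalW w B == B

/-- The rules with a given first index. -/
def ruleRow (c : Cert) (pcw : List (List Atom)) (j : ℕ) : Bool :=
  (List.range (j + 1)).all fun i => eqW (words pcw (c.lhs j i)) (words pcw (c.tail j i))

/-- The conjugations. -/
def fusOK (c : Cert) (pcw fw : List (List Atom)) : Bool :=
  (List.range c.fuse.length).all fun f =>
    (List.range (c.fuse.getD f ([], [], [])).1.length).all fun k =>
      eqW (fw.getD f [] ++ words pcw ((c.fuse.getD f ([], [], [])).1.getD k []))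
        (words pcw ((c.fuse.getD f ([], [], [])).2.1.getD k []) ++ fw.getD f [])

/-- A set of keys stable under the later generators and left by the current one. -/
def orbOK (n : ℕ) (pcw : List (List Atom)) (k : ℕ) (O : List ℕ) : Bool :=
  let v := O.getD 0 0
  inL (dec v) && decide (Cfsg.sqNorm (dec v) ≤ 64) &&
    O.all (fun K => decide (K < 1329227995784915872903807060280344576)) &&
    decide (evalW (pcw.getD k []) v < 1329227995784915872903807060280344576) && O.contains v &&
    !(O.contains (evalW (pcw.getD k []) v)) &&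
    (List.range n).all fun i => Nat.ble i k || O.all fun K => O.contains (evalW (pcw.getD i []) K)

theorem el_words (pcw : List (List Atom)) : ∀ l : List ℕ,
    el (words pcw l) = (l.map fun k => el (pcw.getD k [])).prod
  | [] => rfl
  | k :: l => by
    rw [show words pcw (k :: l) = pcw.getD k [] ++ words pcw l from List.flatMap_cons .., el_append, el_words pcw l,
      List.map_cons, List.prod_cons]

theorem words_ok {fixed : List ℕ} {pcw : List (List Atom)} (h : wordsOK fixed pcw = true) (l : List ℕ) :
    (words pcw l).all (·.ok) = true := by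
  simp only [wordsOK, List.all_eq_true, Bool.and_eq_true] at h
  simp only [words, List.all_eq_true, List.mem_flatMap]
  rintro a ⟨k, -, ha⟩
  by_cases hk : k < pcw.length
  · rw [List.getD_eq_getElem _ _ hk] at ha
    exact (h _ (List.getElem_mem hk)).1 a ha
  · rw [List.getD_eq_default _ _ (not_lt.mp hk)] at ha
    simp at ha

variable {Q : Type v} [Group Q] [Finite Q] (ι : Q →* Co0)

theorem moves_in_orbit (hι : Function.Injective ι) {n : ℕ} {pcw : List (List Atom)} {fixed : List ℕ}
    (hw : wordsOK fixed pcw = true) (x : ℕ → Q) (hx : ∀ k, ι (x k) = el (pcw.getD k []))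
    {k : ℕ} {O : List ℕ} (hO : orbOK n pcw k O = true) :
    x k ∉ Subgroup.closure (x '' {i | k + 1 ≤ i ∧ i < n}) := by
  simp only [orbOK, Bool.and_eq_true, Bool.not_eq_true', List.all_eq_true, List.mem_range, Bool.or_eq_true,
    Nat.ble_eq, List.contains_iff_mem, decide_eq_true_eq] at hO
  obtain ⟨⟨⟨⟨⟨⟨hv1, hv2⟩, hbound⟩, hboundk⟩, hvO⟩, hout⟩, hstab⟩ := hO
  have hvS : Short (O.getD 0 0) := ⟨mem_of_inL hv1, hv2⟩
  intro hmem
  have key : ∀ q ∈ Subgroup.closure (x '' {i | k + 1 ≤ i ∧ i < n}), ∀ K ∈ O, ∀ hK : Short K,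
      ∃ K' ∈ O, ∃ hK' : Short K', ι q • (⟨dec K, hK.1⟩ : leechLattice) = ⟨dec K', hK'.1⟩ := by
    intro q hq
    induction hq using Subgroup.closure_induction with
    | mem y hy =>
      obtain ⟨i, ⟨hi1, hi2⟩, rfl⟩ := hy
      intro K hKO hK
      have hok : (pcw.getD i []).all (·.ok) = true := by simpa [words] using words_ok hw [i]
      obtain ⟨hK', e⟩ := el_smul hok hK
      exact ⟨_, (hstab i hi2).resolve_left (by omega) K hKO, hK', by rw [hx, e]⟩
    | one => intro K hKO hK; exact ⟨K, hKO, hK, by rw [map_one, one_smul]⟩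
    | mul a b _ _ ha hb =>
      intro K hKO hK
      obtain ⟨K1, h1, s1, e1⟩ := hb K hKO hK
      obtain ⟨K2, h2, s2, e2⟩ := ha K1 h1 s1
      exact ⟨K2, h2, s2, by rw [map_mul, mul_smul, e1, e2]⟩
    | inv a _ ha =>
      have hpow : ∀ m : ℕ, ∀ K ∈ O, ∀ hK : Short K,
          ∃ K' ∈ O, ∃ hK' : Short K', ι (a ^ m) • (⟨dec K, hK.1⟩ : leechLattice) = ⟨dec K', hK'.1⟩ := by
        intro m
        induction m with
        | zero => intro K hKO hK; exact ⟨K, hKO, hK, by rw [pow_zero, map_one, one_smul]⟩
        | succ m ih =>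
          intro K hKO hK
          obtain ⟨K1, h1, s1, e1⟩ := ha K hKO hK
          obtain ⟨K2, h2, s2, e2⟩ := ih K1 h1 s1
          exact ⟨K2, h2, s2, by rw [pow_succ, map_mul, mul_smul, e1, e2]⟩
      rw [show a⁻¹ = a ^ (orderOf a - 1) from inv_eq_of_mul_eq_one_left (by
        rw [← pow_succ, Nat.sub_add_cancel (orderOf_pos a), pow_orderOf_eq_one])]
      exact hpow _
  obtain ⟨K', hK'O, hK', e⟩ := key _ hmem _ hvO hvS
  have hok : (pcw.getD k []).all (·.ok) = true := by simpa [words] using words_ok hw [k]
  obtain ⟨hK2, e2⟩ := el_smul hok hvS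
  rw [hx, e2] at e
  have h5 : dec (evalW (pcw.getD k []) (O.getD 0 0)) = dec K' := congrArg Subtype.val e
  have := key_ext (by norm_num; exact hboundk) (by norm_num; exact hbound K' hK'O) h5
  rw [this] at hout
  simp [List.contains_iff_mem, hK'O] at hout

omit [Finite Q] in
theorem map_val {pcw : List (List Atom)} (x : ℕ → Q) (hx : ∀ k, ι (x k) = el (pcw.getD k [])) (l : List ℕ) :
    ι (val x l) = el (words pcw l) := by
  rw [el_words, val, map_list_prod, List.map_map]
  exact congrArg List.prod (List.map_congr_left fun k _ => hx k)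

/-- A checked certificate with words and preimages excludes the prime from the kernel of a stem extension. -/
theorem not_dvd_ker_of (hι : Function.Injective ι) (fixed : List ℕ)
    (c : Cert) (hp : c.p.Prime) (hc : c.ok = true) (pcw fw : List (List Atom))
    (hpw : wordsOK fixed pcw = true) (hfw : wordsOK fixed fw = true)
    (hrules : ∀ j < c.n, ruleRow c pcw j = true) (hfus : fusOK c pcw fw = true)
    (O : List (List ℕ)) (hO : ∀ k < c.n, orbOK c.n pcw k (O.getD k []) = true)
    (hcard : (Nat.card Q).factorization c.p = c.n)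
    (hpre : ∀ k, ∃ q : Q, ι q = el (pcw.getD k [])) (hpre' : ∀ k, ∃ q : Q, ι q = el (fw.getD k []))
    {Γ : Type u} [Group Γ] [Finite Γ] {σ : Γ →* Q} (hσ : Cfsg.IsStemExtension σ) :
    ¬ c.p ∣ Nat.card σ.ker := by
  choose x hx using hpre
  choose g hg using hpre'
  have hr : ∀ j < c.n, ∀ i ≤ j, val x (c.lhs j i) = val x (c.tail j i) := by
    intro j hj i hi
    have h := hrules j hj
    simp only [ruleRow, List.all_eq_true, List.mem_range] at h
    refine hι ?_
    rw [map_val ι x hx, map_val ι x hx]
    exact el_eq (words_ok hpw _) (words_ok hpw _) (h i (by omega))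
  have hf : ∀ f ∈ c.fuse, ∃ g, ∀ k < f.1.length,
      g * val x (f.1.getD k []) * g⁻¹ = val x (f.2.1.getD k []) := by
    intro f hf
    obtain ⟨i, hi, rfl⟩ := List.mem_iff_getElem.mp hf
    refine ⟨g i, fun k hk => ?_⟩
    have h := List.all_eq_true.mp hfus i (List.mem_range.mpr hi)
    rw [List.getD_eq_getElem _ _ hi] at h
    have h' := List.all_eq_true.mp h k (List.mem_range.mpr hk)
    have hgok : (fw.getD i []).all (·.ok) = true := by simpa [words] using words_ok hfw [i]
    have e := el_eq (by rw [List.all_append, hgok, words_ok hpw, Bool.and_self])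
      (by rw [List.all_append, hgok, words_ok hpw, Bool.and_self]) h'
    rw [el_append, el_append, ← hg, ← map_val ι x hx, ← map_val ι x hx, ← map_mul, ← map_mul] at e
    rw [mul_inv_eq_iff_eq_mul]
    exact hι e
  have hshape : c.shapesOK = true := by
    simp only [Cert.ok, Bool.and_eq_true] at hc
    exact hc.1.2
  have hup := Cfsg.Lib.Schur.Prime.card_sub_le c hshape hp.pos x hr
  have hlow : ∀ d k, k + d = c.n → c.p ^ d ≤ Nat.card (sub c x k) := by
    intro d
    induction d with
    | zero => intro k _; rw [pow_zero]; exact Nat.card_pos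
    | succ d ih =>
      intro k hk
      have hnot := moves_in_orbit ι hι hpw x hx (hO k (by omega))
      have hle : sub c x (k + 1) ≤ sub c x k :=
        Subgroup.closure_mono (Set.image_mono fun i hi => ⟨(Nat.le_succ k).trans hi.1, hi.2⟩)
      have hxk : x k ∈ sub c x k := Subgroup.subset_closure ⟨k, ⟨le_rfl, by omega⟩, rfl⟩
      have hpow : x k ^ c.p ∈ sub c x (k + 1) := by
        have h := hr k (by omega) k le_rfl
        simp only [Cert.lhs, beq_self_eq_true, cond_true, val, List.map_replicate, List.prod_replicate] at h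
        rw [h]
        simp only [Cert.shapesOK, List.all_eq_true, List.mem_range, Bool.or_eq_true, Nat.blt, Nat.ble_eq] at hshape
        have hs := (hshape k (by omega) k (by omega)).resolve_left (by omega)
        simp only [Cert.shapeOK, beq_self_eq_true, cond_true, List.all_eq_true, Bool.and_eq_true, Nat.blt,
          Nat.ble_eq] at hs
        exact Subgroup.list_prod_mem _ fun z hz => by
          obtain ⟨q, hq, rfl⟩ := List.mem_map.mp hz
          exact Subgroup.subset_closure ⟨q, ⟨(hs q hq).1, (hs q hq).2⟩, rfl⟩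
      let F : Fin c.p × sub c x (k + 1) → sub c x k := fun a =>
        ⟨x k ^ (a.1 : ℕ) * a.2, mul_mem (pow_mem hxk _) (hle a.2.2)⟩
      have hF : Function.Injective F := by
        rintro ⟨m, a⟩ ⟨m', a'⟩ e
        have e' : x k ^ (m : ℕ) * (a : Q) = x k ^ (m' : ℕ) * (a' : Q) := congrArg Subtype.val e
        have hz : x k ^ ((m : ℤ) - (m' : ℤ)) ∈ sub c x (k + 1) := by
          have : x k ^ ((m : ℤ) - (m' : ℤ)) = (a' : Q) * (a : Q)⁻¹ := by
            rw [zpow_sub, zpow_natCast, zpow_natCast, (Commute.pow_pow_self (x k) (m : ℕ) (m' : ℕ)).inv_right.eq,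
              eq_mul_inv_iff_mul_eq, mul_assoc, e', inv_mul_cancel_left]
          rw [this]
          exact mul_mem a'.2 (inv_mem a.2)
        have hmm : m = m' := by
          by_contra hne
          refine hnot ?_
          have hcop : IsCoprime ((m : ℤ) - (m' : ℤ)) (c.p : ℤ) := by
            refine Int.isCoprime_iff_gcd_eq_one.mpr ?_
            rw [Int.gcd_comm]
            refine (Nat.Prime.coprime_iff_not_dvd hp).mpr fun hd => hne (Fin.ext ?_)
            have h1 := m.2
            have h2 := m'.2
            have := Nat.eq_zero_of_dvd_of_lt hd (by omega)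
            omega
          obtain ⟨a, b, hab⟩ := hcop
          rw [show x k = (x k ^ ((m : ℤ) - (m' : ℤ))) ^ a * (x k ^ (c.p : ℤ)) ^ b by
            rw [← zpow_mul, ← zpow_mul, ← zpow_add, mul_comm _ a, mul_comm _ b, hab, zpow_one]]
          exact mul_mem (zpow_mem hz a) (zpow_mem (by rwa [zpow_natCast]) b)
        subst hmm
        exact Prod.ext rfl (Subtype.ext (mul_left_cancel e'))
      have := Nat.card_le_card_of_injective F hF
      rw [Nat.card_prod, Nat.card_fin] at this
      calc c.p ^ (d + 1) = c.p * c.p ^ d := pow_succ' _ _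
        _ ≤ c.p * Nat.card (sub c x (k + 1)) := Nat.mul_le_mul_left _ (ih (k + 1) (by omega))
        _ ≤ _ := this
  have hset : ({i | 0 ≤ i ∧ i < c.n} : Set ℕ) = {i | i < c.n} := by ext; simp
  have heq : Nat.card (Subgroup.closure (x '' {i | i < c.n})) = c.p ^ c.n := by
    have h1 := hup c.n 0 (Nat.zero_add _)
    have h2 := hlow c.n 0 (Nat.zero_add _)
    rw [sub, hset] at h1 h2
    exact le_antisymm h1 h2
  exact Cert.not_dvd c hp hc hσ x hr hf (by rw [heq, hcard]) heq.symm


/-- A checked certificate with words excludes the prime from the kernel of a stem extension. -/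
theorem not_dvd_ker (hι : Function.Injective ι) (fixed : List ℕ)
    (hlift : ∀ w : List Atom, wordsOK fixed [w] = true → ∃ q : Q, ι q = el w)
    (c : Cert) (hp : c.p.Prime) (hc : c.ok = true) (pcw fw : List (List Atom))
    (hpw : wordsOK fixed pcw = true) (hfw : wordsOK fixed fw = true)
    (hrules : ∀ j < c.n, ruleRow c pcw j = true) (hfus : fusOK c pcw fw = true)
    (O : List (List ℕ)) (hO : ∀ k < c.n, orbOK c.n pcw k (O.getD k []) = true)
    (hcard : (Nat.card Q).factorization c.p = c.n)
    {Γ : Type u} [Group Γ] [Finite Γ] {σ : Γ →* Q} (hσ : Cfsg.IsStemExtension σ) :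
    ¬ c.p ∣ Nat.card σ.ker := by
  have hl : ∀ ws : List (List Atom), wordsOK fixed ws = true → ∀ k, ∃ q : Q, ι q = el (ws.getD k []) := by
    intro ws hws k
    by_cases hk : k < ws.length
    · refine hlift _ ?_
      rw [List.getD_eq_getElem _ _ hk]
      simp only [wordsOK, List.all_eq_true] at hws ⊢
      intro w hw
      rw [List.mem_singleton.mp hw]
      exact hws _ (List.getElem_mem hk)
    · exact ⟨1, by rw [List.getD_eq_default _ _ (not_lt.mp hk), map_one]; rfl⟩
  exact not_dvd_ker_of ι hι fixed c hp hc pcw fw hpw hfw hrules hfus O hO hcard (hl pcw hpw) (hl fw hfw) hσ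

end Cfsg.Lib.Leech.Mult
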