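import Cfsg.Agent.Leech.Mult.Group

/-!
Membership in a subgroup of the automorphism group of the lattice by straight-line programs of words.
-/

set_option autoImplicit false

namespace Cfsg.Lib.Leech.Mult

open Cfsg Cfsg.Lib.Golay Stab

/-- One step of a program: a word equal to a product, or to an inverse, of earlier ones. -/
def slpOK (ws : List (List Atom)) (rs : List (List ℕ × Bool)) (i : ℕ) : Bool :=
  Nat.ble rs.length i || (((rs.getD i ([], false)).1.all fun r => Nat.blt r i) &&
    bif (rs.getD i ([], false)).2 then eqW (ws.getD i [] ++ words ws (rs.getD i ([], false)).1) []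
    else eqW (ws.getD i []) (words ws (rs.getD i ([], false)).1))

/-- The steps after the starting ones, in blocks of ten. -/
def slpBlock (base : ℕ) (ws : List (List Atom)) (rs : List (List ℕ × Bool)) (j : ℕ) : Bool :=
  (List.range 10).all fun t => Nat.blt (10 * j + t) base || slpOK ws rs (10 * j + t)

theorem slp_mem {Γ : Subgroup Co0} {base m : ℕ} {ws : List (List Atom)} {rs : List (List ℕ × Bool)}
    (hok : wordsOK [] ws = true) (hbase : ∀ i < base, el (ws.getD i []) ∈ Γ)
    (hlen : (decide (ws.length ≤ rs.length) && decide (rs.length ≤ 10 * m)) = true)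
    (hblk : ∀ j < m, slpBlock base ws rs j = true) : ∀ i, el (ws.getD i []) ∈ Γ := by
  simp only [Bool.and_eq_true, decide_eq_true_eq] at hlen
  intro i
  induction i using Nat.strong_induction_on with
  | _ i ih =>
    by_cases hb : i < base
    · exact hbase i hb
    by_cases hi : i < ws.length
    · have h := hblk (i / 10) (Nat.div_lt_of_lt_mul (by omega))
      simp only [slpBlock, List.all_eq_true, List.mem_range, Bool.or_eq_true, Nat.blt, Nat.ble_eq] at h
      have h' := h (i % 10) (Nat.mod_lt _ (by norm_num))
      rw [Nat.div_add_mod] at h'
      have h2 := h'.resolve_left (by omega)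
      simp only [slpOK, Bool.or_eq_true, Nat.ble_eq, Bool.and_eq_true, List.all_eq_true, Nat.blt] at h2
      obtain ⟨hlt, he⟩ := h2.resolve_left (by omega)
      have hprod : el (words ws (rs.getD i ([], false)).1) ∈ Γ := by
        rw [el_words]
        refine Subgroup.list_prod_mem _ fun z hz => ?_
        obtain ⟨r, hr, rfl⟩ := List.mem_map.mp hz
        exact ih r (hlt r hr)
      have hwi : (ws.getD i []).all (·.ok) = true := by simpa [words] using words_ok hok [i]
      cases hinv : (rs.getD i ([], false)).2
      · rw [hinv, cond_false] at he
        rw [el_eq hwi (words_ok hok _) he]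
        exact hprod
      · rw [hinv, cond_true] at he
        have e := el_eq (by rw [List.all_append, hwi, words_ok hok, Bool.and_self]) rfl he
        rw [el_append, show el [] = 1 from rfl] at e
        rw [eq_inv_of_mul_eq_one_left e]
        exact inv_mem hprod
    · rw [List.getD_eq_default _ _ (not_lt.mp hi)]
      exact one_mem _

end Cfsg.Lib.Leech.Mult
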